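import Groth.Agent.DRing.Braid
import Groth.Agent.DRing.Homology
import Groth.Agent.DRing.KFlatRes
import Groth.Prelude.Def_HTor

/-!
# Elements of total tensor products of complexes; the Künneth map
-/

universe u

open CategoryTheory CategoryTheory.Limits MonoidalCategory
open scoped TensorProduct

namespace Groth.Agent.HTor95.Te

open DRing.Tensor DRing.Homology

variable {A : Type u} [CommRing A] {L P Q : CochainComplex (ModuleCat.{u} A) ℤ}

/-- The Koszul sign. -/
def sg (A : Type u) [CommRing A] (p : ℤ) : A := (((p.negOnePow : ℤˣ) : ℤ) : A)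

theorem sg_mul_self (p : ℤ) : sg A p * sg A p = 1 := by
  rw [sg, ← Int.cast_mul, ← Units.val_mul, Int.units_mul_self, Units.val_one, Int.cast_one]

theorem sg_succ (p : ℤ) : sg A (p + 1) = -sg A p := by
  simp [sg, Int.negOnePow_succ]

theorem sg_smul_sg_smul {M : Type*} [AddCommGroup M] [Module A M] (p : ℤ) (x : M) :
    sg A p • sg A p • x = x := by
  rw [smul_smul, sg_mul_self, one_smul]

variable (L P) in
/-- The bilinear inclusion of a summand. -/
noncomputable def te (p q n : ℤ) (h : p + q = n) : L.X p →ₗ[A] P.X q →ₗ[A] (L ⊗ P).X n :=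
  (TensorProduct.mk A (L.X p) (P.X q)).compr₂ (ιT L P p q n h).hom

theorem te_def (p q n : ℤ) (h : p + q = n) (x : L.X p) (y : P.X q) :
    te L P p q n h x y = (ιT L P p q n h).hom (x ⊗ₜ[A] y) := rfl

theorem d_te (p q n n' : ℤ) (h : p + q = n) (hn : n + 1 = n') (x : L.X p) (y : P.X q) :
    ((L ⊗ P).d n n').hom (te L P p q n h x y) =
      te L P (p + 1) q n' (by omega) ((L.d p (p + 1)).hom x) y +
        sg A p • te L P p (q + 1) n' (by omega) x ((P.d q (q + 1)).hom y) := by
  rw [sg, Int.cast_smul_eq_zsmul]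
  exact congrArg (fun f => f.hom (x ⊗ₜ[A] y)) (ιT_d (L := L) (P := P) p q n n' h hn)

theorem map_te (g : P ⟶ Q) (p q n : ℤ) (h : p + q = n) (x : L.X p) (y : P.X q) :
    ((L ◁ g).f n).hom (te L P p q n h x y) = te L Q p q n h x ((g.f q).hom y) :=
  congrArg (fun f => f.hom (x ⊗ₜ[A] y)) (ιT_whiskerLeft (L := L) g p q n h)

theorem te_induction {n : ℤ} {motive : (L ⊗ P).X n → Prop} (zero : motive 0)
    (add : ∀ a b, motive a → motive b → motive (a + b))
    (te : ∀ p q h x y, motive (te L P p q n h x y)) (w : (L ⊗ P).X n) : motive w := by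
  classical
  obtain ⟨z, rfl⟩ : ∃ z, (fromSum L P n).hom z = w :=
    (ModuleCat.epi_iff_surjective (sumIso L P n).inv).1 inferInstance w
  induction z using DirectSum.induction_on with
  | zero => rw [map_zero]; exact zero
  | of k x =>
    rw [← DirectSum.lof_eq_of A, fromSum_lof]
    induction x using TensorProduct.induction_on with
    | zero => erw [map_zero]; exact zero
    | tmul x y => exact te _ _ _ x y
    | add a b ha hb => erw [map_add]; exact add _ _ ha hb
  | add a b ha hb => rw [map_add]; exact add _ _ ha hb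

theorem te_hom_ext {n : ℤ} {N : Type*} [AddCommGroup N] [Module A N] {f g : (L ⊗ P).X n →ₗ[A] N}
    (h : ∀ p q hpq x y, f (te L P p q n hpq x y) = g (te L P p q n hpq x y)) : f = g :=
  LinearMap.ext fun w => te_induction (motive := fun w => f w = g w) (by simp)
    (fun a b ha hb => by simp [map_add, ha, hb]) h w

/-- Linear maps out of the total tensor product. -/
noncomputable def desc {n : ℤ} {N : ModuleCat.{u} A}
    (F : ∀ p q, p + q = n → (L.X p →ₗ[A] P.X q →ₗ[A] N)) : (L ⊗ P).X n →ₗ[A] N :=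
  (HomologicalComplex.mapBifunctorDesc (K₁ := L) (K₂ := P) (F := curriedTensor (ModuleCat.{u} A))
    (c := ComplexShape.up ℤ) (fun p q h => ModuleCat.ofHom (TensorProduct.lift (F p q h)))).hom

@[simp] theorem desc_te {n : ℤ} {N : ModuleCat.{u} A}
    (F : ∀ p q, p + q = n → (L.X p →ₗ[A] P.X q →ₗ[A] N)) (p q : ℤ) (h : p + q = n) (x : L.X p)
    (y : P.X q) : desc F (te L P p q n h x y) = F p q h x y := by
  refine (congrArg (fun f => f.hom (x ⊗ₜ[A] y)) (HomologicalComplex.ι_mapBifunctorDesc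
    (K₁ := L) (K₂ := P) (F := curriedTensor (ModuleCat.{u} A)) (c := ComplexShape.up ℤ)
    (fun p q h => ModuleCat.ofHom (TensorProduct.lift (F p q h))) p q h)).trans ?_
  exact TensorProduct.lift.tmul x y

variable (L P) in
/-- The projection to a summand. -/
noncomputable def comp (i j n : ℤ) (h : i + j = n) : (L ⊗ P).X n →ₗ[A] L.X i ⊗[A] P.X j :=
  (DirectSum.component A _ (Fam L P n) ⟨(i, j), h⟩) ∘ₗ (toSum L P n).hom

theorem toSum_te (p q n : ℤ) (h : p + q = n) (x : L.X p) (y : P.X q) :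
    (toSum L P n).hom (te L P p q n h x y) =
      DirectSum.lof A _ (Fam L P n) ⟨(p, q), h⟩ (x ⊗ₜ[A] y) :=
  congrArg (fun f => f.hom (x ⊗ₜ[A] y)) (ιT_toSum (L := L) P p q n h)

theorem comp_te_self (i j n : ℤ) (h : i + j = n) (x : L.X i) (y : P.X j) :
    comp L P i j n h (te L P i j n h x y) = x ⊗ₜ[A] y := by
  rw [comp, LinearMap.comp_apply, toSum_te, DirectSum.component.lof_self]

theorem comp_te_ne (i j p q n : ℤ) (h : i + j = n) (h' : p + q = n) (hne : p ≠ i) (x : L.X p)
    (y : P.X q) : comp L P i j n h (te L P p q n h' x y) = 0 := by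
  rw [comp, LinearMap.comp_apply, toSum_te, DirectSum.component.of, dif_neg]
  exact fun he => hne (congrArg (fun k => k.1.1) he)

theorem iCycles_isCyc {i : ℤ} (z : P.cycles i) : IsCyc P i ((P.iCycles i).hom z) := by
  show (P.d i (i + 1)).hom _ = 0
  rw [← LinearMap.comp_apply, ← ModuleCat.hom_comp, P.iCycles_d]
  rfl

theorem homologyπ_eq_cls {i : ℤ} (z : P.cycles i) :
    (P.homologyπ i).hom z = cls ((P.iCycles i).hom z) (iCycles_isCyc z) := by
  rw [cls]
  exact congrArg _ (iCycles_injective i (iCycles_cyc _ _).symm)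

theorem cls_congr {i : ℤ} {z z' : P.X i} (e : z = z') (hz : IsCyc P i z) :
    cls z hz = cls z' (e ▸ hz) := by subst e; rfl

theorem cls_zero (i : ℤ) : cls (0 : P.X i) (isCyc_zero i) = 0 :=
  (cls_eq_zero_iff (i - 1) (sub_add_cancel i 1) _).2 ⟨0, map_zero _⟩

theorem mapH_wd {i m : ℤ} (g : P.X i →ₗ[A] Q.X m) (hc : ∀ z, IsCyc P i z → IsCyc Q m (g z))
    (hb : ∀ j (_ : j + 1 = i) (w : P.X j), ∃ (j' : ℤ) (_ : j' + 1 = m) (w' : Q.X j'),
      (Q.d j' m).hom w' = g ((P.d j i).hom w)) (z z' : P.X i) (hz : IsCyc P i z) (hz' : IsCyc P i z')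
    (h : cls z hz = cls z' hz') : cls (g z) (hc z hz) = cls (g z') (hc z' hz') := by
  obtain ⟨w, hw⟩ := (cls_eq_iff (i - 1) (sub_add_cancel i 1) hz hz').1 h
  obtain ⟨j', hj', w', hw'⟩ := hb (i - 1) (sub_add_cancel i 1) w
  exact (cls_eq_iff j' hj' _ _).2 ⟨w', by rw [hw', hw, map_sub]⟩

/-- The linear map on homology induced by a linear map preserving cycles and boundaries. -/
noncomputable def mapH {i m : ℤ} (g : P.X i →ₗ[A] Q.X m) (hc : ∀ z, IsCyc P i z → IsCyc Q m (g z))
    (hb : ∀ j (_ : j + 1 = i) (w : P.X j), ∃ (j' : ℤ) (_ : j' + 1 = m) (w' : Q.X j'),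
      (Q.d j' m).hom w' = g ((P.d j i).hom w)) : P.homology i →ₗ[A] Q.homology m where
  toFun x := cls (g (cls_surjective x).choose) (hc _ (cls_surjective x).choose_spec.choose)
  map_add' x y := by
    obtain ⟨a, ha, rfl⟩ := cls_surjective x
    obtain ⟨b, hb', rfl⟩ := cls_surjective y
    rw [mapH_wd g hc hb _ a _ ha (cls_surjective (cls a ha)).choose_spec.choose_spec,
      mapH_wd g hc hb _ b _ hb' (cls_surjective (cls b hb')).choose_spec.choose_spec,
      ← cls_add (hc a ha) (hc b hb'),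
      mapH_wd g hc hb _ (a + b) _ (ha.add hb')
        ((cls_surjective (cls a ha + cls b hb')).choose_spec.choose_spec.trans (cls_add ha hb').symm)]
    exact cls_congr (map_add g a b) _
  map_smul' c x := by
    obtain ⟨a, ha, rfl⟩ := cls_surjective x
    rw [RingHom.id_apply, mapH_wd g hc hb _ a _ ha (cls_surjective (cls a ha)).choose_spec.choose_spec,
      ← cls_smul (hc a ha) c,
      mapH_wd g hc hb _ (c • a) _ (ha.smul c)
        ((cls_surjective (c • cls a ha)).choose_spec.choose_spec.trans (cls_smul ha c).symm)]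
    exact cls_congr (map_smul g c a) _

theorem mapH_cls {i m : ℤ} (g : P.X i →ₗ[A] Q.X m) (hc : ∀ z, IsCyc P i z → IsCyc Q m (g z))
    (hb : ∀ j (_ : j + 1 = i) (w : P.X j), ∃ (j' : ℤ) (_ : j' + 1 = m) (w' : Q.X j'),
      (Q.d j' m).hom w' = g ((P.d j i).hom w)) (z : P.X i) (hz : IsCyc P i z) :
    mapH g hc hb (cls z hz) = cls (g z) (hc z hz) :=
  mapH_wd g hc hb _ z _ hz (cls_surjective (cls z hz)).choose_spec.choose_spec

section Kunneth

variable (L P) (i j n : ℤ) (h : i + j = n)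

theorem isCyc_te {x : L.X i} {y : P.X j} (hx : IsCyc L i x) (hy : IsCyc P j y) :
    IsCyc (L ⊗ P) n (te L P i j n h x y) := by
  unfold IsCyc at *
  rw [d_te i j n (n + 1) h rfl, hx, hy]
  simp

theorem cls_te_congr {x x' : L.X i} {y y' : P.X j} (hx : IsCyc L i x) (hy : IsCyc P j y)
    (hx' : IsCyc L i x') (hy' : IsCyc P j y') (ex : cls x hx = cls x' hx') (ey : cls y hy = cls y' hy') :
    cls _ (isCyc_te L P i j n h hx hy) = cls _ (isCyc_te L P i j n h hx' hy') := by
  obtain ⟨i', rfl⟩ : ∃ i', i = i' + 1 := ⟨i - 1, by omega⟩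
  obtain ⟨j', rfl⟩ : ∃ j', j = j' + 1 := ⟨j - 1, by omega⟩
  obtain ⟨w, hw⟩ := (cls_eq_iff i' rfl _ _).1 ex
  obtain ⟨v, hv⟩ := (cls_eq_iff j' rfl _ _).1 ey
  refine (cls_eq_iff (n - 1) (sub_add_cancel n 1) _ _).2
    ⟨te L P i' (j' + 1) (n - 1) (by omega) w y +
      sg A (i' + 1) • te L P (i' + 1) j' (n - 1) (by omega) x' v, ?_⟩
  rw [map_add, map_smul, d_te _ _ _ n _ (sub_add_cancel n 1), d_te _ _ _ n _ (sub_add_cancel n 1),
    hw, hv, show (P.d (j' + 1) (j' + 1 + 1)).hom y = 0 from hy,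
    show (L.d (i' + 1) (i' + 1 + 1)).hom x' = 0 from hx']
  simp only [map_zero, LinearMap.zero_apply, smul_zero, add_zero, zero_add, sg_smul_sg_smul, map_sub,
    LinearMap.sub_apply]
  abel

/-- The Künneth product of two classes. -/
noncomputable def kV (a : L.homology i) (b : P.homology j) : (L ⊗ P).homology n :=
  cls (te L P i j n h (cls_surjective a).choose (cls_surjective b).choose)
    (isCyc_te L P i j n h (cls_surjective a).choose_spec.choose (cls_surjective b).choose_spec.choose)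

theorem kV_cls {x : L.X i} (hx : IsCyc L i x) {y : P.X j} (hy : IsCyc P j y) :
    kV L P i j n h (cls x hx) (cls y hy) = cls _ (isCyc_te L P i j n h hx hy) :=
  cls_te_congr L P i j n h _ _ hx hy (cls_surjective (cls x hx)).choose_spec.choose_spec
    (cls_surjective (cls y hy)).choose_spec.choose_spec

/-- The Künneth product on classes, bilinearly. -/
noncomputable def kB : L.homology i →ₗ[A] P.homology j →ₗ[A] (L ⊗ P).homology n :=
  LinearMap.mk₂ A (kV L P i j n h)
    (fun a a' b => by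
      obtain ⟨x, hx, rfl⟩ := cls_surjective a
      obtain ⟨x', hx', rfl⟩ := cls_surjective a'
      obtain ⟨y, hy, rfl⟩ := cls_surjective b
      rw [← cls_add hx hx', kV_cls, kV_cls, kV_cls, ← cls_add]
      exact cls_congr (LinearMap.map_add₂ _ _ _ _) _)
    (fun c a b => by
      obtain ⟨x, hx, rfl⟩ := cls_surjective a
      obtain ⟨y, hy, rfl⟩ := cls_surjective b
      rw [← cls_smul hx c, kV_cls, kV_cls, ← cls_smul]
      exact cls_congr (LinearMap.map_smul₂ _ _ _ _) _)
    (fun a b b' => by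
      obtain ⟨x, hx, rfl⟩ := cls_surjective a
      obtain ⟨y, hy, rfl⟩ := cls_surjective b
      obtain ⟨y', hy', rfl⟩ := cls_surjective b'
      rw [← cls_add hy hy', kV_cls, kV_cls, kV_cls, ← cls_add]
      exact cls_congr (map_add _ _ _) _)
    (fun c a b => by
      obtain ⟨x, hx, rfl⟩ := cls_surjective a
      obtain ⟨y, hy, rfl⟩ := cls_surjective b
      rw [← cls_smul hy c, kV_cls, kV_cls, ← cls_smul]
      exact cls_congr (map_smul _ _ _) _)

theorem kB_cls {x : L.X i} (hx : IsCyc L i x) {y : P.X j} (hy : IsCyc P j y) :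
    kB L P i j n h (cls x hx) (cls y hy) = cls _ (isCyc_te L P i j n h hx hy) :=
  kV_cls L P i j n h hx hy

theorem kB_natural {Q : CochainComplex (ModuleCat.{u} A) ℤ} (g : P ⟶ Q) (a : L.homology i)
    (b : P.homology j) :
    (HomologicalComplex.homologyMap (L ◁ g) n).hom (kB L P i j n h a b) =
      kB L Q i j n h a ((HomologicalComplex.homologyMap g j).hom b) := by
  obtain ⟨x, hx, rfl⟩ := cls_surjective a
  obtain ⟨y, hy, rfl⟩ := cls_surjective b
  rw [kB_cls L P i j n h hx hy, homologyMap_cls, homologyMap_cls,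
    kB_cls L Q i j n h hx (isCyc_map g hy)]
  exact cls_congr (map_te g i j n h x y) _

end Kunneth

variable (L P) in
/-- The Künneth map. -/
noncomputable def kunneth (n : ℤ) : HTor.KunnethSum L P n →ₗ[A] (L ⊗ P).homology n :=
  DirectSum.toModule A _ _ fun ij => TensorProduct.lift (kB L P ij.1.1 ij.1.2 n ij.2)

theorem kunneth_lof (n : ℤ) (ij : HTor.Antidiag n) (a : L.homology ij.1.1) (b : P.homology ij.1.2) :
    kunneth L P n (DirectSum.lof A (HTor.Antidiag n) _ ij (a ⊗ₜ[A] b)) = kB L P ij.1.1 ij.1.2 n ij.2 a b := by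
  rw [kunneth]
  erw [DirectSum.toModule_lof]
  rfl

theorem isKunnethMap_kunneth (n : ℤ) : HTor.IsKunnethMap L P n (kunneth L P n) := by
  intro ij z z' w hw
  refine (kunneth_lof n ij _ _).trans ?_
  refine (congrArg₂ (fun a b => kB L P ij.1.1 ij.1.2 n ij.2 a b) (homologyπ_eq_cls z)
    (homologyπ_eq_cls z')).trans ?_
  refine (kB_cls L P _ _ n ij.2 _ _).trans ?_
  refine Eq.trans ?_ (homologyπ_eq_cls (P := L ⊗ P) w).symm
  exact cls_congr hw.symm _

end Groth.Agent.HTor95.Te
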