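import Groth.Agent.HTor95.BoxMain
import Groth.Agent.DRing.Homology
import Groth.Agent.HTor95.Te
import Groth.Agent.CohLin.Basic
import Groth.Agent.FormalFun.HomLift
import Groth.Agent.S0007

/-!
# Cohomology of a quasi-coherent module through resolutions by pieces, linearly
-/

set_option autoImplicit false

universe u

open CategoryTheory CategoryTheory.Limits AlgebraicGeometry TopologicalSpace Opposite
open Groth.Agent.HTor95.Box
open Groth.Agent.HTor95.Rg (gA app_comp_apply exists_cycle)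
open Groth.Agent.HTor95.Piece (IsPiece)
open Groth.Agent.DRing.Homology
open Groth.Agent.CohLin

namespace Groth.Agent.HTor95.HHModel

section Global

variable {X : Scheme.{u}}

/-- `H^0` is global sections -/
noncomputable def h0 (M : X.Modules) : Coh.HH X M 0 ≃+ Γ(M, ⊤) :=
  Sheaf.H.equiv₀ (Coh.toAb M) isTerminalTop

theorem h0_map {M N : X.Modules} (φ : M ⟶ N) (x : Coh.HH X M 0) :
    h0 N (hMap φ 0 x) = φ.app ⊤ (h0 M x) :=
  (Sheaf.H.equiv₀_naturality isTerminalTop (abMap φ) x).symm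

theorem h0_smul (M : X.Modules) (r : Coh.Γtop X) (x : Coh.HH X M 0) :
    h0 M (r • x) = (show Γ(X, ⊤) from r) • h0 M x := by
  refine ((Sheaf.H.equiv₀_naturality isTerminalTop (Coh.smulAb M r) x).symm).trans ?_
  refine (Coh.smulAb_app M r (op ⊤) _).trans ?_
  exact congrArg (fun t : Γ(X, ⊤) => t • h0 M x)
    (QCoh.rres_self (le_refl (⊤ : X.Opens)) (show Γ(X, ⊤) from r))

theorem subsingleton_HH_of_isZero {M : X.Modules} (hM : IsZero M) (n : ℕ) : Subsingleton (Coh.HH X M n) := by
  refine subsingleton_of_forall_eq 0 fun x => ?_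
  rw [← hMap_id M n x, hM.eq_of_src (𝟙 M) 0]
  exact map_zero (hMapHom M M n x)

theorem subsingleton_HH_of_iso {M N : X.Modules} (e : M ≅ N) (n : ℕ) (h : Subsingleton (Coh.HH X M n)) :
    Subsingleton (Coh.HH X N n) :=
  (hIso e n).symm.toEquiv.subsingleton

variable {A : Type u} [CommRing A] (f : X ⟶ Spec (CommRingCat.of A)) [IsAffineHom (pullback.diagonal f)]

include f in
/-- pieces have no higher cohomology -/
theorem subsingleton_HH_piece {M : X.Modules} (h : IsPiece M) :
    ∀ n : ℕ, 0 < n → Subsingleton (Coh.HH X M n) := by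
  induction h with
  | @push U hU M₀ hM =>
    intro n hn
    have : IsAffine U.toScheme := hU
    have := Piece.isAffineHom_ι f hU
    haveI hq : Coh.IsQCoh ((Scheme.Modules.restrictFunctor U.ι).obj M₀) :=
      @Scheme.Modules.isQuasicoherent_restrictFunctor _ _ U.ι _ M₀ hM
    exact FormalFun.subsingleton_HH_push U.ι _ n (Groth.Agent.S0007.result _ _ n hn)
  | zero h => exact fun n _ => subsingleton_HH_of_isZero h n
  | @biprod M N _ _ h₁ h₂ =>
    intro n hn
    have := h₁ n hn
    have := h₂ n hn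
    exact subsingleton_X₂ (S := ShortComplex.mk biprod.inl biprod.snd biprod.inl_snd)
      (ShortComplex.Splitting.ofHasBinaryBiproduct M N).shortExact
  | iso e _ h => exact fun n hn => subsingleton_HH_of_iso e n (h n hn)

end Global

variable {A : Type u} [CommRing A] {X : Scheme.{u}} [X.Over (Spec (CommRingCat.of A))]
  (R : CochainComplex X.Modules ℤ)


/-- `H^0` is global sections, linearly -/
noncomputable def h0A (M : X.Modules) : Coh.HH X M 0 ≃ₗ[A] (HTor.globalSectionsA (X ↘ Spec (CommRingCat.of A))).obj M :=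
  ({ h0 M with
      map_smul' := fun a x => by
        refine (h0_smul M (Coh.toGlobal (X ↘ Spec (CommRingCat.of A)) a) x).trans ?_
        exact congrArg (fun t : Γ(X, ⊤) => t • h0 M x)
          (QCoh.rres_self (le_refl (⊤ : X.Opens)) (show Γ(X, ⊤) from Coh.toGlobal (X ↘ Spec (CommRingCat.of A)) a)).symm } :
    Coh.HH X M 0 ≃ₗ[A] Groth.Agent.CBC.Sec (Coh.toGlobal (X ↘ Spec (CommRingCat.of A))) M (le_top : (⊤ : X.Opens) ≤ ⊤)).trans
    (gSec (X ↘ Spec (CommRingCat.of A)) M).symm

theorem h0A_map {M N : X.Modules} (φ : M ⟶ N) (x : Coh.HH X M 0) :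
    h0A (A := A) N (hMap φ 0 x) = (HTor.globalSectionsA (X ↘ Spec (CommRingCat.of A))).map φ (h0A (A := A) M x) :=
  h0_map φ x

/-- global cocycles to cohomology classes -/
noncomputable def kap (i : ℤ) : Coh.HH X (R.cycles i) 0 →ₗ[A] ((gA (X ↘ Spec (CommRingCat.of A))).obj R).homology i where
  toFun x := cls (h0A (A := A) (R.X i) (hMap (R.iCycles i) 0 x)) (by
    change ((gA (X ↘ Spec (CommRingCat.of A))).obj R).d i (i + 1) _ = 0
    refine (h0A_map (A := A) (R.d i (i + 1)) (hMap (R.iCycles i) 0 x)).symm.trans ?_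
    rw [← hMap_comp, R.iCycles_d]
    exact (congrArg (h0A (A := A) _) (map_zero (hMapHom _ _ 0 x))).trans (map_zero _))
  map_add' x y := by
    refine Eq.trans ?_ (cls_add _ _)
    exact Te.cls_congr ((congrArg (h0A (A := A) (R.X i)) (map_add (hMap (R.iCycles i) 0) x y)).trans
      ((h0A (A := A) (R.X i)).map_add _ _)) _
  map_smul' a x := by
    refine Eq.trans ?_ (cls_smul _ a)
    exact Te.cls_congr ((congrArg (h0A (A := A) (R.X i))
      ((hMap (R.iCycles i) 0).map_smul (Coh.toGlobal (X ↘ Spec (CommRingCat.of A)) a) x)).trans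
      ((h0A (A := A) (R.X i)).map_smul a _)) _

theorem kap_surjective (i : ℤ) : Function.Surjective (kap (A := A) R i) := fun y => by
  obtain ⟨z, hz, rfl⟩ := cls_surjective y
  obtain ⟨c, hc⟩ := exists_cycle R ⊤ i (show Γ(R.X i, ⊤) from z) hz
  refine ⟨(h0 (R.cycles i)).symm c, Te.cls_congr ?_ _⟩
  change h0 (R.X i) (hMap (R.iCycles i) 0 ((h0 (R.cycles i)).symm c)) = z
  rw [h0_map, AddEquiv.apply_symm_apply]
  exact hc

theorem kap_eq_zero_iff (i j : ℤ) (hj : j + 1 = i) (x : Coh.HH X (R.cycles i) 0) :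
    kap (A := A) R i x = 0 ↔ ∃ y, hMap (R.toCycles j i) 0 y = x := by
  refine (cls_eq_zero_iff j hj _).trans ⟨fun ⟨w, hw⟩ => ⟨(h0 (R.X j)).symm w, ?_⟩, fun ⟨y, hy⟩ =>
    ⟨h0 (R.X j) y, ?_⟩⟩
  · apply (h0 (R.cycles i)).injective
    apply Groth.Agent.QCoh.app_injective_of_mono (R.iCycles i) ⊤
    rw [h0_map, AddEquiv.apply_symm_apply, ← app_comp_apply, R.toCycles_i]
    exact hw.trans (h0_map (R.iCycles i) x)
  · subst hy
    refine (h0_map (R.d j i) y).symm.trans ?_
    rw [← R.toCycles_i j i, hMap_comp]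
    rfl

variable (hR : ∀ i, ∀ n : ℕ, 0 < n → Subsingleton (Coh.HH X (R.X i) n))
variable (hex : ∀ i : ℤ, 0 < i → R.ExactAt i)

/-- cycles and boundaries -/
noncomputable abbrev seq (j i : ℤ) : ShortComplex X.Modules :=
  ShortComplex.mk (R.iCycles j) (R.toCycles j i) (by rw [← cancel_mono (R.iCycles i)]; simp)

include hex in
theorem seq_shortExact (j i : ℤ) (h : j + 1 = i) (hi : 0 < i) : (seq R j i).ShortExact := by
  have hepi : Epi (R.toCycles j i) := Preadditive.epi_of_cancel_zero _ fun g hg => by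
    let hc := R.homologyIsCokernel j i ((ComplexShape.up ℤ).prev_eq' h)
    obtain ⟨l, hl⟩ := CokernelCofork.IsColimit.desc' hc g hg
    rw [← hl]
    exact (congrArg (· ≫ l)
      (((R.exactAt_iff_isZero_homology i).1 (hex i hi)).eq_of_tgt _ 0)).trans zero_comp
  refine ShortComplex.ShortExact.mk' ?_ inferInstance hepi
  apply ShortComplex.exact_of_f_is_kernel
  refine KernelFork.IsLimit.ofι' _ _ fun k hk => ⟨R.liftCycles k i ((ComplexShape.up ℤ).next_eq' h)
    (by simpa using congrArg (· ≫ R.iCycles i) hk), R.liftCycles_i _ _ _ _⟩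

include hR hex in
theorem nonempty_shift : ∀ (k : ℕ) (j : ℤ), 0 ≤ j →
    Nonempty (Coh.HH X (R.cycles j) (k + 1) ≃ₗ[A] ((gA (X ↘ Spec (CommRingCat.of A))).obj R).homology (j + k + 1))
  | 0, j, hj => by
    have hS := seq_shortExact R hex j (j + ((0 : ℕ) : ℤ) + 1) (by simp) (by simp; omega)
    let δ := overLin A (hδ hS 0)
    let κ := kap (A := A) R (j + ((0 : ℕ) : ℤ) + 1)
    have hδs : Function.Surjective δ := fun x => exists_hδ_eq hS x (by
      have := hR j 1 one_pos
      exact Subsingleton.elim _ _)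
    have hker : LinearMap.ker δ = LinearMap.ker κ := by
      ext x
      rw [LinearMap.mem_ker, LinearMap.mem_ker, kap_eq_zero_iff R _ j (by simp)]
      constructor
      · intro hx
        exact exists_hMap_g_eq hS x hx
      · rintro ⟨y, rfl⟩
        exact hδ_hMap_g hS y
    exact ⟨(δ.quotKerEquivOfSurjective hδs).symm ≪≫ₗ Submodule.quotEquivOfEq _ _ hker ≪≫ₗ
      κ.quotKerEquivOfSurjective (kap_surjective R _)⟩
  | k + 1, j, hj => by
    obtain ⟨e⟩ := nonempty_shift k (j + 1) (by omega)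
    have hS := seq_shortExact R hex j (j + 1) rfl (by omega)
    let δ := overLin A (hδ hS (k + 1))
    have hδb : Function.Bijective δ := by
      refine ⟨(injective_iff_map_eq_zero δ).2 fun x hx => ?_, fun x => exists_hδ_eq hS x (by
        have := hR j (k + 1 + 1) (by omega)
        exact Subsingleton.elim _ _)⟩
      obtain ⟨y, rfl⟩ := exists_hMap_g_eq hS x hx
      have := hR j (k + 1) (by omega)
      rw [Subsingleton.elim y 0]
      exact map_zero _
    rw [show j + ((k + 1 : ℕ) : ℤ) + 1 = j + 1 + k + 1 by push_cast; ring]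
    exact ⟨(LinearEquiv.ofBijective δ hδb).symm ≪≫ₗ e⟩

variable {R}

include hR in
/-- cohomology from an acyclic resolution -/
theorem nonempty_hh {F : X.Modules} (a : (HomologicalComplex.single X.Modules (ComplexShape.up ℤ) 0).obj F ⟶ R)
    [QuasiIso a] (hz : ∀ i : ℤ, i < 0 → IsZero (R.X i)) (n : ℕ) :
    Nonempty (Coh.HH X F n ≃ₗ[A] ((gA (X ↘ Spec (CommRingCat.of A))).obj R).homology (n : ℤ)) := by
  have hex : ∀ i : ℤ, 0 < i → R.ExactAt i := fun i hi => by
    rw [← quasiIsoAt_iff_exactAt a i (HomologicalComplex.exactAt_single_obj _ _ _ _ (by omega))]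
    infer_instance
  have hd : R.d (-1) 0 = 0 := (hz (-1) (by omega)).eq_of_src _ _
  haveI : IsIso (R.homologyπ 0) := R.isIso_homologyπ (-1) 0 ((ComplexShape.up ℤ).prev_eq' (by norm_num)) hd
  let e : F ≅ R.cycles 0 := (HomologicalComplex.singleObjHomologySelfIso (ComplexShape.up ℤ) 0 F).symm ≪≫
    asIso (HomologicalComplex.homologyMap a 0) ≪≫ (asIso (R.homologyπ 0)).symm
  let eF : Coh.HH X F n ≃ₗ[A] Coh.HH X (R.cycles 0) n :=
    { hIso e n with map_smul' := fun b x => (hIso e n).map_smul (Coh.toGlobal (X ↘ Spec (CommRingCat.of A)) b) x }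
  match n, eF with
  | 0, eF =>
    refine ⟨eF ≪≫ₗ LinearEquiv.ofBijective (kap (A := A) R 0)
      ⟨(injective_iff_map_eq_zero (kap (A := A) R 0)).2 fun x hx => ?_, kap_surjective R 0⟩⟩
    obtain ⟨y, rfl⟩ := (kap_eq_zero_iff R 0 (-1) (by norm_num) x).1 hx
    have := subsingleton_HH_of_isZero (hz (-1) (by omega)) 0
    rw [Subsingleton.elim y 0, map_zero]
  | k + 1, eF =>
    obtain ⟨eK⟩ := nonempty_shift (A := A) R hR hex k 0 le_rfl
    rw [show ((k + 1 : ℕ) : ℤ) = 0 + k + 1 by push_cast; ring]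
    exact ⟨eF ≪≫ₗ eK⟩

end Groth.Agent.HTor95.HHModel
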