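import Groth.Agent.HTor95.Tor
import Groth.Agent.DRing.Braid
import Mathlib.LinearAlgebra.TensorProduct.Tower
import Mathlib.LinearAlgebra.TensorProduct.RightExactness
import Mathlib.RingTheory.Flat.Basic
import Mathlib.RingTheory.TensorProduct.Free
import Mathlib.Algebra.Category.ModuleCat.Projective

/-!
# Base change of `Tor`
-/

universe u

open CategoryTheory CategoryTheory.Limits MonoidalCategory
open scoped TensorProduct

attribute [local instance] HasDerivedCategory.standard

namespace Groth.Agent.HTor95.BaseChange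

section Comm

variable {A : Type u} [CommRing A]

/-- `Tor_n(M, N) ≅ Tor_n(N, M)`. -/
noncomputable def commTor (M N : ModuleCat.{u} A) (n : ℕ) :
    ((CategoryTheory.Tor (ModuleCat.{u} A) n).obj M).obj N ≅
      ((CategoryTheory.Tor (ModuleCat.{u} A) n).obj N).obj M :=
  (Tor.objIso (projectiveResolution M) n).app N ≪≫
    (HomologicalComplex.homologyFunctor (ModuleCat.{u} A) _ (-(n : ℤ))).mapIso
      (DRing.Tensor.braid (projectiveResolution M).cochainComplex (DRing.SingleTensor.S0 N) ≪≫
        (DRing.SingleTensor.iso N (projectiveResolution M).cochainComplex).symm) ≪≫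
    (Tor.torIso (projectiveResolution M) N n).symm

end Comm

section Semilinear

variable {A A' : Type u} [CommRing A] [CommRing A'] [Algebra A A']

/-- A semilinear equivalence of complexes at three spots gives one on homology. -/
theorem exists_homology_semilinear (S : ShortComplex (ModuleCat.{u} A)) (S' : ShortComplex (ModuleCat.{u} A'))
    (e₁ : S.X₁ →ₛₗ[algebraMap A A'] S'.X₁) (e₂ : S.X₂ →ₛₗ[algebraMap A A'] S'.X₂)
    (e₃ : S.X₃ →ₛₗ[algebraMap A A'] S'.X₃)
    (h₁ : Function.Surjective e₁) (h₂ : Function.Bijective e₂) (h₃ : Function.Injective e₃)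
    (hf : ∀ x, S'.f.hom (e₁ x) = e₂ (S.f.hom x)) (hg : ∀ x, S'.g.hom (e₂ x) = e₃ (S.g.hom x)) :
    ∃ φ : S.homology →ₛₗ[algebraMap A A'] S'.homology, Function.Bijective φ := by
  let c : LinearMap.ker S.g.hom →ₛₗ[algebraMap A A'] LinearMap.ker S'.g.hom :=
    (e₂.comp (LinearMap.ker S.g.hom).subtype).codRestrict _ fun x => by
      show S'.g.hom (e₂ x.1) = 0
      rw [hg, x.2, map_zero]
  have hle : LinearMap.range S.moduleCatToCycles ≤ (LinearMap.range S'.moduleCatToCycles).comap c := by
    rintro _ ⟨x, rfl⟩
    exact ⟨e₁ x, Subtype.ext (hf x)⟩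
  let q := Submodule.mapQ (LinearMap.range S.moduleCatToCycles) (LinearMap.range S'.moduleCatToCycles) c hle
  have hq : Function.Bijective q := by
    refine ⟨(injective_iff_map_eq_zero q).2 fun a ha => ?_, fun b => ?_⟩
    · obtain ⟨z, rfl⟩ := Submodule.mkQ_surjective _ a
      obtain ⟨y, hy⟩ := (Submodule.Quotient.mk_eq_zero (LinearMap.range S'.moduleCatToCycles)).1 ha
      obtain ⟨x, rfl⟩ := h₁ y
      refine (Submodule.Quotient.mk_eq_zero _).2 ⟨x, Subtype.ext (h₂.1 ?_)⟩
      exact (hf x).symm.trans (congrArg Subtype.val hy)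
    · obtain ⟨z, rfl⟩ := Submodule.mkQ_surjective _ b
      obtain ⟨x, hx⟩ := h₂.2 z.1
      have hxk : S.g.hom x = 0 := h₃ (by rw [← hg, hx, map_zero]; exact z.2)
      exact ⟨(LinearMap.range S.moduleCatToCycles).mkQ ⟨x, hxk⟩, congrArg Submodule.Quotient.mk (Subtype.ext hx)⟩
  refine ⟨(S'.moduleCatHomologyIso.inv.hom).comp (q.comp S.moduleCatHomologyIso.hom.hom), ?_⟩
  exact S'.moduleCatHomologyIso.symm.toLinearEquiv.bijective.comp
    (hq.comp S.moduleCatHomologyIso.toLinearEquiv.bijective)

variable (A')
variable (M : Type u) [AddCommGroup M] [Module A M] [Module A' M] [IsScalarTower A A' M]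

/-- `M ⊗_A X → M ⊗_{A'} (A' ⊗_A X)`. -/
noncomputable def cancel (X : Type u) [AddCommGroup X] [Module A X] :
    M ⊗[A] X →ₛₗ[algebraMap A A'] M ⊗[A'] (A' ⊗[A] X) where
  toFun := (TensorProduct.AlgebraTensorModule.cancelBaseChange A A' A' M X).symm
  map_add' := map_add _
  map_smul' c x := by
    rw [← algebraMap_smul A' c x, map_smul]

theorem cancel_bijective (X : Type u) [AddCommGroup X] [Module A X] :
    Function.Bijective (cancel (A := A) A' M X) :=
  (TensorProduct.AlgebraTensorModule.cancelBaseChange A A' A' M X).symm.bijective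

theorem cancel_tmul (X : Type u) [AddCommGroup X] [Module A X] (m : M) (x : X) :
    cancel (A := A) A' M X (m ⊗ₜ x) = m ⊗ₜ[A'] (1 ⊗ₜ[A] x) :=
  TensorProduct.AlgebraTensorModule.cancelBaseChange_symm_tmul A A' A' m x

theorem cancel_natural {X Y : Type u} [AddCommGroup X] [Module A X] [AddCommGroup Y] [Module A Y]
    (f : X →ₗ[A] Y) (t : M ⊗[A] X) :
    (f.baseChange A').lTensor M (cancel (A := A) A' M X t) = cancel (A := A) A' M Y (f.lTensor M t) := by
  induction t using TensorProduct.induction_on with
  | zero => simp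
  | tmul m x => rw [LinearMap.lTensor_tmul, cancel_tmul, cancel_tmul, LinearMap.lTensor_tmul,
      LinearMap.baseChange_tmul]
  | add a b ha hb => simp only [map_add, ha, hb]

end Semilinear

section Resolution

variable {A : Type u} (A' : Type u) [CommRing A] [CommRing A'] [Algebra A A']
variable {N : ModuleCat.{u} A} (R : ProjectiveResolution N)

theorem baseChange_d_d (i j k : ℕ) (x : A' ⊗[A] R.complex.X i) :
    (R.complex.d j k).hom.baseChange A' ((R.complex.d i j).hom.baseChange A' x) = 0 := by
  induction x using TensorProduct.induction_on with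
  | zero => simp
  | tmul a x =>
    rw [LinearMap.baseChange_tmul, LinearMap.baseChange_tmul, ← LinearMap.comp_apply, ← ModuleCat.hom_comp,
      R.complex.d_comp_d]
    simp
  | add a b ha hb => simp only [map_add, ha, hb, add_zero]

/-- The base change of the complex. -/
noncomputable def bcX : ChainComplex (ModuleCat.{u} A') ℕ :=
  ChainComplex.of (fun r => ModuleCat.of A' (A' ⊗[A] R.complex.X r))
    (fun r => ModuleCat.ofHom ((R.complex.d (r + 1) r).hom.baseChange A'))
    fun r => ModuleCat.hom_ext (LinearMap.ext fun x => baseChange_d_d A' R _ _ _ x)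

theorem bcX_d (r : ℕ) : (bcX A' R).d (r + 1) r = ModuleCat.ofHom ((R.complex.d (r + 1) r).hom.baseChange A') :=
  ChainComplex.of_d (fun r => ModuleCat.of A' (A' ⊗[A] R.complex.X r))
    (fun r => ModuleCat.ofHom ((R.complex.d (r + 1) r).hom.baseChange A')) r

theorem exact_zero : Function.Exact (R.complex.d 1 0).hom (R.π.f 0).hom :=
  (ShortComplex.ShortExact.moduleCat_exact_iff_function_exact
    (ShortComplex.mk _ _ R.complex_d_comp_π_f_zero)).1
    (ShortComplex.exact_of_g_is_cokernel _ R.isColimitCokernelCofork)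

theorem surjective_zero : Function.Surjective (R.π.f 0).hom :=
  (ModuleCat.epi_iff_surjective _).1 inferInstance

/-- The augmentation, with target written as `N`. -/
noncomputable def piN : R.complex.X 0 →ₗ[A] N := (R.π.f 0).hom

theorem bc_d_eps : (bcX A' R).d 1 0 ≫ ModuleCat.ofHom ((piN R).baseChange A') = 0 := by
  rw [bcX_d A' R 0]
  refine ModuleCat.hom_ext (LinearMap.ext fun x => ?_)
  show (piN R).baseChange A' ((R.complex.d 1 0).hom.baseChange A' x) = 0
  induction x using TensorProduct.induction_on with
  | zero => simp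
  | tmul a x =>
    rw [LinearMap.baseChange_tmul, LinearMap.baseChange_tmul, piN]
    erw [(exact_zero R).apply_apply_eq_zero]
    exact TensorProduct.tmul_zero _ _
  | add a b ha hb => simp only [map_add, ha, hb, add_zero]

/-- `A' ⊗_A R` as a resolution, when `Tor_q^A(A', N) = 0` for `q ≥ 1`. -/
noncomputable def bcRes (h : ∀ q : ℕ, Subsingleton (_root_.DRing.Tor A (q + 1) A' N)) :
    ProjectiveResolution (ModuleCat.of A' (A' ⊗[A] N)) where
  complex := bcX A' R
  projective r := by
    have : Module.Projective A (R.complex.X r) := (IsProjective.iff_projective _).2 (R.projective r)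
    exact (IsProjective.iff_projective (A' ⊗[A] R.complex.X r)).1 inferInstance
  π := (ChainComplex.toSingle₀Equiv _ _).symm ⟨ModuleCat.ofHom ((piN R).baseChange A'), bc_d_eps A' R⟩
  quasiIso := ⟨fun n => by
    cases n with
    | zero =>
      rw [ChainComplex.quasiIsoAt₀_iff, ShortComplex.quasiIso_iff_of_zeros']
      · refine (ShortComplex.exact_and_epi_g_iff_of_iso (S₂ := ShortComplex.mk ((bcX A' R).d 1 0) _
          (bc_d_eps A' R)) ?_).2 ⟨?_, (ModuleCat.epi_iff_surjective _).mpr
            (LinearMap.lTensor_surjective A' (surjective_zero R))⟩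
        · exact ShortComplex.isoMk (Iso.refl _) (Iso.refl _) (Iso.refl _)
            ((Category.id_comp _).trans (Category.comp_id _).symm)
            ((Category.id_comp _).trans ((ChainComplex.toSingle₀Equiv_symm_apply_f_zero _ (bc_d_eps A' R)).symm.trans
              (Category.comp_id _).symm))
        · rw [ShortComplex.ShortExact.moduleCat_exact_iff_function_exact]
          show Function.Exact ((bcX A' R).d 1 0).hom ((piN R).baseChange A')
          rw [bcX_d A' R 0]
          exact lTensor_exact A' (exact_zero R) (surjective_zero R)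
      all_goals rfl
    | succ n =>
      rw [quasiIsoAt_iff_exactAt' _ _ (ChainComplex.exactAt_succ_single_obj _ _)]
      rw [HomologicalComplex.exactAt_iff' _ (n + 1 + 1) (n + 1) n (by simp) (by simp),
        ShortComplex.ShortExact.moduleCat_exact_iff_function_exact]
      show Function.Exact ((bcX A' R).d (n + 1 + 1) (n + 1)).hom ((bcX A' R).d (n + 1) n).hom
      rw [bcX_d, bcX_d]
      let C := (((tensoringLeft (ModuleCat.{u} A)).obj (ModuleCat.of A A')).mapHomologicalComplex _).obj R.complex
      have hC : C.ExactAt (n + 1) := by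
        rw [HomologicalComplex.exactAt_iff_isZero_homology]
        exact (@ModuleCat.isZero_of_subsingleton A _ _ (h n)).of_iso
          (R.isoLeftDerivedObj ((tensoringLeft (ModuleCat.{u} A)).obj (ModuleCat.of A A')) (n + 1)).symm
      rw [HomologicalComplex.exactAt_iff' _ (n + 1 + 1) (n + 1) n (by simp) (by simp),
        ShortComplex.ShortExact.moduleCat_exact_iff_function_exact] at hC
      exact hC⟩

variable (M : Type u) [AddCommGroup M] [Module A M] [Module A' M] [IsScalarTower A A' M]

include R in
/-- Base change of `Tor`. -/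
theorem exists_bc (h : ∀ q : ℕ, Subsingleton (_root_.DRing.Tor A (q + 1) A' N)) (n : ℕ) :
    ∃ φ : _root_.DRing.Tor A n M N →ₛₗ[algebraMap A A'] _root_.DRing.Tor A' n M (A' ⊗[A] N),
      Function.Bijective φ := by
  let C := (((tensoringLeft (ModuleCat.{u} A)).obj (ModuleCat.of A M)).mapHomologicalComplex _).obj R.complex
  let C' := (((tensoringLeft (ModuleCat.{u} A')).obj (ModuleCat.of A' M)).mapHomologicalComplex _).obj (bcX A' R)
  let e : ∀ r, C.X r →ₛₗ[algebraMap A A'] C'.X r := fun r => cancel (A := A) A' M (R.complex.X r)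
  have he : ∀ r, Function.Bijective (e r) := fun r => cancel_bijective A' M _
  have hd : ∀ i j x, (C'.d i j).hom (e i x) = e j ((C.d i j).hom x) := fun i j x => by
    by_cases hij : j + 1 = i
    · subst hij
      show ((ModuleCat.of A' M) ◁ (bcX A' R).d (j + 1) j).hom _ = _
      rw [bcX_d]
      exact cancel_natural A' M (R.complex.d (j + 1) j).hom x
    · rw [C'.shape i j (by simpa using hij), C.shape i j (by simpa using hij)]
      exact (map_zero (e j)).symm
  obtain ⟨φ, hφ⟩ := exists_homology_semilinear (C.sc n) (C'.sc n) (e _) (e _) (e _) (he _).2 (he _) (he _).1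
    (hd _ _) (hd _ _)
  let i₁ := R.isoLeftDerivedObj ((tensoringLeft (ModuleCat.{u} A)).obj (ModuleCat.of A M)) n
  let i₂ := (bcRes A' R h).isoLeftDerivedObj ((tensoringLeft (ModuleCat.{u} A')).obj (ModuleCat.of A' M)) n
  exact ⟨(i₂.inv.hom).comp (φ.comp i₁.hom.hom),
    i₂.symm.toLinearEquiv.bijective.comp (hφ.comp i₁.toLinearEquiv.bijective)⟩

end Resolution

end Groth.Agent.HTor95.BaseChange
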