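import Groth.Agent.KFlat.QCohTensor
import Groth.Agent.KFlat.LpullComp
import Groth.Agent.KFlat.TensorLocFree
import Groth.Agent.PerfTri.Bounded
import Groth.Agent.DRing.PCTools
import Groth.Agent.S6942
import Groth.Agent.S12451
import Groth.Agent.ZClosLib.CohDescent

/-!
# Locally free models of bounded above complexes with coherent cohomology
-/

set_option autoImplicit false

universe u

open CategoryTheory Limits AlgebraicGeometry TopologicalSpace
open Groth.Agent.KFlat Groth.Agent.KFlat.Pull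

attribute [local instance] HasDerivedCategory.standard

namespace Groth.Agent.HTor95.CohModel

variable {X Z : Scheme.{u}}

/-- a bounded above model by finite locally free modules -/
def HasModel (F : CochainComplex X.Modules ℤ) : Prop :=
  ∃ (E : CochainComplex X.Modules ℤ) (b : ℤ), (∀ i, b < i → IsZero (E.X i)) ∧
    (∀ i, FlatMod.IsFinLocFree (E.X i)) ∧
    Nonempty (DerivedCategory.Q.obj E ≅ DerivedCategory.Q.obj F)

theorem hasModel_of_iso {F G : CochainComplex X.Modules ℤ}
    (e : DerivedCategory.Q.obj F ≅ DerivedCategory.Q.obj G) (h : HasModel F) : HasModel G := by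
  obtain ⟨E, b, h₁, h₂, ⟨e'⟩⟩ := h
  exact ⟨E, b, h₁, h₂, ⟨e' ≪≫ e⟩⟩

theorem isKFlat_of_model {E : CochainComplex X.Modules ℤ} {b : ℤ} (hb : ∀ i, b < i → IsZero (E.X i))
    (hE : ∀ i, FlatMod.IsFinLocFree (E.X i)) : DCoh.IsKFlat E :=
  isKFlat_of_flat_boundedAbove E b hb fun q => LocalD.flat_of_isFinLocFree (hE q)

/-- models pull back along morphisms -/
theorem hasModel_pull (f : Z ⟶ X) {P : CochainComplex X.Modules ℤ} (hP : DCoh.IsKFlat P)
    (h : HasModel P) : HasModel ((pullCx f).obj P) := by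
  obtain ⟨E, b, h₁, h₂, ⟨e⟩⟩ := h
  exact ⟨(pullCx f).obj E, b, fun i hi => (Scheme.Modules.pullback f).map_isZero (h₁ i hi),
    fun i => LocFree.isFinLocFree_pull f (h₂ i),
    ⟨LocalD.pullQIso f (isKFlat_of_model h₁ h₂) hP e⟩⟩

/-- the tensor product of two models has coherent cohomology -/
theorem isCoh_homology_tensor [IsLocallyNoetherian X] {A B : CochainComplex X.Modules ℤ} {a b : ℤ}
    (ha : ∀ i, a < i → IsZero (A.X i)) (hA : ∀ i, FlatMod.IsFinLocFree (A.X i))
    (hb : ∀ i, b < i → IsZero (B.X i)) (hB : ∀ i, FlatMod.IsFinLocFree (B.X i)) (m : ℤ) :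
    Coh.IsCoh (((DCoh.tensorCx.obj A).obj B).homology m) := by
  classical
  refine PerfTri.Bounded.isCoh_homology _ (fun n => PerfTri.Bounded.isCoh_of_isFinLocFree ?_) m
  let I := {i : ℤ × ℤ //
    ComplexShape.π (ComplexShape.up ℤ) (ComplexShape.up ℤ) (ComplexShape.up ℤ) i = n}
  let F := fun i : I => ((DCoh.tensorBi (X := X)).obj (A.X i.1.1)).obj (B.X i.1.2)
  change FlatMod.IsFinLocFree (∐ F)
  refine TensorLocFree.isFinLocFree_sigma F
    ((Finset.Icc (n - b) a ×ˢ Finset.Icc (n - a) b).subtype _) (fun i hi => ?_)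
    fun i => TensorLocFree.isFinLocFree_tensM (hA _) (hB _)
  have hn : i.1.1 + i.1.2 = n := i.2
  by_cases h : a < i.1.1
  · exact ((DCoh.tensorBi (X := X)).flip.obj (B.X i.1.2)).map_isZero (ha _ h)
  · refine ((DCoh.tensorBi (X := X)).obj (A.X i.1.1)).map_isZero (hb _ ?_)
    by_contra hc
    refine hi (Finset.mem_subtype.2 (Finset.mem_product.2 ⟨Finset.mem_Icc.2 ?_, Finset.mem_Icc.2 ?_⟩)) <;>
      omega

theorem exists_model_Spec {R : CommRingCat.{u}} [IsNoetherianRing R]
    (F : CochainComplex (Spec R).Modules ℤ) (hc : ∀ i, Coh.IsCoh (F.homology i)) (b : ℤ)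
    (hb : ∀ i, b < i → IsZero (F.homology i)) : HasModel F := by
  have := TildeExact.preservesFiniteLimits_tilde R
  have hq : DCoh.IsQCohD (DerivedCategory.Q.obj F : DCoh.D (Spec R)) := fun i =>
    @Groth.Agent.QCoh.isQuasicoherent_of_iso _ _ _
      ((DerivedCategory.homologyFunctorFactors _ i).app F).symm (hc i).1
  obtain ⟨M, ⟨e⟩⟩ := TildeD.exists_iso_of_isQCohD (R := R) _ hq
  let eH : ∀ i, F.homology i ≅ (tilde.functor R).obj ((DerivedCategory.homologyFunctor (ModuleCat.{u} R) i).obj M) := fun i =>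
    ((DerivedCategory.homologyFunctorFactors _ i).app F).symm ≪≫
      (DerivedCategory.homologyFunctor _ i).mapIso e.symm ≪≫
      (MapHomology.iso (tilde.functor R) i).app M
  have hfin : ∀ i, Module.Finite R (Dual.HD R M i) := fun i =>
    (Props.QTilde.isFT_iff (M := (DerivedCategory.homologyFunctor (ModuleCat.{u} R) i).obj M)).1 (CohDev.isCoh_of_iso (eH i) (hc i)).2
  have hzero : ∀ i, b < i → Subsingleton (Dual.HD R M i) := fun i hi =>
    ModuleCat.subsingleton_of_isZero
      (IsZero.of_full_of_faithful_of_isZero (tilde.functor R) _ ((hb i hi).of_iso (eH i).symm))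
  obtain ⟨E, c, hEc, hEf, ⟨eE⟩⟩ : DRing.IsPseudoCoherent' R M :=
    (DRing.PC.pc'_iff M).2 fun m =>
      (Groth.Agent.S6942.result R m M PUnit).1.2 ⟨⟨b, hzero⟩, fun i _ => hfin i⟩
  refine ⟨((tilde.functor R).mapHomologicalComplex (ComplexShape.up ℤ)).obj E, c,
    fun i hi => (tilde.functor R).map_isZero (hEc i hi), fun i => ?_, ⟨?_⟩⟩
  · have := (hEf i).1
    have := (hEf i).2
    exact (Groth.Agent.S12451.result (E.X i)).2 ⟨inferInstance, Module.Projective.of_free⟩
  · exact ((tilde.functor R).mapDerivedCategoryFactors.app E).symm ≪≫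
      (DCoh.tildeD R).mapIso eE ≪≫ e

/-- models exist near every point of a locally Noetherian scheme -/
theorem exists_model_affine [IsLocallyNoetherian X] (P : CochainComplex X.Modules ℤ)
    (hc : ∀ i, Coh.IsCoh (P.homology i)) (b : ℤ) (hb : ∀ i, b < i → IsZero (P.homology i))
    {U : X.Opens} (hU : IsAffineOpen U) : HasModel ((pullCx hU.fromSpec).obj P) := by
  have : IsNoetherianRing Γ(X, U) := IsLocallyNoetherian.component_noetherian ⟨U, hU⟩
  let j := hU.fromSpec
  let eR : ∀ i, (Scheme.Modules.pullback j).obj (P.homology i) ≅ ((pullCx j).obj P).homology i := fun i =>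
    ((Scheme.Modules.restrictFunctorIsoPullback j).app _).symm ≪≫
      ((MapHomology.cxIso (Scheme.Modules.restrictFunctor j) i).app P).symm ≪≫
      (HomologicalComplex.homologyFunctor _ _ i).mapIso ((QCohModel.restrJIso j).app P)
  exact exists_model_Spec _
    (fun i => CohDev.isCoh_of_iso (eR i) (ZClosLib.CohDescent.isCoh_pullback j _ (hc i))) b
    fun i hi => ((Scheme.Modules.pullback j).map_isZero (hb i hi)).of_iso (eR i).symm

theorem hasModel_pull_of_iso {W : Scheme.{u}} (f : Z ⟶ X) (j : W ⟶ Z) (g : W ⟶ X) (h : j ≫ f = g)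
    (P : CochainComplex X.Modules ℤ) (hm : HasModel ((pullCx g).obj P)) :
    HasModel ((pullCx j).obj ((pullCx f).obj P)) := by
  refine hasModel_of_iso (DerivedCategory.Q.mapIso ?_) hm
  exact (NatIso.mapHomologicalComplex (Scheme.Modules.pullbackCongr h.symm) (ComplexShape.up ℤ)).app P ≪≫
    ((pullCxComp j f).app P).symm

/-- a model of the inverse image on an affine open over an affine open -/
theorem hasModel_pull_affine [IsLocallyNoetherian X] (p : Z ⟶ X)
    {P : CochainComplex X.Modules ℤ} (hP : DCoh.IsKFlat P) (hc : ∀ i, Coh.IsCoh (P.homology i)) (b : ℤ)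
    (hb : ∀ i, b < i → IsZero (P.homology i)) {U : X.Opens} (hU : IsAffineOpen U) {W : Scheme.{u}}
    (j : W ⟶ Z) (t : W ⟶ Spec Γ(X, U)) (ht : t ≫ hU.fromSpec = j ≫ p) :
    HasModel ((pullCx j).obj ((pullCx p).obj P)) := by
  refine hasModel_pull_of_iso p j _ ht.symm P ?_
  exact hasModel_of_iso (DerivedCategory.Q.mapIso ((pullCxComp t hU.fromSpec).app P))
    (hasModel_pull t (isKFlat_pullCx _ hP) (exists_model_affine P hc b hb hU))

/-- coherence of the cohomology of a tensor product from local models -/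
theorem isCoh_homology_pull_tensor {W : Scheme.{u}} [IsLocallyNoetherian W] (j : W ⟶ Z)
    {P G : CochainComplex Z.Modules ℤ} (hP : DCoh.IsKFlat P) (mP : HasModel ((pullCx j).obj P))
    (mG : HasModel ((pullCx j).obj G)) (i : ℤ) :
    Coh.IsCoh (((pullCx j).obj ((DCoh.tensorCx.obj P).obj G)).homology i) := by
  obtain ⟨A, a, ha, hA, ⟨eA⟩⟩ := mP
  obtain ⟨B, b, hb, hB, ⟨eB⟩⟩ := mG
  obtain ⟨e₁⟩ := QCohTensor.exists_tensor_iso_left (isKFlat_of_model ha hA) (isKFlat_pullCx j hP) B eA
  obtain ⟨e₂⟩ := QCohTensor.exists_tensor_iso (isKFlat_pullCx j hP) eB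
  refine CohDev.isCoh_of_iso ?_ (isCoh_homology_tensor ha hA hb hB i)
  exact ((DerivedCategory.homologyFunctorFactors _ i).app _).symm ≪≫
    (DerivedCategory.homologyFunctor _ i).mapIso
      (e₁ ≪≫ e₂ ≪≫ DerivedCategory.Q.mapIso (PullTensor.pullTensorCxIso j P G).symm) ≪≫
    (DerivedCategory.homologyFunctorFactors _ i).app _

/-- coherence of cohomology sheaves is local on affine charts -/
theorem isCoh_homology_of_local (T : CochainComplex Z.Modules ℤ) (i : ℤ)
    (h : ∀ z : Z, ∃ (V : Z.Opens) (hV : IsAffineOpen V), z ∈ V ∧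
      Coh.IsCoh (((pullCx hV.fromSpec).obj T).homology i)) : Coh.IsCoh (T.homology i) := by
  choose V hV hz hc using h
  refine PerfTri.Bounded.isCoh_of_cover V
    (IsOpenCover.mk (top_le_iff.mp fun z _ => Opens.mem_iSup.mpr ⟨z, hz z⟩)) _ fun z => ?_
  let j := (hV z).fromSpec
  have h₁ : Coh.IsCoh ((T.homology i).restrict j) :=
    CohDev.isCoh_of_iso
      (((HomologicalComplex.homologyFunctor _ _ i).mapIso ((QCohModel.restrJIso j).app T).symm) ≪≫
        (MapHomology.cxIso (Scheme.Modules.restrictFunctor j) i).app T) (hc z)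
  refine CohDev.isCoh_of_iso ?_ (ZClosLib.CohDescent.isCoh_pullback (hV z).isoSpec.hom _ h₁)
  exact (Scheme.Modules.pullback (hV z).isoSpec.hom).mapIso
      ((Scheme.Modules.restrictFunctorIsoPullback j).app _) ≪≫
    (Scheme.Modules.pullbackComp (hV z).isoSpec.hom j).app _ ≪≫
    (Scheme.Modules.pullbackCongr (by simp only [j, ← (hV z).isoSpec_inv_ι, Iso.hom_inv_id_assoc])).app _ ≪≫
    ((Scheme.Modules.restrictFunctorIsoPullback (Scheme.Opens.ι (V z))).app _).symm

/-- the tensor product of a derived pullback with a bounded above coherent complex -/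
theorem isCoh_homology_tensor_pull [IsLocallyNoetherian X] [IsLocallyNoetherian Z] (p : Z ⟶ X)
    {P : CochainComplex X.Modules ℤ} (hP : DCoh.IsKFlat P) (hc : ∀ i, Coh.IsCoh (P.homology i)) (b : ℤ)
    (hb : ∀ i, b < i → IsZero (P.homology i)) {G : CochainComplex Z.Modules ℤ}
    (hG : ∀ i, Coh.IsCoh (G.homology i)) (c : ℤ) (hcG : ∀ i, c < i → IsZero (G.homology i)) (i : ℤ) :
    Coh.IsCoh (((DCoh.tensorCx.obj ((pullCx p).obj P)).obj G).homology i) := by
  refine isCoh_homology_of_local _ i fun z => ?_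
  obtain ⟨U, hU, hzU, -⟩ := Opens.isBasis_iff_nbhd.1 X.isBasis_affineOpens (Opens.mem_top (p z))
  obtain ⟨V, hV, hzV, hVU⟩ := Opens.isBasis_iff_nbhd.1 Z.isBasis_affineOpens (show z ∈ p ⁻¹ᵁ U from hzU)
  have hU : IsAffineOpen U := hU
  have hV : IsAffineOpen V := hV
  refine ⟨V, hV, hzV, ?_⟩
  have hr : Set.range (hV.fromSpec ≫ p) ⊆ Set.range hU.fromSpec := by
    rintro _ ⟨w, rfl⟩
    rw [hU.range_fromSpec]
    exact hVU (hV.range_fromSpec.le ⟨w, rfl⟩)
  have : IsLocallyNoetherian (Spec Γ(Z, V)) := isLocallyNoetherian_of_isOpenImmersion hV.fromSpec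
  exact isCoh_homology_pull_tensor _ (isKFlat_pullCx p hP)
    (hasModel_pull_affine p hP hc b hb hU _ _ (IsOpenImmersion.lift_fac _ _ hr))
    (exists_model_affine G hG c hcG hV) i

/-- cohomology sheaves of a bounded above coherent complex tensored with a derived pullback are coherent -/
theorem isCohD_LTensor_Lpull [IsLocallyNoetherian X] [IsLocallyNoetherian Z] (p : Z ⟶ X)
    [DCoh.HasLpull p] (G : CochainComplex Z.Modules ℤ) [DCoh.HasLTensorCx G]
    (hG : ∀ i, Coh.IsCoh (G.homology i)) (c : ℤ) (hc : ∀ i, c < i → IsZero (G.homology i))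
    (K : CochainComplex X.Modules ℤ) (hK : ∀ i, Coh.IsCoh (K.homology i)) (b : ℤ)
    (hb : ∀ i, b < i → IsZero (K.homology i)) :
    DCoh.IsCohD ((DCoh.LTensorCx G).obj ((DCoh.Lpull p).obj (DCoh.toD X K))) := by
  let P := (resY X).obj K
  let e : DerivedCategory.Q.obj P ≅ DerivedCategory.Q.obj K := (resQIso (Y := X)).app K
  let eh : ∀ i, P.homology i ≅ K.homology i := fun i =>
    ((DerivedCategory.homologyFunctorFactors _ i).app P).symm ≪≫
      (DerivedCategory.homologyFunctor _ i).mapIso e ≪≫ (DerivedCategory.homologyFunctorFactors _ i).app K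
  have hP : DCoh.IsKFlat P := isKFlat_resY _
  have hPZ : DCoh.IsKFlat ((pullCx p).obj P) := isKFlat_pullCx p hP
  intro i
  refine CohDev.isCoh_of_iso ?_ (isCoh_homology_tensor_pull p hP
    (fun k => CohDev.isCoh_of_iso (eh k).symm (hK k)) b (fun k hk => (hb k hk).of_iso (eh k)) hG c hc i)
  exact ((DerivedCategory.homologyFunctorFactors _ i).app _).symm ≪≫
    (DerivedCategory.homologyFunctor _ i).mapIso
      ((@asIso _ _ _ _ ((LTensor.toTensor G).app ((pullCx p).obj P)) (LTensor.isIso_toTensor G hPZ)).symm ≪≫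
        (DCoh.LTensorCx G).mapIso
          ((@asIso _ _ _ _ ((toPull p).app P) (isIso_toPull p hP)).symm ≪≫ (DCoh.Lpull p).mapIso e))

end Groth.Agent.HTor95.CohModel
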