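import Groth.Agent.HTor95.Piece
import Groth.Agent.CBC.TensorA
import Groth.Agent.ExtHom.Linear
import Groth.Agent.ProjTilde.AffIso
import Mathlib.AlgebraicGeometry.Morphisms.Flat
import Mathlib.Algebra.Category.Ring.Constructions

/-!
# Sections of external tensor products over products of affine opens
-/

set_option autoImplicit false

universe u

open CategoryTheory CategoryTheory.Limits AlgebraicGeometry TopologicalSpace Opposite
open Groth.Agent.KFlat.StalkTensor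
open Groth.Agent.CBC (Sec)
open Groth.Agent.QCoh (res rres)
open scoped TensorProduct

namespace Groth.Agent.HTor95.Box

variable {A : Type u} [CommRing A] {X Y Z : Scheme.{u}} {f : X ⟶ Spec (CommRingCat.of A)}
  {g : Y ⟶ Spec (CommRingCat.of A)} (p : Z ⟶ X) (q : Z ⟶ Y)

/-- `pr₁^* M ⊗ pr₂^* N` -/
noncomputable abbrev ext (M : X.Modules) (N : Y.Modules) : Z.Modules :=
  tensM ((Scheme.Modules.pullback p).obj M) ((Scheme.Modules.pullback q).obj N)

/-- functoriality in the first variable -/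
noncomputable abbrev extMapL {M M' : X.Modules} (φ : M ⟶ M') (N : Y.Modules) :
    ext p q M N ⟶ ext p q M' N :=
  ((DCoh.tensorBi (X := Z)).map ((Scheme.Modules.pullback p).map φ)).app ((Scheme.Modules.pullback q).obj N)

/-- functoriality in the second variable -/
noncomputable abbrev extMapR (M : X.Modules) {N N' : Y.Modules} (ψ : N ⟶ N') :
    ext p q M N ⟶ ext p q M N' :=
  ((DCoh.tensorBi (X := Z)).obj ((Scheme.Modules.pullback p).obj M)).map ((Scheme.Modules.pullback q).map ψ)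

/-- a morphism in the first variable on pure tensors -/
theorem tensorBi_mapL_tmulSec {G G' : Z.Modules} (φ : G ⟶ G') (H : Z.Modules) (W : Z.Opens)
    (m : Γ(G, W)) (n : Γ(H, W)) :
    (((DCoh.tensorBi (X := Z)).map φ).app H).app W (tmulSec W m n) = tmulSec W (φ.app W m) n :=
  (congr(($((KFlat.preAdj Z.sheaf).unit.naturality
    (MonoidalCategory.whiskerRight ((ModSite.toPre Z.sheaf).map φ) ((ModSite.toPre Z.sheaf).obj H)))).app (op W)
    ((show ((ModSite.toPre Z.sheaf).obj G).obj (op W) from m) ⊗ₜ[Z.sheaf.obj.obj (op W)]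
      (show ((ModSite.toPre Z.sheaf).obj H).obj (op W) from n)))).symm

/-- the product of two sections -/
noncomputable def boxVal {U : X.Opens} {V : Y.Opens} {W : Z.Opens} (hU : W ≤ p ⁻¹ᵁ U) (hV : W ≤ q ⁻¹ᵁ V)
    (M : X.Modules) (N : Y.Modules) (m : Γ(M, U)) (n : Γ(N, V)) : Γ(ext p q M N, W) :=
  tmulSec W (LimTop.unitSec p M hU m) (LimTop.unitSec q N hV n)

theorem boxVal_mapL {U : X.Opens} {V : Y.Opens} {W : Z.Opens} (hU : W ≤ p ⁻¹ᵁ U) (hV : W ≤ q ⁻¹ᵁ V)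
    {M M' : X.Modules} (φ : M ⟶ M') (N : Y.Modules) (m : Γ(M, U)) (n : Γ(N, V)) :
    (extMapL p q φ N).app W (boxVal p q hU hV M N m n) = boxVal p q hU hV M' N (φ.app U m) n :=
  (tensorBi_mapL_tmulSec _ _ W _ _).trans
    (congrArg (fun t => tmulSec W t (LimTop.unitSec q N hV n)) (LimTop.unitSec_map p M hU φ m))

theorem boxVal_mapR {U : X.Opens} {V : Y.Opens} {W : Z.Opens} (hU : W ≤ p ⁻¹ᵁ U) (hV : W ≤ q ⁻¹ᵁ V)
    (M : X.Modules) {N N' : Y.Modules} (ψ : N ⟶ N') (m : Γ(M, U)) (n : Γ(N, V)) :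
    (extMapR p q M ψ).app W (boxVal p q hU hV M N m n) = boxVal p q hU hV M N' m (ψ.app V n) :=
  (ExtHom.tensorBi_map_tmulSec _ _ W _ _).trans
    (congrArg (fun t => tmulSec W (LimTop.unitSec p M hU m) t) (LimTop.unitSec_map q N hV ψ n))

theorem boxVal_res {U U' : X.Opens} {V V' : Y.Opens} {W W' : Z.Opens} (hU : W ≤ p ⁻¹ᵁ U)
    (hV : W ≤ q ⁻¹ᵁ V) (hUU : U' ≤ U) (hVV : V' ≤ V) (hWW : W' ≤ W) (hU' : W' ≤ p ⁻¹ᵁ U')
    (hV' : W' ≤ q ⁻¹ᵁ V') (M : X.Modules) (N : Y.Modules) (m : Γ(M, U)) (n : Γ(N, V)) :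
    res (ext p q M N) hWW (boxVal p q hU hV M N m n) =
      boxVal p q hU' hV' M N (res M hUU m) (res N hVV n) := by
  unfold boxVal
  refine (tmulSec_res (homOfLE hWW) _ _).trans ?_
  rw [LimTop.unitSec_res, LimTop.unitSec_res]
  exact congrArg₂ (tmulSec W') (LimTop.res_unitSec p M hU hWW m) (LimTop.res_unitSec q N hV hWW n)

/-- scalars on sections -/
theorem appLE_toGlobal {U : X.Opens} {W : Z.Opens} (hU : W ≤ p ⁻¹ᵁ U) (a : A) :
    p.appLE U W hU (rres (le_top : U ≤ ⊤) (Coh.toGlobal f a)) =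
      rres (le_top : W ≤ ⊤) (Coh.toGlobal (p ≫ f) a) := by
  change ((Scheme.ΓSpecIso (CommRingCat.of A)).inv ≫ f.appTop ≫ X.presheaf.map (homOfLE le_top).op ≫
      p.appLE U W hU) a =
    ((Scheme.ΓSpecIso (CommRingCat.of A)).inv ≫ (p ≫ f).appTop ≫ Z.presheaf.map (homOfLE le_top).op) a
  rw [Scheme.Hom.map_appLE, Scheme.Hom.comp_appTop]
  rfl

variable {p q} (hw : p ≫ f = q ≫ g)

/-- the product of sections, bilinear over `A` -/
noncomputable def boxB {U : X.Opens} {V : Y.Opens} {W : Z.Opens} (hU : W ≤ p ⁻¹ᵁ U) (hV : W ≤ q ⁻¹ᵁ V)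
    (M : X.Modules) (N : Y.Modules) :
    Sec (Coh.toGlobal f) M (le_top : U ≤ ⊤) →ₗ[A] Sec (Coh.toGlobal g) N (le_top : V ≤ ⊤) →ₗ[A]
      Sec (Coh.toGlobal (p ≫ f)) (ext p q M N) (le_top : W ≤ ⊤) :=
  LinearMap.mk₂ A
    (fun m n => (show Sec (Coh.toGlobal (p ≫ f)) (ext p q M N) (le_top : W ≤ ⊤) from
      boxVal p q hU hV M N m n))
    (fun m m' n => (congrArg (fun t => tmulSec W t (LimTop.unitSec q N hV n))
      (map_add (LimTop.unitSec p M hU) m m')).trans (tmulSec_add_left W _ _ _))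
    (fun a m n => by
      refine (congrArg (fun t => tmulSec W t (LimTop.unitSec q N hV n))
        (LimTop.unitSec_smul p M hU (rres (le_top : U ≤ ⊤) (Coh.toGlobal f a)) m)).trans ?_
      rw [appLE_toGlobal p hU a]
      exact tmulSec_smul_left W _ _ _)
    (fun m n n' => (congrArg (fun t => tmulSec W (LimTop.unitSec p M hU m) t)
      (map_add (LimTop.unitSec q N hV) n n')).trans (tmulSec_add_right W _ _ _))
    (fun a m n => by
      refine (congrArg (fun t => tmulSec W (LimTop.unitSec p M hU m) t)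
        (LimTop.unitSec_smul q N hV (rres (le_top : V ≤ ⊤) (Coh.toGlobal g a)) n)).trans ?_
      rw [appLE_toGlobal q hV a, ← hw]
      exact tmulSec_smul_right W _ _ _)

/-- the product of sections on the tensor product -/
noncomputable def boxLin {U : X.Opens} {V : Y.Opens} {W : Z.Opens} (hU : W ≤ p ⁻¹ᵁ U) (hV : W ≤ q ⁻¹ᵁ V)
    (M : X.Modules) (N : Y.Modules) :
    Sec (Coh.toGlobal f) M (le_top : U ≤ ⊤) ⊗[A] Sec (Coh.toGlobal g) N (le_top : V ≤ ⊤) →ₗ[A]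
      Sec (Coh.toGlobal (p ≫ f)) (ext p q M N) (le_top : W ≤ ⊤) :=
  TensorProduct.lift (boxB hw hU hV M N)

theorem boxLin_tmul {U : X.Opens} {V : Y.Opens} {W : Z.Opens} (hU : W ≤ p ⁻¹ᵁ U) (hV : W ≤ q ⁻¹ᵁ V)
    (M : X.Modules) (N : Y.Modules) (m : Sec (Coh.toGlobal f) M (le_top : U ≤ ⊤))
    (n : Sec (Coh.toGlobal g) N (le_top : V ≤ ⊤)) :
    boxLin hw hU hV M N (m ⊗ₜ n) =
      (show Sec (Coh.toGlobal (p ≫ f)) (ext p q M N) (le_top : W ≤ ⊤) from boxVal p q hU hV M N m n) :=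
  TensorProduct.lift.tmul m n

variable (hc : IsPullback p q f g)

include hc in
/-- boxes of affine opens are affine -/
theorem isAffineOpen_box {U : X.Opens} {V : Y.Opens} (hU : IsAffineOpen U) (hV : IsAffineOpen V) :
    IsAffineOpen (p ⁻¹ᵁ U ⊓ q ⁻¹ᵁ V) := by
  have : IsAffine U.toScheme := hU
  have : IsAffine V.toScheme := hV
  have : IsAffine (⊤ : (Spec (CommRingCat.of A)).Opens).toScheme := isAffineOpen_top _
  exact .of_isIso (Scheme.Hom.isPullback_resLE hc (US := ⊤) (UT := V) (UX := U) le_top le_top rfl).isoPullback.hom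

include hc in
/-- functions on boxes -/
theorem isPushout_box {U : X.Opens} {V : Y.Opens} (hU : IsAffineOpen U) (hV : IsAffineOpen V) :
    IsPushout (CommRingCat.ofHom ((rres (le_top : U ≤ ⊤)).hom.comp (Coh.toGlobal f)))
      (CommRingCat.ofHom ((rres (le_top : V ≤ ⊤)).hom.comp (Coh.toGlobal g)))
      (p.appLE U (p ⁻¹ᵁ U ⊓ q ⁻¹ᵁ V) inf_le_left) (q.appLE V (p ⁻¹ᵁ U ⊓ q ⁻¹ᵁ V) inf_le_right) := by
  have h : IsPushout (f.appLE ⊤ U le_top) (g.appLE ⊤ V le_top)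
      (p.appLE U (p ⁻¹ᵁ U ⊓ q ⁻¹ᵁ V) inf_le_left) (q.appLE V (p ⁻¹ᵁ U ⊓ q ⁻¹ᵁ V) inf_le_right) :=
    (isIso_pushoutSection_iff hc le_top le_top rfl).mp
      (isIso_pushoutSection_of_isAffineOpen hc le_top le_top rfl (isAffineOpen_top _) hV hU)
  refine IsPushout.of_iso h (Scheme.ΓSpecIso (CommRingCat.of A)) (Iso.refl _) (Iso.refl _) (Iso.refl _)
    ?_ ?_ (by simp) (by simp)
  · rw [Iso.refl_hom, Category.comp_id, ← Iso.inv_comp_eq]
    rfl
  · rw [Iso.refl_hom, Category.comp_id, ← Iso.inv_comp_eq]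
    rfl

set_option maxHeartbeats 1000000 in
include hc in
/-- sections of external products over boxes of affine opens -/
theorem boxLin_bijective {U : X.Opens} {V : Y.Opens} (hU : IsAffineOpen U) (hV : IsAffineOpen V)
    (M : X.Modules) (N : Y.Modules) [M.IsQuasicoherent] [N.IsQuasicoherent] :
    Function.Bijective (boxLin hw (inf_le_left : p ⁻¹ᵁ U ⊓ q ⁻¹ᵁ V ≤ p ⁻¹ᵁ U) inf_le_right M N) := by
  let W := p ⁻¹ᵁ U ⊓ q ⁻¹ᵁ V
  have hW : IsAffineOpen W := isAffineOpen_box hc hU hV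
  haveI := QCoh.isQuasicoherent_pullback p M
  haveI := QCoh.isQuasicoherent_pullback q N
  let rU := (rres (le_top : U ≤ ⊤)).hom.comp (Coh.toGlobal f)
  let rV := (rres (le_top : V ≤ ⊤)).hom.comp (Coh.toGlobal g)
  letI : Algebra A Γ(X, U) := rU.toAlgebra
  letI : Algebra A Γ(Y, V) := rV.toAlgebra
  letI : Algebra Γ(X, U) Γ(Z, W) := (p.appLE U W inf_le_left).hom.toAlgebra
  letI : Algebra Γ(Y, V) Γ(Z, W) := (q.appLE V W inf_le_right).hom.toAlgebra
  letI : Algebra A Γ(Z, W) := ((rres (le_top : W ≤ ⊤)).hom.comp (Coh.toGlobal (p ≫ f))).toAlgebra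
  haveI : IsScalarTower A Γ(X, U) Γ(Z, W) := IsScalarTower.of_algebraMap_eq fun a =>
    (appLE_toGlobal p inf_le_left a).symm
  haveI : IsScalarTower A Γ(Y, V) Γ(Z, W) := IsScalarTower.of_algebraMap_eq fun a =>
    ((appLE_toGlobal q inf_le_right a).trans (by rw [← hw]; rfl)).symm
  haveI : Algebra.IsPushout A Γ(X, U) Γ(Y, V) Γ(Z, W) :=
    CommRingCat.isPushout_iff_isPushout.mp (isPushout_box hc hU hV)
  let Mp := (Scheme.Modules.pullback p).obj M
  let Nq := (Scheme.Modules.pullback q).obj N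
  let SM := Sec (Coh.toGlobal f) M (le_top : U ≤ ⊤)
  let SN := Sec (Coh.toGlobal g) N (le_top : V ≤ ⊤)
  letI : Module Γ(X, U) SM := show Module Γ(X, U) Γ(M, U) from inferInstance
  letI : Module Γ(Y, V) SN := show Module Γ(Y, V) Γ(N, V) from inferInstance
  haveI : IsScalarTower A Γ(X, U) SM := IsScalarTower.of_algebraMap_smul fun _ _ => rfl
  haveI : IsScalarTower A Γ(Y, V) SN := IsScalarTower.of_algebraMap_smul fun _ _ => rfl
  letI : Module Γ(X, U) Γ(Mp, W) := Module.compHom _ (p.appLE U W inf_le_left).hom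
  haveI : IsScalarTower Γ(X, U) Γ(Z, W) Γ(Mp, W) := IsScalarTower.of_algebraMap_smul fun _ _ => rfl
  letI : Module Γ(Y, V) Γ(Nq, W) := Module.compHom _ (q.appLE V W inf_le_right).hom
  haveI : IsScalarTower Γ(Y, V) Γ(Z, W) Γ(Nq, W) := IsScalarTower.of_algebraMap_smul fun _ _ => rfl
  letI : Module Γ(X, U) Γ(Nq, W) := Module.compHom _ (p.appLE U W inf_le_left).hom
  haveI : IsScalarTower Γ(X, U) Γ(Z, W) Γ(Nq, W) := IsScalarTower.of_algebraMap_smul fun _ _ => rfl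
  let up : SM →ₗ[Γ(X, U)] Γ(Mp, W) :=
    { toFun := LimTop.unitSec p M (inf_le_left : W ≤ p ⁻¹ᵁ U)
      map_add' := map_add _
      map_smul' := LimTop.unitSec_smul p M inf_le_left }
  let uq : SN →ₗ[Γ(Y, V)] Γ(Nq, W) :=
    { toFun := LimTop.unitSec q N (inf_le_right : W ≤ q ⁻¹ᵁ V)
      map_add' := map_add _
      map_smul' := LimTop.unitSec_smul q N inf_le_right }
  have hp : IsBaseChange Γ(Z, W) up := LimTop.isBaseChange_unitSec p M inf_le_left hU hW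
  have hq : IsBaseChange Γ(Z, W) uq := LimTop.isBaseChange_unitSec q N inf_le_right hV hW
  -- `Γ(W, q^*N) = Γ(U) ⊗_A Γ(V, N)`
  let cN : Γ(Z, W) ⊗[Γ(Y, V)] SN ≃ₗ[Γ(X, U)] Γ(X, U) ⊗[A] SN :=
    Algebra.IsPushout.cancelBaseChange A Γ(X, U) Γ(Y, V) Γ(Z, W) SN
  let eN : Γ(X, U) ⊗[A] SN ≃ₗ[Γ(X, U)] Γ(Nq, W) :=
    cN.symm ≪≫ₗ hq.equiv.restrictScalars Γ(X, U)
  have eN_tmul : ∀ n : SN, eN (1 ⊗ₜ n) = uq n := fun n => by
    show hq.equiv (cN.symm (1 ⊗ₜ n)) = uq n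
    rw [show cN.symm (1 ⊗ₜ n) = (1 : Γ(Z, W)) ⊗ₜ n by
      simp [cN, Algebra.IsPushout.cancelBaseChange_symm_tmul], hq.equiv_tmul, one_smul]
  let e₁ : SM ⊗[A] SN ≃+ SM ⊗[Γ(X, U)] Γ(Nq, W) :=
    ((TensorProduct.AlgebraTensorModule.cancelBaseChange A Γ(X, U) Γ(X, U) SM SN).symm ≪≫ₗ
      TensorProduct.congr (LinearEquiv.refl _ SM) eN ).toAddEquiv
  let e₂ : SM ⊗[Γ(X, U)] Γ(Nq, W) ≃+ Γ(Mp, W) ⊗[Γ(Z, W)] Γ(Nq, W) :=
    (TensorProduct.comm Γ(X, U) SM Γ(Nq, W)).toAddEquiv.trans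
      ((hp.tensorEquiv Γ(Nq, W)).symm.toAddEquiv.trans
        (TensorProduct.comm Γ(Z, W) Γ(Nq, W) Γ(Mp, W)).toAddEquiv)
  have he : ∀ (m : SM) (n : SN), e₂ (e₁ (m ⊗ₜ n)) = up m ⊗ₜ uq n := fun m n => by
    have h1 : e₁ (m ⊗ₜ n) = m ⊗ₜ uq n := by
      simp [e₁, eN_tmul]
    rw [h1]
    simp [e₂, IsBaseChange.tensorEquiv]
  have : Mp.IsQuasicoherent := QCoh.isQuasicoherent_pullback p M
  have : Nq.IsQuasicoherent := QCoh.isQuasicoherent_pullback q N
  have : (tensM Mp Nq).IsQuasicoherent := LimTop.TensorQC.isQuasicoherent_tensM Mp Nq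
  have hb := CBC.bijective_of_stalkwise (H := tensM Mp Nq) hW (LimTop.TensorQC.isStalkwiseLoc_secMap Mp Nq hW)
  have key : ∀ z, boxLin hw (inf_le_left : W ≤ p ⁻¹ᵁ U) inf_le_right M N z =
      LimTop.TensorQC.secMap Mp Nq W (e₂ (e₁ z)) := by
    intro z
    induction z using TensorProduct.induction_on with
    | zero =>
      exact (map_zero (boxLin hw (inf_le_left : W ≤ p ⁻¹ᵁ U) inf_le_right M N)).trans
        ((congrArg _ ((congrArg e₂ (map_zero e₁)).trans (map_zero e₂))).trans (map_zero _)).symm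
    | tmul m n =>
      rw [he, LimTop.TensorQC.secMap_tmul]
      exact boxLin_tmul hw _ _ M N m n
    | add a b ha hb =>
      rw [map_add e₁, map_add e₂, map_add (LimTop.TensorQC.secMap Mp Nq W), ← ha, ← hb]
      exact map_add (boxLin hw (inf_le_left : W ≤ p ⁻¹ᵁ U) inf_le_right M N) a b
  rw [show ⇑(boxLin hw (inf_le_left : W ≤ p ⁻¹ᵁ U) inf_le_right M N) =
    LimTop.TensorQC.secMap Mp Nq W ∘ (e₂ ∘ e₁) from funext key]
  exact hb.comp (e₂.bijective.comp e₁.bijective)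

end Groth.Agent.HTor95.Box
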