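import Groth.Agent.HTor95.BoxMain
import Groth.Agent.DRing.LTensor

/-!
# Cohomology and base change for complexes flat over an affine base
-/

set_option autoImplicit false
set_option backward.isDefEq.respectTransparency false

universe u

open CategoryTheory CategoryTheory.Limits MonoidalCategory AlgebraicGeometry TopologicalSpace Opposite
open Groth.Agent.HTor95.Box Groth.Agent.HTor95.BoxCx Groth.Agent.HTor95.BoxQis Groth.Agent.HTor95.BoxMain
open Groth.Agent.HTor95.Rg (gA secCx)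
open Groth.Agent.HTor95.Piece (IsPiece)
open Groth.Agent.CBC (Sec)
open Groth.Agent.QCoh (res rres)
open scoped TensorProduct

attribute [local instance] HasDerivedCategory.standard

namespace Groth.Agent.HTor95.BoxBC

variable {A A' : Type u} [CommRing A] [CommRing A'] {φ : A →+* A'} {X Z : Scheme.{u}}
  {f : X ⟶ Spec (CommRingCat.of A)} {p : Z ⟶ X} {q : Z ⟶ Spec (CommRingCat.of A')}

/-- the two actions agree -/
theorem appLE_toGlobal' (hw : p ≫ f = q ≫ Spec.map (CommRingCat.ofHom φ)) {U : X.Opens} {W : Z.Opens}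
    (h : W ≤ p ⁻¹ᵁ U) (a : A) :
    p.appLE U W h (rres (le_top : U ≤ ⊤) (Coh.toGlobal f a)) =
      rres (le_top : W ≤ ⊤) (Coh.toGlobal q (φ a)) := by
  rw [appLE_toGlobal p h a, hw]
  refine congrArg (rres (le_top : W ≤ ⊤)) ?_
  exact congrArg q.appTop (congr($(Scheme.ΓSpecIso_inv_naturality (CommRingCat.ofHom φ)) a)).symm

variable (hw : p ≫ f = q ≫ Spec.map (CommRingCat.ofHom φ))

/-- the unit on sections, semilinearly -/
noncomputable def uMap {U : X.Opens} {W : Z.Opens} (h : W ≤ p ⁻¹ᵁ U) (M : X.Modules) :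
    (secF f U).obj M ⟶ (ModuleCat.restrictScalars φ).obj ((secF q W).obj ((Scheme.Modules.pullback p).obj M)) :=
  ModuleCat.ofHom (X := (secF f U).obj M)
    (Y := (ModuleCat.restrictScalars φ).obj ((secF q W).obj ((Scheme.Modules.pullback p).obj M)))
  { toFun := fun m => LimTop.unitSec p M h m
    map_add' := map_add (LimTop.unitSec p M h)
    map_smul' := fun a m => (LimTop.unitSec_smul p M h (rres (le_top : U ≤ ⊤) (Coh.toGlobal f a)) m).trans
      (congrArg (fun r : Γ(Z, W) => r • LimTop.unitSec p M h m) (appLE_toGlobal' hw h a)) }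

/-- sections of the base change -/
noncomputable def τ {U : X.Opens} {W : Z.Opens} (h : W ≤ p ⁻¹ᵁ U) :
    secF f U ⋙ ModuleCat.extendScalars.{u, u, u} φ ⟶ Scheme.Modules.pullback p ⋙ secF q W where
  app M := ((ModuleCat.extendRestrictScalarsAdj φ).homEquiv _ _).symm (uMap hw h M)
  naturality {M N} ψ := by
    change (ModuleCat.extendScalars.{u, u, u} φ).map ((secF f U).map ψ) ≫ _ = _ ≫ _
    rw [← Adjunction.homEquiv_naturality_left_symm, ← Adjunction.homEquiv_naturality_right_symm]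
    refine congrArg ((ModuleCat.extendRestrictScalarsAdj φ).homEquiv _ _).symm (ModuleCat.hom_ext
      (LinearMap.ext fun m => ?_))
    exact (LimTop.unitSec_map p M h ψ m).symm

theorem τ_tmul {U : X.Opens} {W : Z.Opens} (h : W ≤ p ⁻¹ᵁ U) (M : X.Modules) (r : A')
    (m : Sec (Coh.toGlobal f) M (le_top : U ≤ ⊤)) :
    letI := φ.toAlgebra
    (τ hw h).app M (r ⊗ₜ[A] m) =
      (r • (show Sec (Coh.toGlobal q) ((Scheme.Modules.pullback p).obj M) (le_top : W ≤ ⊤) from
        LimTop.unitSec p M h m) : Sec (Coh.toGlobal q) ((Scheme.Modules.pullback p).obj M) (le_top : W ≤ ⊤)) :=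
  rfl

variable (hc : IsPullback p q f (Spec.map (CommRingCat.ofHom φ)))

include hc in
theorem isPushout_sec {U : X.Opens} (hU : IsAffineOpen U) :
    IsPushout (CommRingCat.ofHom φ) (CommRingCat.ofHom ((rres (le_top : U ≤ ⊤)).hom.comp (Coh.toGlobal f)))
      (CommRingCat.ofHom ((rres (le_top : p ⁻¹ᵁ U ≤ ⊤)).hom.comp (Coh.toGlobal q)))
      (p.appLE U (p ⁻¹ᵁ U) le_rfl) := by
  let g := Spec.map (CommRingCat.ofHom φ)
  have e : p ⁻¹ᵁ U = p ⁻¹ᵁ U ⊓ q ⁻¹ᵁ ⊤ := (inf_top_eq (a := p ⁻¹ᵁ U)).symm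
  have h : IsPushout (f.appLE ⊤ U le_top) (g.appLE ⊤ ⊤ le_top)
      (p.appLE U (p ⁻¹ᵁ U) le_rfl) (q.appLE ⊤ (p ⁻¹ᵁ U) le_top) :=
    (isIso_pushoutSection_iff hc le_top le_top e).mp
      (isIso_pushoutSection_of_isAffineOpen hc le_top le_top e (isAffineOpen_top _) (isAffineOpen_top _) hU)
  refine IsPushout.of_iso h.flip (Scheme.ΓSpecIso (CommRingCat.of A)) (Scheme.ΓSpecIso (CommRingCat.of A'))
    (Iso.refl _) (Iso.refl _) ?_ ?_ ?_ (by simp)
  · have : g.appLE ⊤ ⊤ le_top = g.appTop := g.appLE_eq_app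
    rw [this]
    exact Scheme.ΓSpecIso_naturality (CommRingCat.ofHom φ)
  · rw [Iso.refl_hom, Category.comp_id, ← Iso.inv_comp_eq]
    rfl
  · rw [Iso.refl_hom, Category.comp_id, ← Iso.inv_comp_eq]
    rfl

include hc in
theorem isAffineHom_p : IsAffineHom p :=
  MorphismProperty.of_isPullback (P := @IsAffineHom) hc.flip inferInstance

include hc in
/-- sections of the base change over inverse images of affine opens -/
theorem bijective_τ {U : X.Opens} (hU : IsAffineOpen U) (M : X.Modules) [M.IsQuasicoherent] :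
    Function.Bijective ((τ hw (le_refl (p ⁻¹ᵁ U))).app M) := by
  haveI := isAffineHom_p hc
  let W := p ⁻¹ᵁ U
  have hW : IsAffineOpen W := hU.preimage p
  let rU := (rres (le_top : U ≤ ⊤)).hom.comp (Coh.toGlobal f)
  let rW := (rres (le_top : W ≤ ⊤)).hom.comp (Coh.toGlobal q)
  letI : Algebra A A' := φ.toAlgebra
  letI : Algebra A Γ(X, U) := rU.toAlgebra
  letI : Algebra A' Γ(Z, W) := rW.toAlgebra
  letI : Algebra Γ(X, U) Γ(Z, W) := (p.appLE U W le_rfl).hom.toAlgebra
  letI : Algebra A Γ(Z, W) := (rW.comp φ).toAlgebra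
  haveI : IsScalarTower A A' Γ(Z, W) := IsScalarTower.of_algebraMap_eq fun _ => rfl
  haveI : IsScalarTower A Γ(X, U) Γ(Z, W) := IsScalarTower.of_algebraMap_eq fun a =>
    (appLE_toGlobal' hw le_rfl a).symm
  haveI : Algebra.IsPushout A A' Γ(X, U) Γ(Z, W) :=
    CommRingCat.isPushout_iff_isPushout.mp (isPushout_sec hc hU)
  haveI : Algebra.IsPushout A Γ(X, U) A' Γ(Z, W) := Algebra.IsPushout.symm inferInstance
  let SM := Sec (Coh.toGlobal f) M (le_top : U ≤ ⊤)
  let Mp := (Scheme.Modules.pullback p).obj M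
  letI : Module Γ(X, U) SM := show Module Γ(X, U) Γ(M, U) from inferInstance
  haveI : IsScalarTower A Γ(X, U) SM := IsScalarTower.of_algebraMap_smul fun _ _ => rfl
  letI : Module Γ(X, U) Γ(Mp, W) := Module.compHom _ (p.appLE U W le_rfl).hom
  haveI : IsScalarTower Γ(X, U) Γ(Z, W) Γ(Mp, W) := IsScalarTower.of_algebraMap_smul fun _ _ => rfl
  letI : Module A' Γ(Mp, W) := Module.compHom _ rW
  haveI : IsScalarTower A' Γ(Z, W) Γ(Mp, W) := IsScalarTower.of_algebraMap_smul fun _ _ => rfl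
  let up : SM →ₗ[Γ(X, U)] Γ(Mp, W) :=
    { toFun := LimTop.unitSec p M (le_refl W)
      map_add' := map_add _
      map_smul' := LimTop.unitSec_smul p M le_rfl }
  have hp : IsBaseChange Γ(Z, W) up := LimTop.isBaseChange_unitSec p M le_rfl hU hW
  let c : Γ(Z, W) ⊗[Γ(X, U)] SM ≃ₗ[A'] A' ⊗[A] SM :=
    Algebra.IsPushout.cancelBaseChange A A' Γ(X, U) Γ(Z, W) SM
  let e : A' ⊗[A] SM ≃ₗ[A'] Γ(Mp, W) := c.symm ≪≫ₗ hp.equiv.restrictScalars A'
  have he : ∀ m : SM, e (1 ⊗ₜ m) = up m := fun m => by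
    show hp.equiv (c.symm (1 ⊗ₜ m)) = up m
    rw [show c.symm (1 ⊗ₜ m) = (1 : Γ(Z, W)) ⊗ₜ m by
      simp [c, Algebra.IsPushout.cancelBaseChange_symm_tmul], hp.equiv_tmul, one_smul]
  have key : ∀ z : A' ⊗[A] SM, (τ hw (le_refl W)).app M z = e z := by
    intro z
    induction z using TensorProduct.induction_on with
    | zero => exact (map_zero ((τ hw (le_refl W)).app M).hom).trans (map_zero e).symm
    | tmul r m =>
      refine (τ_tmul hw le_rfl M r m).trans ?_
      rw [show (r ⊗ₜ[A] m : A' ⊗[A] SM) = r • ((1 : A') ⊗ₜ m) by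
        rw [TensorProduct.smul_tmul', smul_eq_mul, mul_one], map_smul, he]
      rfl
    | add a b ha hb =>
      exact (map_add ((τ hw (le_refl W)).app M).hom a b).trans
        ((congrArg₂ (· + ·) ha hb).trans (map_add e a b).symm)
  have : ⇑((τ hw (le_refl W)).app M) = ⇑e := funext key
  rw [this]
  exact e.bijective

/-- restriction of sections -/
noncomputable def secRes {S : Scheme.{u}} {B : Type u} [CommRing B] (g : S ⟶ Spec (CommRingCat.of B))
    (M : S.Modules) {V V' : S.Opens} (h : V' ≤ V) : (secF g V).obj M ⟶ (secF g V').obj M :=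
  ModuleCat.ofHom (resLin g M h)

theorem τ_res {U U' : X.Opens} {W W' : Z.Opens} (h : W ≤ p ⁻¹ᵁ U) (h' : W' ≤ p ⁻¹ᵁ U') (hU : U' ≤ U)
    (hW : W' ≤ W) (M : X.Modules) :
    (τ hw h).app M ≫ secRes q ((Scheme.Modules.pullback p).obj M) hW =
      (ModuleCat.extendScalars.{u, u, u} φ).map (secRes f M hU) ≫ (τ hw h').app M := by
  change ((ModuleCat.extendRestrictScalarsAdj φ).homEquiv _ _).symm (uMap hw h M) ≫ _ =
    _ ≫ ((ModuleCat.extendRestrictScalarsAdj φ).homEquiv _ _).symm (uMap hw h' M)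
  rw [← Adjunction.homEquiv_naturality_left_symm, ← Adjunction.homEquiv_naturality_right_symm]
  refine congrArg ((ModuleCat.extendRestrictScalarsAdj φ).homEquiv _ _).symm (ModuleCat.hom_ext
    (LinearMap.ext fun m => ?_))
  change res _ hW (LimTop.unitSec p M h m) = LimTop.unitSec p M h' (res M hU m)
  rw [LimTop.unitSec_res]
  exact LimTop.res_unitSec p M h hW m

theorem isIso_resLin {S : Scheme.{u}} {B : Type u} [CommRing B] (g : S ⟶ Spec (CommRingCat.of B)) (M : S.Modules)
    {V V' : S.Opens} (h : V' ≤ V) (hb : Function.Bijective (res M h)) :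
    IsIso (secRes g M h) := by
  rw [ConcreteCategory.isIso_iff_bijective]
  exact hb

variable (f q) in
/-- global sections as sections over `⊤` -/
noncomputable def gIso : HTor.globalSectionsA f ≅ secF f ⊤ :=
  NatIso.ofComponents (fun M => (gSec f M).toModuleIso (X₁ := (HTor.globalSectionsA f).obj M)) fun _ => rfl

/-- global sections of the base change -/
noncomputable def gτ : HTor.globalSectionsA f ⋙ ModuleCat.extendScalars.{u, u, u} φ ⟶
    Scheme.Modules.pullback p ⋙ HTor.globalSectionsA q :=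
  Functor.whiskerRight (gIso f).hom _ ≫ τ hw (U := ⊤) (W := ⊤) le_top ≫
    Functor.whiskerLeft _ (gIso q).inv

include hw hc in
/-- base changes of modules supported on affine opens -/
theorem isIso_unit_pull [IsAffineHom (pullback.diagonal f)] {U : X.Opens} (hU : IsAffineOpen U) (M : X.Modules) [M.IsQuasicoherent]
    [IsIso ((ZClos.resPushUnit U).app M)] :
    IsIso ((ZClos.resPushUnit (p ⁻¹ᵁ U)).app ((Scheme.Modules.pullback p).obj M)) := by
  haveI := isAffineHom_p hc
  haveI := Piece.affineDiag_of_isPullback hc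
  haveI hE := QCoh.isQuasicoherent_pullback p M
  haveI : ((𝟭 Z.Modules).obj ((Scheme.Modules.pullback p).obj M)).IsQuasicoherent := hE
  haveI : ((ZClos.resPush (p ⁻¹ᵁ U)).obj ((Scheme.Modules.pullback p).obj M)).IsQuasicoherent :=
    Piece.qcoh_resPush q (hU.preimage p) _ hE
  refine ProjTilde.isIso_of_bijective_affine _ (fun i : X.affineOpens => p ⁻¹ᵁ i.1)
    (fun i => i.2.preimage p) (fun z _ => ?_) fun i => ?_
  · obtain ⟨U', hx, -⟩ := Piece.affine_basis (⊤ : X.Opens) (p z) trivial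
    exact Opens.mem_iSup.2 ⟨U', hx⟩
  · obtain ⟨U', hU'⟩ := i
    have key : ∀ (W' : Z.Opens) (h : W' ≤ p ⁻¹ᵁ U'), W' = p ⁻¹ᵁ (U ⊓ U') →
        Function.Bijective (res ((Scheme.Modules.pullback p).obj M) h) := by
      rintro _ h rfl
      have := isIso_resLin f M _ (bijective_res (U := U) M (inf_le_right : U ⊓ U' ≤ U') le_rfl)
      have h1 : IsIso ((τ hw (le_refl (p ⁻¹ᵁ U'))).app M) :=
        (ConcreteCategory.isIso_iff_bijective _).2 (bijective_τ hw hc hU' M)
      have h2 : IsIso ((τ hw (le_refl (p ⁻¹ᵁ (U ⊓ U')))).app M) :=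
        (ConcreteCategory.isIso_iff_bijective _).2 (bijective_τ hw hc (Piece.isAffineOpen_inf f hU hU') M)
      have sq := τ_res hw (le_refl (p ⁻¹ᵁ U')) (le_refl _) (inf_le_right : U ⊓ U' ≤ U') h M
      have : IsIso ((τ hw (le_refl (p ⁻¹ᵁ U'))).app M ≫
          secRes q ((Scheme.Modules.pullback p).obj M) h) := by
        rw [sq]
        infer_instance
      have h3 := IsIso.of_isIso_comp_left ((τ hw (le_refl (p ⁻¹ᵁ U'))).app M)
        (secRes q ((Scheme.Modules.pullback p).obj M) h)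
      exact (ConcreteCategory.isIso_iff_bijective (secRes q ((Scheme.Modules.pullback p).obj M) h)).1 h3
    rw [ZClos.resPushUnit_app_app]
    refine key _ (Scheme.Hom.image_preimage_le _ _) ?_
    rw [ZClos.ι_image_preimage, Scheme.Hom.preimage_inf]

include hw hc in
theorem pull_push [IsAffineHom (pullback.diagonal f)] {U : X.Opens} (hU : IsAffineOpen U) {M₀ : X.Modules}
    (hM : M₀.IsQuasicoherent) :
    IsPiece ((Scheme.Modules.pullback p).obj ((ZClos.resPush U).obj M₀)) ∧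
      IsIso ((gτ hw).app ((ZClos.resPush U).obj M₀)) := by
  let M := (ZClos.resPush U).obj M₀
  haveI := isAffineHom_p hc
  haveI := ZClos.isIso_unit_resPush (le_refl U) M₀
  haveI hMq : M.IsQuasicoherent := Piece.qcoh_resPush f hU M₀ hM
  haveI := isIso_unit_pull hw hc hU M
  have hE := QCoh.isQuasicoherent_pullback p M
  refine ⟨.iso (asIso ((ZClos.resPushUnit (p ⁻¹ᵁ U)).app ((Scheme.Modules.pullback p).obj M))).symm
    (.push (hU.preimage p) hE), ?_⟩
  have := isIso_resLin f M _ (bijective_res (U := U) M (le_top : U ≤ ⊤) inf_le_left)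
  have := isIso_resLin q _ _ (bijective_res (U := p ⁻¹ᵁ U) ((Scheme.Modules.pullback p).obj M)
    (le_top : p ⁻¹ᵁ U ≤ ⊤) inf_le_left)
  have h1 : IsIso ((τ hw (le_refl (p ⁻¹ᵁ U))).app M) :=
    (ConcreteCategory.isIso_iff_bijective _).2 (bijective_τ hw hc hU M)
  have sq := τ_res hw (U := ⊤) (W := ⊤) le_top (le_refl (p ⁻¹ᵁ U)) (le_top : U ≤ ⊤)
    (le_top : p ⁻¹ᵁ U ≤ ⊤) M
  have : IsIso ((τ hw (U := ⊤) (W := ⊤) le_top).app M ≫
      secRes q ((Scheme.Modules.pullback p).obj M) (le_top : p ⁻¹ᵁ U ≤ ⊤)) := by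
    rw [sq]
    infer_instance
  have := IsIso.of_isIso_comp_right ((τ hw (U := ⊤) (W := ⊤) le_top).app M)
    (secRes q ((Scheme.Modules.pullback p).obj M) (le_top : p ⁻¹ᵁ U ≤ ⊤))
  change IsIso (_ ≫ _ ≫ _)
  infer_instance

include hw hc in
theorem isPiece_pull [IsAffineHom (pullback.diagonal f)] {M : X.Modules} (h : IsPiece M) :
    IsPiece ((Scheme.Modules.pullback p).obj M) :=
  isPiece_map (Scheme.Modules.pullback p) (fun hU _ hM => (pull_push hw hc hU hM).1) h

include hc in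
theorem isIso_gτ [IsAffineHom (pullback.diagonal f)] {M : X.Modules} (h : IsPiece M) : IsIso ((gτ hw).app M) := by
  induction h with
  | push hU hM => exact (pull_push hw hc hU hM).2
  | zero h => exact isIso_app_zero _ h
  | biprod _ _ h₁ h₂ => exact @isIso_app_biprod _ _ _ _ _ _ _ _ _ _ _ _ _ _ h₁ h₂
  | iso e _ h => exact (NatTrans.isIso_app_iff_of_iso (gτ hw) e).1 h

include hw hc in
/-- base changes of quasi-isomorphisms of flat complexes -/
theorem quasiIso_pull {K K' : CochainComplex X.Modules ℤ} (a : K ⟶ K') [QuasiIso a] {c : ℤ}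
    (hK : ∀ i, (K.X i).IsQuasicoherent) (hK' : ∀ i, (K'.X i).IsQuasicoherent)
    (zK : ∀ i, c < i → IsZero (K.X i)) (zK' : ∀ i, c < i → IsZero (K'.X i))
    (fK : ∀ i, FlatAff f (K.X i)) (fK' : ∀ i, FlatAff f (K'.X i)) :
    QuasiIso ((HTor.pullCx p).map a) := by
  haveI := isAffineHom_p hc
  refine quasiIso_of_affineCover (fun i : X.affineOpens => p ⁻¹ᵁ i.1) (fun i => i.2.preimage p)
    (fun z _ => ?_) _ (fun i => @QCoh.isQuasicoherent_pullback _ _ p (K.X i) (hK i))
    (fun i => @QCoh.isQuasicoherent_pullback _ _ p (K'.X i) (hK' i)) fun i => ?_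
  · obtain ⟨U', hx, -⟩ := Piece.affine_basis (⊤ : X.Opens) (p z) trivial
    exact Opens.mem_iSup.2 ⟨U', hx⟩
  · obtain ⟨U, hU⟩ := i
    rw [← quasiIso_secF_iff q]
    let α := NatTrans.mapHomologicalComplex (τ hw (le_refl (p ⁻¹ᵁ U))) (ComplexShape.up ℤ)
    have hα : ∀ T : CochainComplex X.Modules ℤ, (∀ i, (T.X i).IsQuasicoherent) → IsIso (α.app T) := fun T hT => by
      have : ∀ n, IsIso ((α.app T).f n) := fun n =>
        (ConcreteCategory.isIso_iff_bijective _).2 (@bijective_τ _ _ _ _ _ _ _ _ _ _ hw hc _ hU (T.X n) (hT n))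
      exact HomologicalComplex.Hom.isIso_of_components _
    have := hα K hK
    have := hα K' hK'
    have kf : ∀ {T : CochainComplex X.Modules ℤ}, (∀ i, c < i → IsZero (T.X i)) → (∀ i, FlatAff f (T.X i)) →
        DRing.KFlat.IsKFlat ((mapCx (secF f U)).obj T) := fun {T} z h =>
      DRing.KFlat.isKFlat_of_boundedAbove_flat _ c (fun i hi => (secF f U).map_isZero (z i hi))
        fun i => h i U hU
    have ha : QuasiIso ((mapCx (secF f U)).map a) :=
      (quasiIso_secF_iff f U a).2 (quasiIso_secCx_of_qcoh a hK hK' hU)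
    have h1 := DRing.SingleTensor.quasiIso_extendScalars φ ((mapCx (secF f U)).map a) (kf zK fK) (kf zK' fK')
    have h2 : QuasiIso (α.app K ≫ (mapCx (secF q (p ⁻¹ᵁ U))).map ((HTor.pullCx p).map a)) := by
      have hn : ((secF f U ⋙ ModuleCat.extendScalars.{u, u, u} φ).mapHomologicalComplex (ComplexShape.up ℤ)).map a ≫
          α.app K' = α.app K ≫ (mapCx (secF q (p ⁻¹ᵁ U))).map ((HTor.pullCx p).map a) := α.naturality a
      rw [← hn]
      have : QuasiIso (((secF f U ⋙ ModuleCat.extendScalars.{u, u, u} φ).mapHomologicalComplex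
        (ComplexShape.up ℤ)).map a) := h1
      infer_instance
    exact quasiIso_of_comp_left (α.app K) _

/-- cohomology and base change -/
theorem computes_bc (hc : IsPullback p q f (Spec.map (CommRingCat.ofHom φ))) [QuasiCompact f] [IsAffineHom (pullback.diagonal f)]
    [HTor.HasRΓA f] [HTor.HasRΓA q] (P : CochainComplex X.Modules ℤ) (hq : ∀ i : ℤ, Coh.IsQCoh (P.X i))
    (bP : ∃ b : ℤ, ∀ i : ℤ, b < i → IsZero (P.X i)) (hfl : ∀ i : ℤ, FlatMod.IsFlatOver f (P.X i))
    (L : DRing.Cx A) (hL : ∀ i : ℤ, Projective (L.X i)) (c : ∃ c : ℤ, DRing.VanishesAbove L c)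
    (e : HTor.Computes f L (DCoh.toD X P)) :
    HTor.Computes q (CohIII.bcCx φ L) (DCoh.toD _ ((HTor.pullCx p).obj P)) := by
  have hw := hc.w
  haveI := Piece.affineDiag_of_isPullback hc
  haveI : QuasiCompact q := MorphismProperty.of_isPullback (P := @QuasiCompact) hc ‹QuasiCompact f›
  obtain ⟨R, a, k, ha, hR, zP, zR⟩ := exists_flatRes f P hq bP hfl
  obtain ⟨s, hs⟩ := exists_qis f hL c e (exists_iso_res f a fun i => (hR i).1)
  have h1 := DRing.SingleTensor.quasiIso_extendScalars φ s (isKFlat_of_projective hL c) (isKFlat_gA f hR zR)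
  have h2 := quasiIso_pull hw hc a hq (fun i => (hR i).1.qcoh f) zP zR
    (fun i => @flatAff_of_isFlatOver _ _ _ f (P.X i) (hq i) (hfl i)) (fun i => (hR i).2)
  obtain ⟨eR⟩ := Piece.nonempty_iso_of_piece q ((HTor.pullCx p).obj R) fun i => isPiece_pull hw hc (hR i).1
  let α := (NatTrans.mapHomologicalComplex (gτ hw) (ComplexShape.up ℤ)).app R
  have : ∀ n, IsIso (α.f n) := fun n => isIso_gτ hw hc (hR n).1
  have h3 : IsIso α := HomologicalComplex.Hom.isIso_of_components _
  have i₁ : IsIso (DerivedCategory.Q.map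
      (((ModuleCat.extendScalars.{u, u, u} φ).mapHomologicalComplex (ComplexShape.up ℤ)).map s)) :=
    (DerivedCategory.isIso_Q_map_iff_quasiIso _ _).2 h1
  have i₂ : IsIso (DerivedCategory.Q.map ((HTor.pullCx p).map a)) :=
    (DerivedCategory.isIso_Q_map_iff_quasiIso _ _).2 h2
  exact ⟨@asIso _ _ _ _ _ i₁ ≪≫ DerivedCategory.Q.mapIso (@asIso _ _ _ _ α h3) ≪≫ eR ≪≫
    ((HTor.RΓA q).mapIso (@asIso _ _ _ _ _ i₂)).symm⟩

end Groth.Agent.HTor95.BoxBC
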