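import Groth.Agent.HTor95.BoxPiece
import Groth.Agent.DRing.Braid
import Groth.Agent.KFlat.QCohTensor
import Groth.Prelude.Def_HTor

/-!
# Pairings of sections, on total complexes
-/

set_option autoImplicit false
set_option backward.isDefEq.respectTransparency false

universe u

open CategoryTheory CategoryTheory.Limits MonoidalCategory AlgebraicGeometry Opposite
open Groth.Agent.DRing.Tensor
open Groth.Agent.HTor95.Box

namespace Groth.Agent.HTor95.BoxCx

variable {X Y Z : Scheme.{u}} (p : Z ⟶ X) (q : Z ⟶ Y)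

/-- `pr₁^* K ⊗ pr₂^* L` -/
noncomputable abbrev E (K : CochainComplex X.Modules ℤ) (L : CochainComplex Y.Modules ℤ) :
    CochainComplex Z.Modules ℤ :=
  HomologicalComplex.mapBifunctor ((HTor.pullCx p).obj K) ((HTor.pullCx q).obj L) (DCoh.tensorBi (X := Z))
    (ComplexShape.up ℤ)

theorem E_eq (K : CochainComplex X.Modules ℤ) (L : CochainComplex Y.Modules ℤ) :
    (DCoh.tensorCx.obj ((HTor.pullCx p).obj K)).obj ((HTor.pullCx q).obj L) = E p q K L := rfl

variable {p q} {K K' : CochainComplex X.Modules ℤ} {L L' : CochainComplex Y.Modules ℤ}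

variable (p q K L) in
/-- the summands -/
noncomputable abbrev ιE (i j n : ℤ) (h : i + j = n) : ext p q (K.X i) (L.X j) ⟶ (E p q K L).X n :=
  HomologicalComplex.ιMapBifunctor ((HTor.pullCx p).obj K) ((HTor.pullCx q).obj L) (DCoh.tensorBi (X := Z))
    (ComplexShape.up ℤ) i j n h

theorem ιE_d (i j n n' : ℤ) (h : i + j = n) (hn : n + 1 = n') :
    ιE p q K L i j n h ≫ (E p q K L).d n n' =
      extMapL p q (K.d i (i + 1)) (L.X j) ≫ ιE p q K L (i + 1) j n' (by omega) +
      i.negOnePow • (extMapR p q (K.X i) (L.d j (j + 1)) ≫ ιE p q K L i (j + 1) n' (by omega)) := by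
  change _ ≫ (HomologicalComplex.mapBifunctor.D₁ _ _ _ _ n n' +
    HomologicalComplex.mapBifunctor.D₂ _ _ _ _ n n') = _
  rw [Preadditive.comp_add, HomologicalComplex.mapBifunctor.ι_D₁,
    HomologicalComplex.mapBifunctor.ι_D₂,
    HomologicalComplex.mapBifunctor.d₁_eq _ _ _ _ (i₁ := i) (i₁' := i + 1) (by simp) j n'
      (show i + 1 + j = n' by omega),
    HomologicalComplex.mapBifunctor.d₂_eq _ _ _ _ i (i₂ := j) (i₂' := j + 1) (by simp) n'
      (show i + (j + 1) = n' by omega)]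
  simp [ιE]
  rfl

variable (p q) in
/-- functoriality -/
noncomputable abbrev emap (a : K ⟶ K') (b : L ⟶ L') : E p q K L ⟶ E p q K' L' :=
  HomologicalComplex.mapBifunctorMap ((HTor.pullCx p).map a) ((HTor.pullCx q).map b) (DCoh.tensorBi (X := Z))
    (ComplexShape.up ℤ)

theorem ιE_emap (a : K ⟶ K') (b : L ⟶ L') (i j n : ℤ) (h : i + j = n) :
    ιE p q K L i j n h ≫ (emap p q a b).f n =
      extMapL p q (a.f i) (L.X j) ≫ extMapR p q (K'.X i) (b.f j) ≫ ιE p q K' L' i j n h :=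
  HomologicalComplex.ι_mapBifunctorMap _ _ _ _ i j n h

theorem hom_ext {n : ℤ} {T : Z.Modules} {φ ψ : (E p q K L).X n ⟶ T}
    (h : ∀ i j hij, ιE p q K L i j n hij ≫ φ = ιE p q K L i j n hij ≫ ψ) : φ = ψ :=
  HomologicalComplex.mapBifunctor.hom_ext h

variable (p q K L) in
/-- projections to the summands -/
noncomputable def πE (n k : ℤ) : (E p q K L).X n ⟶ ext p q (K.X k) (L.X (n - k)) :=
  HomologicalComplex.mapBifunctorDesc (fun i j h =>
    if hk : i = k then eqToHom (by subst hk; change i + j = n at h; obtain rfl : j = n - i := (by omega); rfl)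
    else 0)

theorem ι_π_self (n k j : ℤ) (h : k + j = n) :
    ιE p q K L k j n h ≫ πE p q K L n k = eqToHom (by obtain rfl : j = n - k := (by omega); rfl) := by
  rw [πE, HomologicalComplex.ι_mapBifunctorDesc, dif_pos rfl]

theorem ι_π_ne (n k i j : ℤ) (h : i + j = n) (hne : i ≠ k) :
    ιE p q K L i j n h ≫ πE p q K L n k = 0 := by
  rw [πE, HomologicalComplex.ι_mapBifunctorDesc, dif_neg hne]

variable {b₁ b₂ : ℤ}

theorem isZero_summand (hK : ∀ i, b₁ < i → IsZero (K.X i)) (hL : ∀ i, b₂ < i → IsZero (L.X i))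
    {n i j : ℤ} (h : i + j = n) (hi : i ∉ Finset.Icc (n - b₂) b₁) : IsZero (ext p q (K.X i) (L.X j)) := by
  rw [Finset.mem_Icc] at hi
  by_cases h₁ : b₁ < i
  · exact (extL p q (L.X j)).map_isZero (hK i h₁)
  · exact (extR p q (K.X i)).map_isZero (hL j (by omega))

/-- the total complex is a finite sum in each degree -/
theorem total_eq (hK : ∀ i, b₁ < i → IsZero (K.X i)) (hL : ∀ i, b₂ < i → IsZero (L.X i)) (n : ℤ) :
    ∑ k ∈ Finset.Icc (n - b₂) b₁, πE p q K L n k ≫ ιE p q K L k (n - k) n (by omega) = 𝟙 _ := by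
  refine hom_ext fun i j h => ?_
  rw [Preadditive.comp_sum, Category.comp_id]
  by_cases hi : i ∈ Finset.Icc (n - b₂) b₁
  · rw [Finset.sum_eq_single i (fun k _ hk => by rw [← Category.assoc, ι_π_ne n k i j h hk.symm, zero_comp])
      (fun h' => absurd hi h')]
    obtain rfl : j = n - i := by omega
    rw [← Category.assoc, ι_π_self, eqToHom_refl, Category.id_comp]
  · exact (isZero_summand hK hL h hi).eq_of_src _ _

theorem qcoh_E (hK : ∀ i, (K.X i).IsQuasicoherent) (hL : ∀ i, (L.X i).IsQuasicoherent) (n : ℤ) :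
    ((E p q K L).X n).IsQuasicoherent :=
  KFlat.QCohTensor.isQuasicoherent_tensorCx_X _ _
    (fun i => by have := hK i; exact QCoh.isQuasicoherent_pullback p (K.X i))
    (fun i => by have := hL i; exact QCoh.isQuasicoherent_pullback q (L.X i)) n

theorem acy_E {B : Type*} [Category B] [Abelian B] (G : Z.Modules ⥤ B) [G.Additive]
    [HasInjectiveResolutions Z.Modules]
    (hK : ∀ i, b₁ < i → IsZero (K.X i)) (hL : ∀ i, b₂ < i → IsZero (L.X i))
    (h : ∀ i j, CohDerLib.Acyclic.Acy G (ext p q (K.X i) (L.X j))) (n : ℤ) :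
    CohDerLib.Acyclic.Acy G ((E p q K L).X n) := by
  intro m hm
  rw [IsZero.iff_id_eq_zero, ← (G.rightDerived m).map_id, ← total_eq hK hL n, Functor.map_sum]
  refine Finset.sum_eq_zero fun k _ => ?_
  rw [Functor.map_comp]
  exact ((h k (n - k) m hm).eq_of_tgt ((G.rightDerived m).map (πE p q K L n k)) 0).symm ▸ zero_comp

variable {A : Type u} [CommRing A]

variable (p q) in
/-- a natural pairing `F₁ M ⊗ F₂ N ⟶ F₃ (pr₁^* M ⊗ pr₂^* N)` -/
structure Pairing (F₁ : X.Modules ⥤ ModuleCat.{u} A) (F₂ : Y.Modules ⥤ ModuleCat.{u} A)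
    (F₃ : Z.Modules ⥤ ModuleCat.{u} A) where
  /-- the components -/
  app : ∀ (M : X.Modules) (N : Y.Modules), F₁.obj M ⊗ F₂.obj N ⟶ F₃.obj (ext p q M N)
  natural_left : ∀ {M M' : X.Modules} (φ : M ⟶ M') (N : Y.Modules),
    F₁.map φ ▷ F₂.obj N ≫ app M' N = app M N ≫ F₃.map (extMapL p q φ N)
  natural_right : ∀ (M : X.Modules) {N N' : Y.Modules} (ψ : N ⟶ N'),
    F₁.obj M ◁ F₂.map ψ ≫ app M N' = app M N ≫ F₃.map (extMapR p q M ψ)

variable {F₁ : X.Modules ⥤ ModuleCat.{u} A} {F₂ : Y.Modules ⥤ ModuleCat.{u} A}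
  {F₃ : Z.Modules ⥤ ModuleCat.{u} A} [F₁.Additive] [F₂.Additive] [F₃.Additive]
  (θ : Pairing p q F₁ F₂ F₃)

/-- a functor on complexes -/
noncomputable abbrev mapCx {C : Type*} [Category C] [Preadditive C] (F : C ⥤ ModuleCat.{u} A) [F.Additive] :
    CochainComplex C ℤ ⥤ CochainComplex (ModuleCat.{u} A) ℤ :=
  F.mapHomologicalComplex (ComplexShape.up ℤ)

/-- the pairing in degree `n` -/
noncomputable def φX (K : CochainComplex X.Modules ℤ) (L : CochainComplex Y.Modules ℤ) (n : ℤ) : ((mapCx F₁).obj K ⊗ (mapCx F₂).obj L).X n ⟶ F₃.obj ((E p q K L).X n) :=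
  HomologicalComplex.mapBifunctorDesc (fun i j h => θ.app (K.X i) (L.X j) ≫ F₃.map (ιE p q K L i j n h))

theorem ιT_φX (i j n : ℤ) (h : i + j = n) :
    ιT ((mapCx F₁).obj K) ((mapCx F₂).obj L) i j n h ≫ φX θ K L n =
      θ.app (K.X i) (L.X j) ≫ F₃.map (ιE p q K L i j n h) :=
  HomologicalComplex.ι_mapBifunctorDesc _ _ _ _

/-- the pairing on total complexes -/
noncomputable def Φ (K : CochainComplex X.Modules ℤ) (L : CochainComplex Y.Modules ℤ) : (mapCx F₁).obj K ⊗ (mapCx F₂).obj L ⟶ (mapCx F₃).obj (E p q K L) where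
  f n := φX θ K L n
  comm' n n' (hn : n + 1 = n') := by
    refine DRing.Tensor.hom_ext fun i j h => ?_
    change ιT ((mapCx F₁).obj K) ((mapCx F₂).obj L) i j n h ≫ φX θ K L n ≫ F₃.map ((E p q K L).d n n') = _
    rw [← Category.assoc, ιT_φX, Category.assoc, ← F₃.map_comp, ιE_d i j n n' h hn, F₃.map_add,
      Units.smul_def, F₃.map_zsmul, F₃.map_comp, F₃.map_comp, Preadditive.comp_add, Preadditive.comp_zsmul,
      ← Category.assoc (θ.app _ _), ← Category.assoc (θ.app _ _), ← θ.natural_left, ← θ.natural_right,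
      ← Category.assoc (ιT _ _ i j n h), ιT_d i j n n' h hn, Preadditive.add_comp, Units.smul_def,
      Preadditive.zsmul_comp]
    simp only [Category.assoc, ιT_φX]
    rfl

theorem Φ_natural (a : K ⟶ K') (b : L ⟶ L') :
    (mapCx F₁).map a ▷ (mapCx F₂).obj L ≫ (mapCx F₁).obj K' ◁ (mapCx F₂).map b ≫ Φ θ K' L' =
      Φ θ K L ≫ (mapCx F₃).map (emap p q a b) := by
  refine HomologicalComplex.hom_ext _ _ fun n => DRing.Tensor.hom_ext fun i j h => ?_
  change ιT _ _ i j n h ≫ ((mapCx F₁).map a ▷ _).f n ≫ (_ ◁ (mapCx F₂).map b).f n ≫ φX θ K' L' n =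
    ιT ((mapCx F₁).obj K) ((mapCx F₂).obj L) i j n h ≫ φX θ K L n ≫ F₃.map ((emap p q a b).f n)
  rw [ιT_whiskerRight_assoc, ιT_whiskerLeft_assoc, ιT_φX, ← Category.assoc (ιT _ _ i j n h), ιT_φX,
    Category.assoc, ← F₃.map_comp, ιE_emap, F₃.map_comp, F₃.map_comp, ← Category.assoc (θ.app _ _),
    ← θ.natural_left]
  change F₁.map (a.f i) ▷ F₂.obj (L.X j) ≫ F₁.obj (K'.X i) ◁ F₂.map (b.f j) ≫
    θ.app (K'.X i) (L'.X j) ≫ F₃.map _ = _
  rw [Category.assoc, ← Category.assoc (θ.app (K'.X i) (L.X j)), ← θ.natural_right, Category.assoc]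

theorem isIso_Φ (hK : ∀ i, b₁ < i → IsZero (K.X i)) (hL : ∀ i, b₂ < i → IsZero (L.X i))
    (hθ : ∀ i j, IsIso (θ.app (K.X i) (L.X j))) : IsIso (Φ θ K L) := by
  have hf : ∀ n, IsIso ((Φ θ K L).f n) := fun n => by
    have := hθ
    change IsIso (φX θ K L n)
    refine ⟨∑ k ∈ Finset.Icc (n - b₂) b₁, F₃.map (πE p q K L n k) ≫ inv (θ.app (K.X k) (L.X (n - k))) ≫
      ιT ((mapCx F₁).obj K) ((mapCx F₂).obj L) k (n - k) n (by omega), ?_, ?_⟩
    · refine DRing.Tensor.hom_ext fun i j h => ?_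
      rw [Category.comp_id, ← Category.assoc (ιT _ _ i j n h), ιT_φX, Preadditive.comp_sum]
      by_cases hi : i ∈ Finset.Icc (n - b₂) b₁
      · rw [Finset.sum_eq_single i (fun k _ hk => by
          rw [Category.assoc, ← F₃.map_comp_assoc, ι_π_ne n k i j h hk.symm, F₃.map_zero, zero_comp,
            comp_zero]) (fun h' => absurd hi h')]
        obtain rfl : j = n - i := by omega
        rw [Category.assoc, ← F₃.map_comp_assoc, ι_π_self, eqToHom_refl, F₃.map_id, Category.id_comp,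
          IsIso.hom_inv_id_assoc]
      · exact ((F₃.map_isZero (isZero_summand hK hL h hi)).of_iso
          (asIso (θ.app (K.X i) (L.X j)))).eq_of_src _ _
    · rw [Preadditive.sum_comp, ← F₃.map_id, ← total_eq hK hL n, F₃.map_sum]
      refine Finset.sum_congr rfl fun k _ => ?_
      rw [Category.assoc, Category.assoc, ιT_φX, IsIso.inv_hom_id_assoc, ← F₃.map_comp]
  exact HomologicalComplex.Hom.isIso_of_components _

end Groth.Agent.HTor95.BoxCx
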