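import Groth.Agent.HTor95.Filt

/-!
# Consequences of the filtration
-/

universe u

open CategoryTheory CategoryTheory.Limits MonoidalCategory
open scoped TensorProduct DirectSum

attribute [local instance] HasDerivedCategory.standard

namespace Groth.Agent.HTor95.Filt

open DRing.Tensor DRing.Homology Te Cone Phi

variable {A : Type u} [CommRing A] (L M : CochainComplex (ModuleCat.{u} A) ℤ) (n : ℤ)

theorem subsingleton_of_isSubquotient {R : Type u} [CommRing R] {N T : Type u} [AddCommGroup N]
    [Module R N] [AddCommGroup T] [Module R T] (h : HTor.IsSubquotient R N T) [Subsingleton T] :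
    Subsingleton N := by
  obtain ⟨S, S', -, ⟨e⟩⟩ := h
  have : Subsingleton S' := ⟨fun a b => Subtype.ext (Subsingleton.elim _ _)⟩
  have : Subsingleton (↥S' ⧸ Submodule.comap S'.subtype S) := (Submodule.mkQ_surjective _).subsingleton
  exact e.injective.subsingleton

theorem kunneth_surjective_of_tor (hL : DRing.TermwiseFlat L) (bL : ∃ b : ℤ, DRing.VanishesAbove L b)
    (bM : ∃ b : ℤ, DRing.VanishesAbove M b)
    (hT : ∀ p : ℕ, Subsingleton (HTor.TorSum L M n (p + 1))) :
    Function.Surjective (kunneth L M n) := by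
  obtain ⟨N₀, hN⟩ := exists_F_eq_top L M n hL bL bM
  have h : ∀ p, F L M n p = F L M n 0 := by
    intro p
    induction p with
    | zero => rfl
    | succ p ih =>
      refine le_antisymm (fun x hx => ih ▸ ?_) (F_mono L M n (Nat.zero_le _))
      have := hT p
      have hs := subsingleton_of_isSubquotient (isSubquotient_gr L M n p)
      exact (Submodule.Quotient.mk_eq_zero (Submodule.comap (F L M n (p + 1)).subtype (F L M n p))).1
        (Subsingleton.elim (Submodule.Quotient.mk (⟨x, hx⟩ : F L M n (p + 1)) : HTor.grSucc (F L M n) p) 0)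
  rw [← LinearMap.range_eq_top, ← F_zero, ← h N₀, hN]

theorem kunneth_injective_of_surjective_next
    (hsurj : Function.Surjective (kunneth L (next M) n)) : Function.Injective (kunneth L M (n + 1)) := by
  rw [injective_iff_map_eq_zero]
  intro t ht
  obtain ⟨s, rfl⟩ := epsT_surjective L M (n + 1) t
  have h1 : Seq.conn L M n (n + 1) rfl (PhiE L M n (n + 1) rfl (sgn L M (n + 1) s)) = 0 := by
    rw [conn_PhiE, sgn_sgn]; exact ht
  rw [← LinearMap.mem_ker, Seq.ker_conn] at h1
  obtain ⟨w, hw⟩ := h1
  obtain ⟨v, rfl⟩ := hsurj w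
  obtain ⟨r, rfl⟩ := epsT_surjective L (next M) n v
  have h2 : PhiE L M n (n + 1) rfl (dT L M n (n + 1) rfl r) =
      PhiE L M n (n + 1) rfl (sgn L M (n + 1) s) := (projH_al L M n (n + 1) rfl r).symm.trans hw
  have h3 := congrArg (sgn L M (n + 1)) (PhiE_injective L M n (n + 1) rfl h2)
  rw [sgn_sgn] at h3
  rw [← h3]
  have h4 : ∀ u, epsT L M (n + 1) (sgn L M (n + 1) (dT L M n (n + 1) rfl u)) = 0 := by
    intro u
    suffices h : (epsT L M (n + 1)).comp ((sgn L M (n + 1)).comp (dT L M n (n + 1) rfl)) = 0 from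
      LinearMap.congr_fun h u
    refine DirectSum.linearMap_ext A fun ⟨⟨i, r⟩, h⟩ => TensorProduct.ext' fun a f => ?_
    simp only [LinearMap.comp_apply, LinearMap.zero_apply]
    rw [dT_lof L M n (n + 1) rfl i r (r + 1) rfl h, LinearMap.lTensor_tmul, sgn_lof, map_smul, epsT_lof,
      dG, LinearMap.comp_apply, eps_pr, TensorProduct.tmul_zero, map_zero, smul_zero]
  exact h4 r

end Groth.Agent.HTor95.Filt
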