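import Groth.Agent.HTor95.HHModel
import Groth.Agent.S3523
import Groth.Prelude.Def_CohB1
import Mathlib.Data.Finset.NatAntidiagonal

/-!
# The Künneth formula for cohomology of quasi-coherent sheaves
-/

set_option autoImplicit false

universe u

open CategoryTheory CategoryTheory.Limits MonoidalCategory AlgebraicGeometry TopologicalSpace Opposite
open Groth.Agent.HTor95.Box Groth.Agent.HTor95.BoxCx Groth.Agent.HTor95.BoxQis Groth.Agent.HTor95.BoxMain
open Groth.Agent.HTor95.Rg (gA)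
open Groth.Agent.HTor95.Piece (IsPiece)
open scoped TensorProduct DirectSum ZeroObject

attribute [local instance] HasDerivedCategory.standard

namespace Groth.Agent.HTor95.BoxHH

section Sum

variable {A : Type u} [CommRing A] {κ κ' : Type} [DecidableEq κ] [DecidableEq κ'] (ι : κ → κ')
  (hι : Function.Injective ι) (M : κ' → Type u) [∀ k, AddCommGroup (M k)] [∀ k, Module A (M k)]

include hι in
/-- sums with the same nonzero summands -/
theorem nonempty_sum_equiv (h : ∀ k', k' ∉ Set.range ι → Subsingleton (M k')) :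
    Nonempty ((⨁ k, M (ι k)) ≃ₗ[A] ⨁ k', M k') := by
  let φ : (⨁ k, M (ι k)) →ₗ[A] ⨁ k', M k' :=
    DirectSum.toModule A κ _ fun k => DirectSum.lof A κ' M (ι k)
  have hc : ∀ k, DirectSum.component A κ' M (ι k) ∘ₗ φ = DirectSum.component A κ (fun k => M (ι k)) k := by
    intro k
    refine DirectSum.linearMap_ext A fun k₀ => LinearMap.ext fun x => ?_
    simp only [LinearMap.comp_apply, φ, DirectSum.toModule_lof]
    by_cases hk : k₀ = k
    · subst hk
      rw [DirectSum.component.lof_self, DirectSum.component.lof_self]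
    · rw [DirectSum.component.of, DirectSum.component.of, dif_neg (fun e => hk (hι e)), dif_neg hk]
  refine ⟨LinearEquiv.ofBijective φ ⟨(injective_iff_map_eq_zero φ).2 fun x hx => ?_, fun y => ?_⟩⟩
  · refine DirectSum.ext_component (R := A) fun k => ?_
    rw [← hc, LinearMap.comp_apply, hx, map_zero, map_zero]
  · induction y using DirectSum.induction_on with
    | zero => exact ⟨0, map_zero _⟩
    | of k' x =>
      by_cases hk : k' ∈ Set.range ι
      · obtain ⟨k, rfl⟩ := hk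
        refine ⟨DirectSum.lof A κ (fun k => M (ι k)) k x, ?_⟩
        simp only [φ, DirectSum.toModule_lof]
        rfl
      · have := h k' hk
        exact ⟨0, by rw [Subsingleton.elim x 0, map_zero, map_zero]⟩
    | add a b ha hb =>
      obtain ⟨a', rfl⟩ := ha
      obtain ⟨b', rfl⟩ := hb
      exact ⟨a' + b', map_add _ _ _⟩

end Sum

variable {X Y Z : Scheme.{u}} {p : Z ⟶ X} {q : Z ⟶ Y}

/-- finite sums have no higher cohomology if the summands have none -/
theorem subsingleton_HH_E {K : CochainComplex X.Modules ℤ} {L : CochainComplex Y.Modules ℤ} {b₁ b₂ : ℤ}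
    (hK : ∀ i, b₁ < i → IsZero (K.X i)) (hL : ∀ i, b₂ < i → IsZero (L.X i)) {m : ℕ}
    (h : ∀ i j, Subsingleton (Coh.HH Z (ext p q (K.X i) (L.X j)) m)) (n : ℤ) :
    Subsingleton (Coh.HH Z ((E p q K L).X n) m) := by
  refine subsingleton_of_forall_eq 0 fun x => ?_
  refine (CohLin.hMap_id _ m x).symm.trans ((congrArg (CohLin.hMapHom ((E p q K L).X n) ((E p q K L).X n) m x) (total_eq hK hL n).symm).trans ?_)
  refine (map_sum (CohLin.hMapHom ((E p q K L).X n) ((E p q K L).X n) m x) _ _).trans (Finset.sum_eq_zero fun k _ => ?_)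
  refine (CohLin.hMap_comp _ _ m x).trans ?_
  have := h k (n - k)
  rw [Subsingleton.elim (CohLin.hMap (πE p q K L n k) m x) 0, map_zero]

/-- external products of complexes in non-negative degrees live there -/
theorem isZero_E_neg {K : CochainComplex X.Modules ℤ} {L : CochainComplex Y.Modules ℤ} {b₁ b₂ : ℤ}
    (hK : ∀ i, b₁ < i → IsZero (K.X i)) (hL : ∀ i, b₂ < i → IsZero (L.X i))
    (hK' : ∀ i, i < 0 → IsZero (K.X i)) (hL' : ∀ i, i < 0 → IsZero (L.X i)) (n : ℤ) (hn : n < 0) :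
    IsZero ((E p q K L).X n) := by
  rw [IsZero.iff_id_eq_zero, ← total_eq hK hL n]
  refine Finset.sum_eq_zero fun k _ => ?_
  have hz : IsZero (ext p q (K.X k) (L.X (n - k))) := by
    by_cases hk : k < 0
    · exact (extL p q (L.X (n - k))).map_isZero (hK' k hk)
    · exact (extR p q (K.X k)).map_isZero (hL' (n - k) (by omega))
  rw [hz.eq_of_tgt (πE p q K L n k) 0, zero_comp]

/-- a module, as a complex -/
noncomputable abbrev sgl {T : Scheme.{u}} (F : T.Modules) : CochainComplex T.Modules ℤ :=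
  (HomologicalComplex.single T.Modules (ComplexShape.up ℤ) 0).obj F

theorem isZero_sgl {T : Scheme.{u}} (F : T.Modules) (i : ℤ) (h : i ≠ 0) : IsZero ((sgl F).X i) :=
  HomologicalComplex.isZero_single_obj_X _ _ _ _ h

theorem qcoh_sgl {T : Scheme.{u}} {F : T.Modules} (hF : F.IsQuasicoherent) (i : ℤ) :
    ((sgl F).X i).IsQuasicoherent := by
  by_cases h : i = 0
  · subst h
    exact CohDerLib.QC.qcoh_iso (HomologicalComplex.singleObjXSelf (ComplexShape.up ℤ) 0 F).symm hF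
  · exact CohDerLib.QC.qcoh_of_isZero (isZero_sgl F i h)

/-- the external product of two modules, as complexes -/
theorem exists_sglIso (F₁ : X.Modules) (F₂ : Y.Modules) :
    ∃ s : sgl (ext p q F₁ F₂) ⟶ E p q (sgl F₁) (sgl F₂), IsIso s := by
  have z₁ : ∀ i, 0 < i → IsZero ((sgl F₁).X i) := fun i hi => isZero_sgl F₁ i (by omega)
  have z₂ : ∀ i, 0 < i → IsZero ((sgl F₂).X i) := fun i hi => isZero_sgl F₂ i (by omega)
  have hz : ∀ n, n ≠ 0 → IsZero ((E p q (sgl F₁) (sgl F₂)).X n) := fun n hn => by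
    rw [IsZero.iff_id_eq_zero, ← total_eq z₁ z₂ n]
    refine Finset.sum_eq_zero fun k _ => ?_
    have hz : IsZero (ext p q ((sgl F₁).X k) ((sgl F₂).X (n - k))) := by
      by_cases hk : k = 0
      · exact (extR p q _).map_isZero (isZero_sgl F₂ (n - k) (by omega))
      · exact (extL p q _).map_isZero (isZero_sgl F₁ k hk)
    rw [hz.eq_of_tgt (πE p q (sgl F₁) (sgl F₂) n k) 0, zero_comp]
  let e₀ : ext p q F₁ F₂ ≅ ext p q ((sgl F₁).X 0) ((sgl F₂).X 0) :=
    (extL p q F₂).mapIso (HomologicalComplex.singleObjXSelf (ComplexShape.up ℤ) 0 F₁).symm ≪≫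
      (extR p q _).mapIso (HomologicalComplex.singleObjXSelf (ComplexShape.up ℤ) 0 F₂).symm
  have hι : IsIso (ιE p q (sgl F₁) (sgl F₂) 0 0 0 rfl) := by
    refine ⟨πE p q (sgl F₁) (sgl F₂) 0 0 ≫ eqToHom (by rw [sub_zero]), ?_, ?_⟩
    · rw [← Category.assoc, ι_π_self, eqToHom_trans, eqToHom_refl]
    · have h := total_eq (p := p) (q := q) z₁ z₂ 0
      rw [show Finset.Icc ((0 : ℤ) - 0) 0 = {0} by simp, Finset.sum_singleton] at h
      rw [Category.assoc]
      exact h
  let s : sgl (ext p q F₁ F₂) ⟶ E p q (sgl F₁) (sgl F₂) :=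
    HomologicalComplex.mkHomFromSingle (e₀.hom ≫ ιE p q (sgl F₁) (sgl F₂) 0 0 0 rfl)
      (fun j (hj : (0 : ℤ) + 1 = j) => (hz j (by omega)).eq_of_tgt _ _)
  have : ∀ n, IsIso (s.f n) := fun n => by
    by_cases hn : n = 0
    · subst hn
      rw [show s.f 0 = (HomologicalComplex.singleObjXSelf (ComplexShape.up ℤ) 0 _).hom ≫ e₀.hom ≫
        ιE p q (sgl F₁) (sgl F₂) 0 0 0 rfl from HomologicalComplex.mkHomFromSingle_f _ _]
      infer_instance
    · exact ⟨0, (isZero_sgl _ n hn).eq_of_src _ _, (hz n hn).eq_of_src _ _⟩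
  exact ⟨s, HomologicalComplex.Hom.isIso_of_components s⟩

variable {A : Type u} [CommRing A] [X.Over (Spec (CommRingCat.of A))] [Y.Over (Spec (CommRingCat.of A))]
  [Z.Over (Spec (CommRingCat.of A))]
  [QuasiCompact (X ↘ Spec (CommRingCat.of A))] [IsAffineHom (pullback.diagonal (X ↘ Spec (CommRingCat.of A)))]
  [QuasiCompact (Y ↘ Spec (CommRingCat.of A))] [IsAffineHom (pullback.diagonal (Y ↘ Spec (CommRingCat.of A)))]

omit [Y.Over (Spec (CommRingCat.of A))] [Z.Over (Spec (CommRingCat.of A))]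
  [QuasiCompact (Y ↘ Spec (CommRingCat.of A))] [IsAffineHom (pullback.diagonal (Y ↘ Spec (CommRingCat.of A)))] in
theorem flatAff_sgl (F : X.Modules) [F.IsQuasicoherent]
    (h : FlatMod.IsFlatOver (X ↘ Spec (CommRingCat.of A)) F) (i : ℤ) :
    FlatAff (X ↘ Spec (CommRingCat.of A)) ((sgl F).X i) := by
  by_cases hi : i = 0
  · subst hi
    exact flatAff_iso _ (HomologicalComplex.singleObjXSelf (ComplexShape.up ℤ) 0 F).symm
      (flatAff_of_isFlatOver _ F h)
  · exact flatAff_zero _ (isZero_sgl F i hi)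

/-- Künneth formula for modules, over the base -/
theorem nonempty_kunnethHH (hc : IsPullback p q (X ↘ Spec (CommRingCat.of A)) (Y ↘ Spec (CommRingCat.of A)))
    (hZ : (Z ↘ Spec (CommRingCat.of A)) = p ≫ (X ↘ Spec (CommRingCat.of A)))
    (F₁ : X.Modules) (F₂ : Y.Modules) [F₁.IsQuasicoherent] [F₂.IsQuasicoherent]
    (hfl : FlatMod.IsFlatOver (X ↘ Spec (CommRingCat.of A)) F₁) (hH : ∀ i : ℕ, Module.Flat A (Coh.HH X F₁ i))
    (n : ℕ) :
    Nonempty (Coh.HH Z (ext p q F₁ F₂) n ≃ₗ[A]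
      ⨁ pq : Finset.HasAntidiagonal.antidiagonal n, Coh.HH X F₁ pq.1.1 ⊗[A] Coh.HH Y F₂ pq.1.2) := by
  let f := X ↘ Spec (CommRingCat.of A)
  let g := Y ↘ Spec (CommRingCat.of A)
  haveI := affineDiag_comp_of_isPullback hc
  obtain ⟨N₁, U₁, hU₁, hc₁⟩ := exists_cover f
  obtain ⟨N₂, U₂, hU₂, hc₂⟩ := exists_cover g
  have hq₁ := qcoh_sgl (T := X) (F := F₁) inferInstance
  have hq₂ := qcoh_sgl (T := Y) (F := F₂) inferInstance
  have hf₁ := flatAff_sgl F₁ hfl
  obtain ⟨R₁, a₁, ha₁, hR₁, hb₁, hn₁⟩ := Piece.exists_pieceRes f N₁ U₁ hU₁ hc₁ (sgl F₁) hq₁ (FlatAff f)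
    (fun _ h => flatAff_zero f h) (fun h₁ h₂ => flatAff_biprod f h₁ h₂) (fun e h => flatAff_iso f e h)
    (fun hV _ h => flatAff_resPush f hV h) hf₁
  obtain ⟨R₂, a₂, ha₂, hR₂, hb₂, hn₂⟩ := Piece.exists_pieceRes g N₂ U₂ hU₂ hc₂ (sgl F₂) hq₂ (fun _ => True)
    (fun _ _ => trivial) (fun _ _ => trivial) (fun _ _ => trivial) (fun _ _ _ => trivial) (fun _ => trivial)
  have z₁ : ∀ i : ℤ, (0 : ℤ) + N₁ < i → IsZero (R₁.X i) := hb₁ 0 fun i hi => isZero_sgl _ i (by omega)
  have z₂ : ∀ i : ℤ, (0 : ℤ) + N₂ < i → IsZero (R₂.X i) := hb₂ 0 fun i hi => isZero_sgl _ i (by omega)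
  have w₁ : ∀ i : ℤ, i < 0 → IsZero (R₁.X i) := hn₁ 0 fun i hi => isZero_sgl _ i (by omega)
  have w₂ : ∀ i : ℤ, i < 0 → IsZero (R₂.X i) := hn₂ 0 fun i hi => isZero_sgl _ i (by omega)
  -- the complexes computing cohomology
  have e₁ : ∀ i : ℕ, Nonempty (Coh.HH X F₁ i ≃ₗ[A] ((gA f).obj R₁).homology (i : ℤ)) :=
    fun i => HHModel.nonempty_hh (fun j m hm => HHModel.subsingleton_HH_piece f (hR₁ j).1 m hm) a₁ w₁ i
  have e₂ : ∀ i : ℕ, Nonempty (Coh.HH Y F₂ i ≃ₗ[A] ((gA g).obj R₂).homology (i : ℤ)) :=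
    fun i => HHModel.nonempty_hh (fun j m hm => HHModel.subsingleton_HH_piece g (hR₂ j).1 m hm) a₂ w₂ i
  obtain ⟨s, hs⟩ := exists_sglIso (p := p) (q := q) F₁ F₂
  have he : QuasiIso (emap p q a₁ a₂) :=
    quasiIso_emap hc a₁ a₂ (c₁ := 0 + N₁) (c₂ := 0 + N₂) hq₁ (fun i => (hR₁ i).1.qcoh f) hq₂
      (fun i => (hR₂ i).1.qcoh g) (fun i hi => isZero_sgl _ i (by omega)) z₁
      (fun i hi => isZero_sgl _ i (by omega)) z₂ hf₁ (fun i => (hR₁ i).2)
  obtain ⟨eE⟩ := HHModel.nonempty_hh (A := A) (R := E p q R₁ R₂)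
    (fun j m hm => subsingleton_HH_E z₁ z₂
      (fun i k => HHModel.subsingleton_HH_piece (p ≫ f) (isPiece_ext hc (hR₁ i).1 (hR₂ k).1) m hm) j)
    (s ≫ emap p q a₁ a₂) (isZero_E_neg z₁ z₂ w₁ w₂) n
  -- the pairing and the Künneth map
  have := isIso_Φ (muP hc.w) z₁ z₂ fun i j => isIso_mu hc (hR₁ i).1 (hR₂ j).1
  have key : Nonempty (((gA f).obj R₁ ⊗ (gA g).obj R₂).homology (n : ℤ) ≅
      ((gA (p ≫ f)).obj (E p q R₁ R₂)).homology (n : ℤ)) :=
    ⟨(HomologicalComplex.homologyFunctor _ _ (n : ℤ)).mapIso (asIso (Φ (muP hc.w) R₁ R₂))⟩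
  rw [← hZ] at key
  obtain ⟨eΦ⟩ := key
  have zero₁ : ∀ i : ℤ, i < 0 → Subsingleton (((gA f).obj R₁).homology i) := fun i hi =>
    ModuleCat.subsingleton_of_isZero (ShortComplex.isZero_homology_of_isZero_X₂ _
      ((HTor.globalSectionsA f).map_isZero (w₁ i hi)))
  have zero₂ : ∀ i : ℤ, i < 0 → Subsingleton (((gA g).obj R₂).homology i) := fun i hi =>
    ModuleCat.subsingleton_of_isZero (ShortComplex.isZero_homology_of_isZero_X₂ _
      ((HTor.globalSectionsA g).map_isZero (w₂ i hi)))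
  have hflat : ∀ i : ℤ, Module.Flat A (((gA f).obj R₁).homology i) := fun i => by
    by_cases hi : i < 0
    · have := zero₁ i hi
      infer_instance
    · obtain ⟨m, rfl⟩ : ∃ m : ℕ, i = m := ⟨i.toNat, by omega⟩
      obtain ⟨e⟩ := e₁ m
      have := hH m
      exact Module.Flat.of_linearEquiv e.symm
  obtain ⟨Φ', -, hb⟩ := Groth.Agent.S3523.result A ((gA f).obj R₁) ((gA g).obj R₂)
    (fun i => by
      have := flat_top_of_isPiece f (hR₁ i).1 (hR₁ i).2
      exact Module.Flat.of_linearEquiv (gSec f (R₁.X i)))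
    ⟨_, fun i hi => (HTor.globalSectionsA f).map_isZero (z₁ i hi)⟩
    ⟨_, fun i hi => (HTor.globalSectionsA g).map_isZero (z₂ i hi)⟩ hflat (n : ℤ)
  let ι : Finset.HasAntidiagonal.antidiagonal n → HTor.Antidiag (n : ℤ) := fun pq =>
    ⟨((pq.1.1 : ℤ), (pq.1.2 : ℤ)), by
      have h := Finset.HasAntidiagonal.mem_antidiagonal.1 pq.2
      change (pq.1.1 : ℤ) + pq.1.2 = n
      omega⟩
  have hι : Function.Injective ι := fun a b h => by
    have h1 : ((a.1.1 : ℤ), (a.1.2 : ℤ)) = ((b.1.1 : ℤ), (b.1.2 : ℤ)) := congrArg Subtype.val h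
    simp only [Prod.mk.injEq, Nat.cast_inj] at h1
    exact Subtype.ext (Prod.ext h1.1 h1.2)
  obtain ⟨eS⟩ := nonempty_sum_equiv ι hι
    (fun ij : HTor.Antidiag (n : ℤ) => ((gA f).obj R₁).homology ij.1.1 ⊗[A] ((gA g).obj R₂).homology ij.1.2)
    (A := A) fun ij hij => by
      obtain ⟨⟨i, j⟩, h⟩ := ij
      by_cases hi : i < 0
      · have := zero₁ i hi
        change Subsingleton (((gA f).obj R₁).homology i ⊗[A] ((gA g).obj R₂).homology j)
        infer_instance
      · by_cases hj : j < 0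
        · have := zero₂ j hj
          change Subsingleton (((gA f).obj R₁).homology i ⊗[A] ((gA g).obj R₂).homology j)
          infer_instance
        · refine absurd ⟨⟨(i.toNat, j.toNat), Finset.HasAntidiagonal.mem_antidiagonal.2 (by
            change i + j = n at h
            omega)⟩, ?_⟩ hij
          refine Subtype.ext (Prod.ext ?_ ?_)
          · change ((i.toNat : ℤ)) = i
            omega
          · change ((j.toNat : ℤ)) = j
            omega
  refine ⟨eE ≪≫ₗ eΦ.toLinearEquiv.symm ≪≫ₗ (LinearEquiv.ofBijective Φ' hb).symm ≪≫ₗ eS.symm ≪≫ₗ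
    DFinsupp.mapRange.linearEquiv fun pq => (TensorProduct.congr (e₁ pq.1.1).some (e₂ pq.1.2).some).symm⟩

end Groth.Agent.HTor95.BoxHH
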