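import Groth.Agent.HTor95.BoxQis
import Groth.Agent.DRing.DBasic
import Mathlib.AlgebraicGeometry.Morphisms.QuasiCompact

/-!
# The Künneth formula over an affine base
-/

set_option autoImplicit false

universe u

open CategoryTheory CategoryTheory.Limits MonoidalCategory AlgebraicGeometry TopologicalSpace Opposite
open Groth.Agent.HTor95.Box Groth.Agent.HTor95.BoxCx Groth.Agent.HTor95.BoxQis
open Groth.Agent.HTor95.Rg (gA)
open Groth.Agent.HTor95.Piece (IsPiece)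

attribute [local instance] HasDerivedCategory.standard

namespace Groth.Agent.HTor95.BoxMain

section Res

variable {A : Type u} [CommRing A] {X : Scheme.{u}} (f : X ⟶ Spec (CommRingCat.of A))

include f in
/-- finite affine coverings -/
theorem exists_cover [QuasiCompact f] :
    ∃ (N : ℕ) (U : Fin (N + 1) → X.Opens), (∀ i, IsAffineOpen (U i)) ∧ ⨆ i, U i = ⊤ := by
  haveI : CompactSpace X := QuasiCompact.compactSpace_of_compactSpace f
  obtain ⟨t, ht⟩ := isCompact_univ.elim_finite_subcover (fun B : X.affineOpens => (B.1 : Set X))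
    (fun B => B.1.isOpen) fun x _ => by
      obtain ⟨B, hx, -⟩ := Piece.affine_basis (⊤ : X.Opens) x trivial
      exact Set.mem_iUnion.2 ⟨B, hx⟩
  refine ⟨t.card, Fin.cons ⊥ fun i => (t.equivFin.symm i).1.1, fun i => ?_, ?_⟩
  · refine Fin.cases ?_ (fun j => ?_) i
    · rw [Fin.cons_zero]; exact isAffineOpen_bot X
    · rw [Fin.cons_succ]; exact (t.equivFin.symm j).1.2
  · refine eq_top_iff.2 fun x _ => ?_
    obtain ⟨B, hB⟩ := Set.mem_iUnion.1 (ht (Set.mem_univ x))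
    obtain ⟨hBt, hxB⟩ := Set.mem_iUnion.1 hB
    refine Opens.mem_iSup.2 ⟨(t.equivFin ⟨B, hBt⟩).succ, ?_⟩
    rw [Fin.cons_succ, Equiv.symm_apply_apply]
    exact hxB

/-- flat resolutions by pieces -/
theorem exists_flatRes [QuasiCompact f] [IsAffineHom (pullback.diagonal f)] (P : CochainComplex X.Modules ℤ)
    (hq : ∀ i, Coh.IsQCoh (P.X i)) (bP : ∃ b : ℤ, ∀ i, b < i → IsZero (P.X i))
    (hfl : ∀ i, FlatMod.IsFlatOver f (P.X i)) :
    ∃ (R : CochainComplex X.Modules ℤ) (a : P ⟶ R) (c : ℤ), QuasiIso a ∧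
      (∀ i, IsPiece (R.X i) ∧ FlatAff f (R.X i)) ∧
      (∀ i, c < i → IsZero (P.X i)) ∧ (∀ i, c < i → IsZero (R.X i)) := by
  obtain ⟨N, U, hU, hcov⟩ := exists_cover f
  obtain ⟨b, hb⟩ := bP
  obtain ⟨R, a, ha, hR, hRb, -⟩ := Piece.exists_pieceRes f N U hU hcov P hq (FlatAff f)
    (fun _ h => flatAff_zero f h) (fun h₁ h₂ => flatAff_biprod f h₁ h₂) (fun e h => flatAff_iso f e h)
    (fun hV _ h => flatAff_resPush f hV h)
    (fun i => @flatAff_of_isFlatOver _ _ _ f (P.X i) (hq i) (hfl i))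
  exact ⟨R, a, b + N, ha, hR, fun i hi => hb i (by omega), hRb b hb⟩

/-- resolutions by pieces, bounded above -/
theorem exists_res [QuasiCompact f] [IsAffineHom (pullback.diagonal f)] (P : CochainComplex X.Modules ℤ)
    (hq : ∀ i, Coh.IsQCoh (P.X i)) (bP : ∃ b : ℤ, ∀ i, b < i → IsZero (P.X i)) :
    ∃ (R : CochainComplex X.Modules ℤ) (a : P ⟶ R) (c : ℤ), QuasiIso a ∧ (∀ i, IsPiece (R.X i)) ∧
      (∀ i, c < i → IsZero (P.X i)) ∧ (∀ i, c < i → IsZero (R.X i)) := by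
  obtain ⟨N, U, hU, hcov⟩ := exists_cover f
  obtain ⟨b, hb⟩ := bP
  obtain ⟨R, a, ha, hR, hRb, -⟩ := Piece.exists_pieceRes f N U hU hcov P hq (fun _ => True)
    (fun _ _ => trivial) (fun _ _ => trivial) (fun _ _ => trivial) (fun _ _ _ => trivial) (fun _ => trivial)
  exact ⟨R, a, b + N, ha, fun i => (hR i).1, fun i hi => hb i (by omega), hRb b hb⟩

/-- `RΓ` of a complex through a resolution by pieces -/
theorem exists_iso_res [QuasiCompact f] [IsAffineHom (pullback.diagonal f)] [HTor.HasRΓA f] {P R : CochainComplex X.Modules ℤ}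
    (a : P ⟶ R) [QuasiIso a] (hR : ∀ i, IsPiece (R.X i)) :
    Nonempty (DRing.toD ((gA f).obj R) ≅ (HTor.RΓA f).obj (DCoh.toD X P)) := by
  obtain ⟨e⟩ := Piece.nonempty_iso_of_piece f R hR
  have : IsIso (DerivedCategory.Q.map a) := (DerivedCategory.isIso_Q_map_iff_quasiIso _ _).2 inferInstance
  exact ⟨e ≪≫ ((HTor.RΓA f).mapIso (asIso (DerivedCategory.Q.map a))).symm⟩

/-- chain maps from computing complexes -/
theorem exists_qis [HTor.HasRΓA f] {L G : DRing.Cx A} (hL : ∀ i, Projective (L.X i))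
    (hc : ∃ c : ℤ, DRing.VanishesAbove L c) {P : CochainComplex X.Modules ℤ}
    (e : HTor.Computes f L (DCoh.toD X P)) (eG : Nonempty (DRing.toD G ≅ (HTor.RΓA f).obj (DCoh.toD X P))) :
    ∃ s : L ⟶ G, QuasiIso s := by
  obtain ⟨e⟩ := e
  obtain ⟨eG⟩ := eG
  obtain ⟨c, hc⟩ := hc
  have : L.IsStrictlyLE c := (CochainComplex.isStrictlyLE_iff _ _).2 hc
  have := hL
  have : L.IsKProjective := CochainComplex.isKProjective_of_projective L c
  obtain ⟨s, hs⟩ := DRing.DBasic.exists_Q_map_eq (e ≪≫ eG.symm).hom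
  refine ⟨s, (DerivedCategory.isIso_Q_map_iff_quasiIso _ _).1 ?_⟩
  rw [hs]
  infer_instance

/-- bounded above complexes of projectives are K-flat -/
theorem isKFlat_of_projective {L : DRing.Cx A} (hL : ∀ i, Projective (L.X i))
    (hc : ∃ c : ℤ, DRing.VanishesAbove L c) : DRing.KFlat.IsKFlat L := by
  obtain ⟨c, hc⟩ := hc
  refine DRing.KFlat.isKFlat_of_boundedAbove_flat L c hc fun i => ?_
  have : Module.Projective A (L.X i) := by
    have := hL i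
    exact (IsProjective.iff_projective (R := A) (L.X i)).2 (by exact this)
  infer_instance

/-- global sections of flat pieces form K-flat complexes -/
theorem isKFlat_gA {R : CochainComplex X.Modules ℤ} (hR : ∀ i, IsPiece (R.X i) ∧ FlatAff f (R.X i))
    {c : ℤ} (z : ∀ i, c < i → IsZero (R.X i)) : DRing.KFlat.IsKFlat ((gA f).obj R) :=
  DRing.KFlat.isKFlat_of_boundedAbove_flat _ c (fun i hi => (HTor.globalSectionsA f).map_isZero (z i hi))
    fun i => by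
      have := flat_top_of_isPiece f (hR i).1 (hR i).2
      exact Module.Flat.of_linearEquiv (gSec f (R.X i))

end Res

variable {A : Type u} [CommRing A] {X Y Z : Scheme.{u}} {f : X ⟶ Spec (CommRingCat.of A)}
  {g : Y ⟶ Spec (CommRingCat.of A)} {p : Z ⟶ X} {q : Z ⟶ Y}

/-- the Künneth formula -/
theorem computes_ext (hc : IsPullback p q f g) [QuasiCompact f] [IsAffineHom (pullback.diagonal f)] [QuasiCompact g] [IsAffineHom (pullback.diagonal g)]
    [HTor.HasRΓA f] [HTor.HasRΓA g] [HTor.HasRΓA (p ≫ f)]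
    (P₁ : CochainComplex X.Modules ℤ) (P₂ : CochainComplex Y.Modules ℤ)
    (hq₁ : ∀ i : ℤ, Coh.IsQCoh (P₁.X i)) (hq₂ : ∀ i : ℤ, Coh.IsQCoh (P₂.X i))
    (b₁ : ∃ b : ℤ, ∀ i : ℤ, b < i → IsZero (P₁.X i)) (b₂ : ∃ b : ℤ, ∀ i : ℤ, b < i → IsZero (P₂.X i))
    (hfl : ∀ i : ℤ, FlatMod.IsFlatOver f (P₁.X i))
    (L₁ L₂ : DRing.Cx A) (hL₁ : ∀ i : ℤ, Projective (L₁.X i)) (hL₂ : ∀ i : ℤ, Projective (L₂.X i))
    (c₁ : ∃ c : ℤ, DRing.VanishesAbove L₁ c) (c₂ : ∃ c : ℤ, DRing.VanishesAbove L₂ c)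
    (e₁ : HTor.Computes f L₁ (DCoh.toD X P₁)) (e₂ : HTor.Computes g L₂ (DCoh.toD Y P₂)) :
    HTor.Computes (p ≫ f) (HTor.tensorCx L₁ L₂) (DCoh.toD Z (E p q P₁ P₂)) := by
  haveI := affineDiag_comp_of_isPullback hc
  haveI : QuasiCompact p := MorphismProperty.of_isPullback (P := @QuasiCompact) hc.flip ‹QuasiCompact g›
  have : EnoughInjectives Z.Modules := IsGrothendieckAbelian.enoughInjectives
  obtain ⟨R₁, a₁, k₁, ha₁, hR₁, zP₁, zR₁⟩ := exists_flatRes f P₁ hq₁ b₁ hfl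
  obtain ⟨R₂, a₂, k₂, ha₂, hR₂, zP₂, zR₂⟩ := exists_res g P₂ hq₂ b₂
  have qR₁ := fun i => (hR₁ i).1.qcoh f
  have qR₂ := fun i => (hR₂ i).qcoh g
  obtain ⟨s₁, hs₁⟩ := exists_qis f hL₁ c₁ e₁ (exists_iso_res f a₁ fun i => (hR₁ i).1)
  obtain ⟨s₂, hs₂⟩ := exists_qis g hL₂ c₂ e₂ (exists_iso_res g a₂ hR₂)
  have h1 := quasiIso_tensor s₁ s₂ (isKFlat_of_projective hL₁ c₁) (isKFlat_gA f hR₁ zR₁)
  have := isIso_Φ (muP hc.w) zR₁ zR₂ fun i j => isIso_mu hc (hR₁ i).1 (hR₂ j)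
  have := Piece.quasiSeparated_of_affineDiag (p ≫ f)
  obtain ⟨e⟩ := Rg.nonempty_iso_of_acy (p ≫ f) (E p q R₁ R₂) (qcoh_E qR₁ qR₂)
    (acy_E (Scheme.Modules.pushforward (p ≫ f)) zR₁ zR₂
      fun i j => (isPiece_ext hc (hR₁ i).1 (hR₂ j)).acy (p ≫ f))
  have he := quasiIso_emap hc a₁ a₂ hq₁ qR₁ hq₂ qR₂ zP₁ zR₁ zP₂ zR₂
    (fun i => @flatAff_of_isFlatOver _ _ _ f (P₁.X i) (hq₁ i) (hfl i)) (fun i => (hR₁ i).2)
  have i₁ : IsIso (DerivedCategory.Q.map ((s₁ ▷ L₂ ≫ (gA f).obj R₁ ◁ s₂) ≫ Φ (muP hc.w) R₁ R₂)) :=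
    (DerivedCategory.isIso_Q_map_iff_quasiIso _ _).2 inferInstance
  have i₂ : IsIso (DerivedCategory.Q.map (emap p q a₁ a₂)) :=
    (DerivedCategory.isIso_Q_map_iff_quasiIso _ _).2 he
  exact ⟨@asIso _ _ _ _ _ i₁ ≪≫ e ≪≫ ((HTor.RΓA (p ≫ f)).mapIso (@asIso _ _ _ _ _ i₂)).symm⟩

end Groth.Agent.HTor95.BoxMain
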