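import Groth.Agent.HTor95.Box
import Groth.Prelude.Def_FlatMod2
import Groth.Agent.FlatMor.FlatLemmas

/-!
# External products of pieces
-/

set_option autoImplicit false

universe u

open CategoryTheory CategoryTheory.Limits MonoidalCategory AlgebraicGeometry TopologicalSpace Opposite
open Groth.Agent.CBC (Sec)
open Groth.Agent.QCoh (res rres)
open Groth.Agent.HTor95.Piece (IsPiece)
open Groth.Agent.HTor95.Box
open Groth.Agent.KFlat.StalkTensor
open scoped TensorProduct

namespace Groth.Agent.HTor95.Box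

section Res

variable {X : Scheme.{u}}

/-- restriction maps between equal opens -/
theorem bijective_res_self (M : X.Modules) {V V' : X.Opens} (h : V' ≤ V) (h' : V ≤ V') :
    Function.Bijective (res M h) := by
  obtain rfl : V' = V := le_antisymm h h'
  have : ⇑(res M h) = id := funext fun s => QCoh.res_self M h s
  rw [this]
  exact Function.bijective_id

/-- restrictions of modules supported by sections on `U` -/
theorem bijective_res {U : X.Opens} (M : X.Modules) [IsIso ((ZClos.resPushUnit U).app M)]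
    {V V' : X.Opens} (h : V' ≤ V) (h' : U ⊓ V ≤ V') : Function.Bijective (res M h) := by
  have hη : ∀ O : X.Opens, Function.Bijective (((ZClos.resPushUnit U).app M).app O) := fun O =>
    ConcreteCategory.bijective_of_isIso _
  have e : U.ι ''ᵁ U.ι ⁻¹ᵁ V ≤ U.ι ''ᵁ U.ι ⁻¹ᵁ V' := by
    rw [ZClos.ι_image_preimage, ZClos.ι_image_preimage]
    exact le_inf inf_le_left h'
  have hb : Function.Bijective (res ((ZClos.resPush U).obj M) h) :=
    bijective_res_self M (U.ι.image_mono (U.ι.preimage_mono h)) e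
  have sq : ⇑(((ZClos.resPushUnit U).app M).app V') ∘ ⇑(res M h) =
      ⇑(res ((ZClos.resPush U).obj M) h) ∘ ⇑(((ZClos.resPushUnit U).app M).app V) :=
    funext fun s => QCoh.app_res _ h s
  exact (Function.Bijective.of_comp_iff' (hη V') _).1 (sq ▸ hb.comp (hη V))

end Res

section Sec

variable {A : Type u} [CommRing A] {X : Scheme.{u}} (f : X ⟶ Spec (CommRingCat.of A))

/-- restriction, linear over `A` -/
noncomputable def resLin (M : X.Modules) {V V' : X.Opens} (h : V' ≤ V) :
    Sec (Coh.toGlobal f) M (le_top : V ≤ ⊤) →ₗ[A] Sec (Coh.toGlobal f) M (le_top : V' ≤ ⊤) where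
  toFun s := res M h s
  map_add' := map_add _
  map_smul' a s := CBC.rs_sec_smul _ M le_top h a s

/-- a morphism on sections, linear over `A` -/
noncomputable def mapLin {M N : X.Modules} (φ : M ⟶ N) (V : X.Opens) :
    Sec (Coh.toGlobal f) M (le_top : V ≤ ⊤) →ₗ[A] Sec (Coh.toGlobal f) N (le_top : V ≤ ⊤) where
  toFun s := φ.app V s
  map_add' := map_add _
  map_smul' _ s := Scheme.Modules.Hom.app_smul φ _ _

theorem mapLin_id (M : X.Modules) (V : X.Opens) : mapLin f (𝟙 M) V = LinearMap.id := rfl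

theorem mapLin_comp {M N K : X.Modules} (φ : M ⟶ N) (ψ : N ⟶ K) (V : X.Opens) :
    mapLin f (φ ≫ ψ) V = mapLin f ψ V ∘ₗ mapLin f φ V := rfl

/-- an isomorphism on sections -/
noncomputable def mapLinEquiv {M N : X.Modules} (e : M ≅ N) (V : X.Opens) :
    Sec (Coh.toGlobal f) M (le_top : V ≤ ⊤) ≃ₗ[A] Sec (Coh.toGlobal f) N (le_top : V ≤ ⊤) :=
  LinearEquiv.ofLinear (mapLin f e.hom V) (mapLin f e.inv V)
    (by rw [← mapLin_comp, e.inv_hom_id, mapLin_id]) (by rw [← mapLin_comp, e.hom_inv_id, mapLin_id])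

/-- global sections as sections over `⊤` -/
noncomputable def gSec (M : X.Modules) :
    (HTor.globalSectionsA f).obj M ≃ₗ[A] Sec (Coh.toGlobal f) M (le_top : (⊤ : X.Opens) ≤ ⊤) :=
  { (AddEquiv.refl Γ(M, ⊤) : (HTor.globalSectionsA f).obj M ≃+ Sec (Coh.toGlobal f) M (le_top : (⊤ : X.Opens) ≤ ⊤)) with
    map_smul' := fun a x => by
      refine (Scheme.Modules.smul_Spec_def (R := CommRingCat.of A)
        (M := (Scheme.Modules.pushforward f).obj M) (U := ⊤) a x).trans ?_
      refine congrArg (fun r : Γ(X, ⊤) => r • (show Γ(M, ⊤) from x)) ?_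
      exact (congrArg (fun t => f.app ⊤ t)
        (congr($((Spec (CommRingCat.of A)).presheaf.map_id _)
          ((Scheme.ΓSpecIso (CommRingCat.of A)).inv a)))).trans
        (QCoh.rres_self (le_refl (⊤ : X.Opens)) _).symm }

/-- flatness of sections over affine opens -/
def FlatAff (M : X.Modules) : Prop :=
  ∀ V : X.Opens, IsAffineOpen V → Module.Flat A (Sec (Coh.toGlobal f) M (le_top : V ≤ ⊤))

theorem subsingleton_sec {M : X.Modules} (h : IsZero M) (V : X.Opens) :
    Subsingleton (Sec (Coh.toGlobal f) M (le_top : V ≤ ⊤)) :=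
  ⟨fun a b => by
    have ha : ∀ s : Sec (Coh.toGlobal f) M (le_top : V ≤ ⊤), s = 0 := fun s => by
      have := congrArg (fun φ : M ⟶ M => φ.app V s) (h.eq_of_src (𝟙 M) 0)
      exact this
    rw [ha a, ha b]⟩

theorem flatAff_zero {M : X.Modules} (h : IsZero M) : FlatAff f M := fun V _ => by
  have := subsingleton_sec f h V
  infer_instance

theorem flatAff_iso {M N : X.Modules} (e : M ≅ N) (h : FlatAff f M) : FlatAff f N := fun V hV =>
  have := h V hV
  Module.Flat.of_linearEquiv (mapLinEquiv f e V).symm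

/-- sections of sums -/
noncomputable def biprodSec (M N : X.Modules) (V : X.Opens) :
    Sec (Coh.toGlobal f) (M ⊞ N) (le_top : V ≤ ⊤) ≃ₗ[A]
      Sec (Coh.toGlobal f) M (le_top : V ≤ ⊤) × Sec (Coh.toGlobal f) N (le_top : V ≤ ⊤) :=
  LinearEquiv.ofLinear ((mapLin f biprod.fst V).prod (mapLin f biprod.snd V))
    ((mapLin f biprod.inl V).coprod (mapLin f biprod.inr V))
    (by
      refine LinearMap.ext fun x => ?_
      obtain ⟨m, n⟩ := x
      have h1 : biprod.inl ≫ (biprod.fst : M ⊞ N ⟶ M) = 𝟙 M := biprod.inl_fst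
      have h2 : biprod.inr ≫ (biprod.fst : M ⊞ N ⟶ M) = 0 := biprod.inr_fst
      have h3 : biprod.inl ≫ (biprod.snd : M ⊞ N ⟶ N) = 0 := biprod.inl_snd
      have h4 : biprod.inr ≫ (biprod.snd : M ⊞ N ⟶ N) = 𝟙 N := biprod.inr_snd
      refine Prod.ext ?_ ?_
      · refine (map_add (mapLin f biprod.fst V) _ _).trans ?_
        refine (congrArg₂ (· + ·) (congrArg (fun φ : M ⟶ M => φ.app V m) h1)
          (congrArg (fun φ : N ⟶ M => φ.app V n) h2)).trans ?_
        exact add_zero m
      · refine (map_add (mapLin f biprod.snd V) _ _).trans ?_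
        refine (congrArg₂ (· + ·) (congrArg (fun φ : M ⟶ N => φ.app V m) h3)
          (congrArg (fun φ : N ⟶ N => φ.app V n) h4)).trans ?_
        exact zero_add n)
    (by
      refine LinearMap.ext fun x => ?_
      exact congrArg (fun φ : M ⊞ N ⟶ M ⊞ N => φ.app V x) biprod.total)

theorem flatAff_biprod {M N : X.Modules} (hM : FlatAff f M) (hN : FlatAff f N) : FlatAff f (M ⊞ N) := fun V hV =>
  have := hM V hV
  have := hN V hV
  haveI := FlatMor.FlatLemmas.flat_prod (R := A) (M := Sec (Coh.toGlobal f) M (le_top : V ≤ ⊤))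
    (N := Sec (Coh.toGlobal f) N (le_top : V ≤ ⊤))
  Module.Flat.of_linearEquiv (biprodSec f M N V)

theorem flatAff_left {M N : X.Modules} (h : FlatAff f (M ⊞ N)) : FlatAff f M := fun V hV => by
  have := h V hV
  exact Module.Flat.of_retract (mapLin f (biprod.inl : M ⟶ M ⊞ N) V) (mapLin f biprod.fst V)
    (by rw [← mapLin_comp, biprod.inl_fst, mapLin_id])

theorem flatAff_right {M N : X.Modules} (h : FlatAff f (M ⊞ N)) : FlatAff f N := fun V hV => by
  have := h V hV
  exact Module.Flat.of_retract (mapLin f (biprod.inr : N ⟶ M ⊞ N) V) (mapLin f biprod.snd V)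
    (by rw [← mapLin_comp, biprod.inr_snd, mapLin_id])

/-- sections of `j_*(M|_U)` -/
noncomputable def secPush {U : X.Opens} (M : X.Modules) (V : X.Opens) :
    Sec (Coh.toGlobal f) ((ZClos.resPush U).obj M) (le_top : V ≤ ⊤) ≃ₗ[A]
      Sec (Coh.toGlobal f) M (le_top : U ⊓ V ≤ ⊤) :=
  haveI := ZClos.isIso_unit_resPush (le_refl U) M
  (LinearEquiv.ofBijective (resLin f ((ZClos.resPush U).obj M) (inf_le_right : U ⊓ V ≤ V))
      (bijective_res (U := U) _ inf_le_right le_rfl)).trans
    (LinearEquiv.ofBijective (mapLin f ((ZClos.resPushUnit U).app M) (U ⊓ V)) (by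
      show Function.Bijective (((ZClos.resPushUnit U).app M).app (U ⊓ V))
      rw [ZClos.resPushUnit_app_app]
      exact bijective_res_self M (U.ι.image_preimage_le _)
        (by rw [ZClos.ι_image_preimage]; exact le_inf inf_le_left le_rfl))).symm

theorem flatAff_resPush [IsAffineHom (pullback.diagonal f)] {U : X.Opens} (hU : IsAffineOpen U) {M : X.Modules} (h : FlatAff f M) :
    FlatAff f ((ZClos.resPush U).obj M) := fun V hV =>
  have := h _ (Piece.isAffineOpen_inf f hU hV)
  Module.Flat.of_linearEquiv (secPush f M V)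

/-- global sections of flat pieces are flat -/
theorem flat_top_of_isPiece {M : X.Modules} (h : IsPiece M) :
    FlatAff f M → Module.Flat A (Sec (Coh.toGlobal f) M (le_top : (⊤ : X.Opens) ≤ ⊤)) := by
  induction h with
  | @push U hU M hM =>
    intro hf
    haveI := ZClos.isIso_unit_resPush (le_refl U) M
    have := hf U hU
    exact Module.Flat.of_linearEquiv (LinearEquiv.ofBijective
      (resLin f ((ZClos.resPush U).obj M) (le_top : U ≤ ⊤))
      (bijective_res (U := U) _ le_top inf_le_left))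
  | zero h =>
    intro _
    have := subsingleton_sec f h ⊤
    infer_instance
  | @biprod M N _ _ h₁ h₂ =>
    intro hf
    have := h₁ (flatAff_left f hf)
    have := h₂ (flatAff_right f hf)
    haveI := FlatMor.FlatLemmas.flat_prod (R := A) (M := Sec (Coh.toGlobal f) M (le_top : (⊤ : X.Opens) ≤ ⊤))
      (N := Sec (Coh.toGlobal f) N (le_top : (⊤ : X.Opens) ≤ ⊤))
    exact Module.Flat.of_linearEquiv (biprodSec f _ _ _)
  | iso e _ h =>
    intro hf
    have := h (flatAff_iso f e.symm hf)
    exact Module.Flat.of_linearEquiv (mapLinEquiv f e ⊤).symm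

end Sec

section Add

variable {C D : Type*} [Category C] [Category D] [Preadditive C] [Preadditive D] [HasBinaryBiproducts C]

/-- additive transformations invertible on two objects are so on their sum -/
theorem isIso_app_biprod {F G : C ⥤ D} [F.Additive] [G.Additive] (θ : F ⟶ G) (M N : C) [IsIso (θ.app M)]
    [IsIso (θ.app N)] : IsIso (θ.app (M ⊞ N)) := by
  refine ⟨G.map biprod.fst ≫ inv (θ.app M) ≫ F.map biprod.inl +
    G.map biprod.snd ≫ inv (θ.app N) ≫ F.map biprod.inr, ?_, ?_⟩
  · simp only [Preadditive.comp_add, ← θ.naturality_assoc, IsIso.hom_inv_id_assoc, ← F.map_comp,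
      ← F.map_add, biprod.total, F.map_id]
  · simp only [Preadditive.add_comp, Category.assoc, θ.naturality, IsIso.inv_hom_id_assoc, ← G.map_comp,
      ← G.map_add, biprod.total, G.map_id]

theorem isIso_app_zero {F G : C ⥤ D} [F.PreservesZeroMorphisms] [G.PreservesZeroMorphisms] (θ : F ⟶ G) {M : C}
    (h : IsZero M) : IsIso (θ.app M) :=
  ⟨0, (F.map_isZero h).eq_of_src _ _, (G.map_isZero h).eq_of_src _ _⟩

end Add

instance additive_tensorBi_flip {Z : Scheme.{u}} (N : Z.Modules) :
    ((DCoh.tensorBi (X := Z)).flip.obj N).Additive where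
  map_add {a b φ ψ} := congr($((DCoh.tensorBi (X := Z)).map_add (f := φ) (g := ψ)).app N)

variable {A : Type u} [CommRing A] {X Y Z : Scheme.{u}} {f : X ⟶ Spec (CommRingCat.of A)}
  {g : Y ⟶ Spec (CommRingCat.of A)} {p : Z ⟶ X} {q : Z ⟶ Y} (hc : IsPullback p q f g)

include hc in
theorem affineDiag_comp_of_isPullback [IsAffineHom (pullback.diagonal f)] [IsAffineHom (pullback.diagonal g)] :
    IsAffineHom (pullback.diagonal (p ≫ f)) :=
  Piece.affineDiag_comp hc

include hc in
/-- products of two modules supported on affine opens are supported on their box -/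
theorem isIso_unit_ext [IsAffineHom (pullback.diagonal f)] [IsAffineHom (pullback.diagonal g)] {U : X.Opens} (hU : IsAffineOpen U) {V : Y.Opens}
    (hV : IsAffineOpen V) (M : X.Modules) (N : Y.Modules) [M.IsQuasicoherent] [N.IsQuasicoherent]
    [IsIso ((ZClos.resPushUnit U).app M)] [IsIso ((ZClos.resPushUnit V).app N)] :
    IsIso ((ZClos.resPushUnit (p ⁻¹ᵁ U ⊓ q ⁻¹ᵁ V)).app (ext p q M N)) := by
  haveI := affineDiag_comp_of_isPullback hc
  haveI := QCoh.isQuasicoherent_pullback p M
  haveI := QCoh.isQuasicoherent_pullback q N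
  haveI hE : (ext p q M N).IsQuasicoherent := LimTop.TensorQC.isQuasicoherent_tensM _ _
  let W := p ⁻¹ᵁ U ⊓ q ⁻¹ᵁ V
  haveI : ((𝟭 Z.Modules).obj (ext p q M N)).IsQuasicoherent := hE
  haveI : ((ZClos.resPush W).obj (ext p q M N)).IsQuasicoherent :=
    Piece.qcoh_resPush (p ≫ f) (isAffineOpen_box hc hU hV) _ hE
  refine ProjTilde.isIso_of_bijective_affine _
    (fun i : X.affineOpens × Y.affineOpens => p ⁻¹ᵁ i.1.1 ⊓ q ⁻¹ᵁ i.2.1)
    (fun i => isAffineOpen_box hc i.1.2 i.2.2) (fun z _ => ?_) fun i => ?_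
  · obtain ⟨U', hx, -⟩ := Piece.affine_basis (⊤ : X.Opens) (p z) trivial
    obtain ⟨V', hy, -⟩ := Piece.affine_basis (⊤ : Y.Opens) (q z) trivial
    exact Opens.mem_iSup.2 ⟨(U', V'), hx, hy⟩
  · obtain ⟨⟨U', hU'⟩, ⟨V', hV'⟩⟩ := i
    have key : ∀ (W' : Z.Opens) (h : W' ≤ p ⁻¹ᵁ U' ⊓ q ⁻¹ᵁ V'),
        W' = p ⁻¹ᵁ (U ⊓ U') ⊓ q ⁻¹ᵁ (V ⊓ V') → Function.Bijective (res (ext p q M N) h) := by
      rintro _ h rfl
      have b₁ := bijective_res (U := U) M (inf_le_right : U ⊓ U' ≤ U') le_rfl
      have b₂ := bijective_res (U := V) N (inf_le_right : V ⊓ V' ≤ V') le_rfl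
      let e := TensorProduct.congr (LinearEquiv.ofBijective (resLin f M (inf_le_right : U ⊓ U' ≤ U')) b₁)
        (LinearEquiv.ofBijective (resLin g N (inf_le_right : V ⊓ V' ≤ V')) b₂)
      let L := boxLin hc.w (inf_le_left : p ⁻¹ᵁ U' ⊓ q ⁻¹ᵁ V' ≤ p ⁻¹ᵁ U') inf_le_right M N
      let L' := boxLin hc.w (inf_le_left : p ⁻¹ᵁ (U ⊓ U') ⊓ q ⁻¹ᵁ (V ⊓ V') ≤ p ⁻¹ᵁ (U ⊓ U')) inf_le_right M N
      have sq : resLin (p ≫ f) (ext p q M N) h ∘ₗ L = L' ∘ₗ e.toLinearMap := by
        refine TensorProduct.ext' fun m n => ?_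
        change res (ext p q M N) h (L (m ⊗ₜ n)) = L' (e (m ⊗ₜ n))
        rw [boxLin_tmul]
        refine (boxVal_res p q _ _ inf_le_right inf_le_right h inf_le_left inf_le_right M N m n).trans ?_
        exact (boxLin_tmul hc.w inf_le_left inf_le_right M N _ _).symm
      have bL : Function.Bijective L := boxLin_bijective hc.w hc hU' hV' M N
      have bL' : Function.Bijective L' := boxLin_bijective hc.w hc (Piece.isAffineOpen_inf f hU hU')
        (Piece.isAffineOpen_inf g hV hV') M N
      have hb : Function.Bijective (⇑(resLin (p ≫ f) (ext p q M N) h) ∘ ⇑L) := by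
        rw [← LinearMap.coe_comp, sq, LinearMap.coe_comp]
        exact bL'.comp e.bijective
      exact (Function.Bijective.of_comp_iff _ bL).1 hb
    rw [ZClos.resPushUnit_app_app]
    refine key _ (Scheme.Hom.image_preimage_le _ _) ?_
    rw [ZClos.ι_image_preimage, Scheme.Hom.preimage_inf, Scheme.Hom.preimage_inf]
    ac_rfl

/-- the product of global sections, as a linear map -/
noncomputable def muLin (hw : p ≫ f = q ≫ g) (M : X.Modules) (N : Y.Modules) :
    TensorProduct A ((HTor.globalSectionsA f).obj M) ((HTor.globalSectionsA g).obj N) →ₗ[A]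
      ((HTor.globalSectionsA (p ≫ f)).obj (ext p q M N)) :=
  (gSec (p ≫ f) (ext p q M N)).symm.toLinearMap ∘ₗ
    boxLin hw (U := ⊤) (V := ⊤) (W := ⊤) le_top le_top M N ∘ₗ
      (TensorProduct.congr (gSec f M) (gSec g N)).toLinearMap

variable (f g p q) in
/-- the product of global sections -/
noncomputable def mu (hw : p ≫ f = q ≫ g) (M : X.Modules) (N : Y.Modules) :
    (HTor.globalSectionsA f).obj M ⊗ (HTor.globalSectionsA g).obj N ⟶
      (HTor.globalSectionsA (p ≫ f)).obj (ext p q M N) :=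
  ModuleCat.ofHom (X := TensorProduct A ((HTor.globalSectionsA f).obj M) ((HTor.globalSectionsA g).obj N))
    (Y := ((HTor.globalSectionsA (p ≫ f)).obj (ext p q M N) :)) (muLin hw M N)

theorem mu_tmul (hw : p ≫ f = q ≫ g) (M : X.Modules) (N : Y.Modules)
    (m : (HTor.globalSectionsA f).obj M) (n : (HTor.globalSectionsA g).obj N) :
    (mu f g p q hw M N) (m ⊗ₜ[A] n) =
      (gSec (p ≫ f) (ext p q M N)).symm (boxVal p q (le_top : (⊤ : Z.Opens) ≤ p ⁻¹ᵁ ⊤)
        (le_top : (⊤ : Z.Opens) ≤ q ⁻¹ᵁ ⊤) M N (gSec f M m) (gSec g N n)) :=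
  congrArg (fun t => (gSec (p ≫ f) (ext p q M N)).symm t)
    (boxLin_tmul (U := ⊤) (V := ⊤) (W := ⊤) hw le_top le_top M N (gSec f M m) (gSec g N n))

theorem mu_natural_left (hw : p ≫ f = q ≫ g) {M M' : X.Modules} (φ : M ⟶ M') (N : Y.Modules) :
    (HTor.globalSectionsA f).map φ ▷ (HTor.globalSectionsA g).obj N ≫ mu f g p q hw M' N =
      mu f g p q hw M N ≫ (HTor.globalSectionsA (p ≫ f)).map (extMapL p q φ N) := by
  refine ModuleCat.MonoidalCategory.tensor_ext fun m n => ?_
  change mu f g p q hw M' N ((HTor.globalSectionsA f).map φ m ⊗ₜ[A] n) =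
    (HTor.globalSectionsA (p ≫ f)).map (extMapL p q φ N) (mu f g p q hw M N (m ⊗ₜ[A] n))
  rw [mu_tmul, mu_tmul]
  exact (boxVal_mapL p q le_top le_top φ N (gSec f M m) (gSec g N n)).symm

theorem mu_natural_right (hw : p ≫ f = q ≫ g) (M : X.Modules) {N N' : Y.Modules} (ψ : N ⟶ N') :
    (HTor.globalSectionsA f).obj M ◁ (HTor.globalSectionsA g).map ψ ≫ mu f g p q hw M N' =
      mu f g p q hw M N ≫ (HTor.globalSectionsA (p ≫ f)).map (extMapR p q M ψ) := by
  refine ModuleCat.MonoidalCategory.tensor_ext fun m n => ?_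
  change mu f g p q hw M N' (m ⊗ₜ[A] (HTor.globalSectionsA g).map ψ n) =
    (HTor.globalSectionsA (p ≫ f)).map (extMapR p q M ψ) (mu f g p q hw M N (m ⊗ₜ[A] n))
  rw [mu_tmul, mu_tmul]
  exact (boxVal_mapR p q le_top le_top M ψ (gSec f M m) (gSec g N n)).symm

variable (p q) in
/-- `ext`, as a functor of the first variable -/
noncomputable abbrev extL (N : Y.Modules) : X.Modules ⥤ Z.Modules :=
  Scheme.Modules.pullback p ⋙ (DCoh.tensorBi (X := Z)).flip.obj ((Scheme.Modules.pullback q).obj N)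

variable (p q) in
/-- `ext`, as a functor of the second variable -/
noncomputable abbrev extR (M : X.Modules) : Y.Modules ⥤ Z.Modules :=
  Scheme.Modules.pullback q ⋙ (DCoh.tensorBi (X := Z)).obj ((Scheme.Modules.pullback p).obj M)

/-- `mu` in the first variable -/
noncomputable def muL (hw : p ≫ f = q ≫ g) (N : Y.Modules) :
    HTor.globalSectionsA f ⋙ tensorRight ((HTor.globalSectionsA g).obj N) ⟶
      extL p q N ⋙ HTor.globalSectionsA (p ≫ f) where
  app M := mu f g p q hw M N
  naturality _ _ φ := mu_natural_left hw φ N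

/-- `mu` in the second variable -/
noncomputable def muR (hw : p ≫ f = q ≫ g) (M : X.Modules) :
    HTor.globalSectionsA g ⋙ tensorLeft ((HTor.globalSectionsA f).obj M) ⟶
      extR p q M ⋙ HTor.globalSectionsA (p ≫ f) where
  app N := mu f g p q hw M N
  naturality _ _ ψ := mu_natural_right hw M ψ

/-- an additive functor with pieces as values on generators -/
theorem isPiece_map {T : Scheme.{u}} {Z' : Scheme.{u}} (F : T.Modules ⥤ Z'.Modules) [F.Additive]
    (hF : ∀ {U : T.Opens}, IsAffineOpen U → ∀ {M : T.Modules}, M.IsQuasicoherent →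
      IsPiece (F.obj ((ZClos.resPush U).obj M)))
    {M : T.Modules} (h : IsPiece M) : IsPiece (F.obj M) := by
  induction h with
  | push hU hM => exact hF hU hM
  | zero h => exact .zero (F.map_isZero h)
  | @biprod M N _ _ h₁ h₂ =>
    have : Limits.PreservesBinaryBiproduct M N F := by
      have := preservesBinaryBiproducts_of_preservesBiproducts F
      infer_instance
    exact .iso (F.mapBiprod M N).symm (.biprod h₁ h₂)
  | iso e _ h => exact .iso (F.mapIso e) h

include hc in
/-- products of pieces are pieces, with the expected global sections -/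
theorem ext_push_push [IsAffineHom (pullback.diagonal f)] [IsAffineHom (pullback.diagonal g)] {U : X.Opens} (hU : IsAffineOpen U) {V : Y.Opens}
    (hV : IsAffineOpen V) {M₀ : X.Modules} (hM : M₀.IsQuasicoherent) {N₀ : Y.Modules}
    (hN : N₀.IsQuasicoherent) :
    IsPiece (ext p q ((ZClos.resPush U).obj M₀) ((ZClos.resPush V).obj N₀)) ∧
      IsIso (mu f g p q hc.w ((ZClos.resPush U).obj M₀) ((ZClos.resPush V).obj N₀)) := by
  let M := (ZClos.resPush U).obj M₀
  let N := (ZClos.resPush V).obj N₀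
  haveI := ZClos.isIso_unit_resPush (le_refl U) M₀
  haveI := ZClos.isIso_unit_resPush (le_refl V) N₀
  haveI hMq : M.IsQuasicoherent := Piece.qcoh_resPush f hU M₀ hM
  haveI hNq : N.IsQuasicoherent := Piece.qcoh_resPush g hV N₀ hN
  haveI := isIso_unit_ext hc hU hV M N
  haveI := QCoh.isQuasicoherent_pullback p M
  haveI := QCoh.isQuasicoherent_pullback q N
  have hext : (ext p q M N).IsQuasicoherent := LimTop.TensorQC.isQuasicoherent_tensM _ _
  let W := p ⁻¹ᵁ U ⊓ q ⁻¹ᵁ V
  refine ⟨.iso (asIso ((ZClos.resPushUnit W).app (ext p q M N))).symm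
    (.push (isAffineOpen_box hc hU hV) hext), ?_⟩
  rw [ConcreteCategory.isIso_iff_bijective]
  have bM := bijective_res (U := U) M (le_top : U ≤ ⊤) inf_le_left
  have bN := bijective_res (U := V) N (le_top : V ≤ ⊤) inf_le_left
  have bE := bijective_res (U := W) (ext p q M N) (le_top : W ≤ ⊤) inf_le_left
  let L := boxLin hc.w (U := ⊤) (V := ⊤) (W := ⊤) le_top le_top M N
  let e := TensorProduct.congr (LinearEquiv.ofBijective (resLin f M (le_top : U ≤ ⊤)) bM)
    (LinearEquiv.ofBijective (resLin g N (le_top : V ≤ ⊤)) bN)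
  let L' := boxLin hc.w (inf_le_left : W ≤ p ⁻¹ᵁ U) inf_le_right M N
  have sq : resLin (p ≫ f) (ext p q M N) (le_top : W ≤ ⊤) ∘ₗ L = L' ∘ₗ e.toLinearMap := by
    refine TensorProduct.ext' fun m n => ?_
    change res (ext p q M N) le_top (L (m ⊗ₜ n)) = L' (e (m ⊗ₜ n))
    rw [boxLin_tmul]
    refine (boxVal_res p q _ _ le_top le_top le_top inf_le_left inf_le_right M N m n).trans ?_
    exact (boxLin_tmul hc.w inf_le_left inf_le_right M N _ _).symm
  have bL : Function.Bijective L := by
    have hb : Function.Bijective (⇑(resLin (p ≫ f) (ext p q M N) (le_top : W ≤ ⊤)) ∘ ⇑L) := by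
      rw [← LinearMap.coe_comp, sq, LinearMap.coe_comp]
      exact (boxLin_bijective hc.w hc hU hV M N).comp e.bijective
    exact (Function.Bijective.of_comp_iff' bE _).1 hb
  exact (gSec (p ≫ f) (ext p q M N)).symm.bijective.comp
    (bL.comp (TensorProduct.congr (gSec f M) (gSec g N)).bijective)

include hc in
/-- the product of global sections is bijective on pieces -/
theorem isPiece_ext [IsAffineHom (pullback.diagonal f)] [IsAffineHom (pullback.diagonal g)] {M : X.Modules} (hM : IsPiece M) {N : Y.Modules}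
    (hN : IsPiece N) : IsPiece (ext p q M N) := by
  refine isPiece_map (extR p q M) (fun {V} hV {N₀} hN₀ => ?_) hN
  exact isPiece_map (extL p q ((ZClos.resPush V).obj N₀))
    (fun {U} hU {M₀} hM₀ => (ext_push_push hc hU hV hM₀ hN₀).1) hM

include hc in
/-- the product of global sections is bijective on pieces -/
theorem isIso_mu [IsAffineHom (pullback.diagonal f)] [IsAffineHom (pullback.diagonal g)] {M : X.Modules} (hM : IsPiece M) {N : Y.Modules}
    (hN : IsPiece N) : IsIso (mu f g p q hc.w M N) := by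
  change IsIso ((muR hc.w M).app N)
  induction hN with
  | @push V hV N₀ hN₀ =>
    change IsIso ((muL hc.w ((ZClos.resPush V).obj N₀)).app M)
    induction hM with
    | push hU hM₀ => exact (ext_push_push hc hU hV hM₀ hN₀).2
    | zero h => exact isIso_app_zero _ h
    | biprod _ _ h₁ h₂ => exact @isIso_app_biprod _ _ _ _ _ _ _ _ _ _ _ _ _ _ h₁ h₂
    | iso e _ h => exact (NatTrans.isIso_app_iff_of_iso (muL hc.w _) e).1 h
  | zero h => exact isIso_app_zero _ h
  | biprod _ _ h₁ h₂ => exact @isIso_app_biprod _ _ _ _ _ _ _ _ _ _ _ _ _ _ h₁ h₂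
  | iso e _ h => exact (NatTrans.isIso_app_iff_of_iso (muR hc.w M) e).1 h

end Groth.Agent.HTor95.Box
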