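import Groth.Agent.HTor95.BoxCx
import Groth.Agent.CBC.Cech

/-!
# External products of quasi-isomorphisms of flat complexes
-/

set_option autoImplicit false

universe u

open CategoryTheory CategoryTheory.Limits MonoidalCategory AlgebraicGeometry TopologicalSpace Opposite
open Groth.Agent.HTor95.Box Groth.Agent.HTor95.BoxCx Groth.Agent.HTor95.Rg
open Groth.Agent.CBC (Sec)
open Groth.Agent.QCoh (sectionsFunctor res)
open Groth.Agent.KFlat Groth.Agent.KFlat.QCohAcy Groth.Agent.KFlat.WeakKInj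
open scoped ZeroObject

attribute [local instance] HasDerivedCategory.standard

namespace Groth.Agent.HTor95.BoxQis

section

variable {X : Scheme.{u}}

/-- exactness of quasi-coherent complexes can be tested on an affine covering -/
theorem exactAt_of_affineCover {ι : Type*} (V : ι → X.Opens) (hV : ∀ i, IsAffineOpen (V i))
    (hcov : ⊤ ≤ iSup V) (C : CochainComplex X.Modules ℤ) (hC : ∀ i, (C.X i).IsQuasicoherent) (m : ℤ)
    (h : ∀ i, ((secCx (V i)).obj C).ExactAt m) : C.ExactAt m := by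
  rw [HomologicalComplex.exactAt_iff_isZero_homology]
  haveI hH : (C.homology m).IsQuasicoherent := @PerfTri.QCohHom.isQuasicoherent_homology X C hC m
  haveI hz : (C.cycles m).IsQuasicoherent :=
    @Groth.Agent.QCoh.isQuasicoherent_of_iso X _ _
      ((kernelIsKernel _).conePointUniqueUpToIso (C.cyclesIsKernel m (m + 1) (by simp)))
      (@Groth.Agent.QCoh.isQuasicoherent_kernel X _ _ (C.d m (m + 1)) (hC _) (hC _))
  have h0 : ∀ i (s : Γ(C.homology m, V i)), s = 0 := fun i s => by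
    obtain ⟨c, rfl⟩ := Groth.Agent.QCoh.app_surjective_of_epi (C.homologyπ m) (hV i) s
    have hex := h i
    rw [HomologicalComplex.exactAt_iff' _ (m - 1) m (m + 1) (by simp) (by simp),
      ShortComplex.ab_exact_iff] at hex
    obtain ⟨b, hb⟩ := hex ((C.iCycles m).app (V i) c) (by
      change (C.d m (m + 1)).app (V i) ((C.iCycles m).app (V i) c) = 0
      rw [← app_comp_apply, C.iCycles_d]
      rfl)
    have hb' : (C.toCycles (m - 1) m).app (V i) b = c := by
      apply Groth.Agent.QCoh.app_injective_of_mono (C.iCycles m) (V i)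
      rw [← app_comp_apply, C.toCycles_i]
      exact hb
    rw [← hb', ← app_comp_apply, C.toCycles_comp_homologyπ]
    rfl
  have hz0 : IsZero (0 : X.Modules) := isZero_zero _
  haveI : (0 : X.Modules).IsQuasicoherent := CohDerLib.QC.qcoh_of_isZero hz0
  have : IsIso (0 : C.homology m ⟶ (0 : X.Modules)) := ProjTilde.isIso_of_bijective_affine _ V hV hcov fun i =>
    ⟨fun a b _ => (h0 i a).trans (h0 i b).symm, fun t => ⟨0, (map_zero _).trans (by
      have := congrArg (fun φ : (0 : X.Modules) ⟶ (0 : X.Modules) => φ.app (V i) t) (hz0.eq_of_src (𝟙 _) 0)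
      exact this.symm)⟩⟩
  exact hz0.of_iso (asIso (0 : C.homology m ⟶ (0 : X.Modules)))

/-- quasi-isomorphisms of quasi-coherent complexes can be tested on an affine covering -/
theorem quasiIso_of_affineCover {ι : Type*} (V : ι → X.Opens) (hV : ∀ i, IsAffineOpen (V i))
    (hcov : ⊤ ≤ iSup V) {K L : CochainComplex X.Modules ℤ} (φ : K ⟶ L)
    (hK : ∀ i, (K.X i).IsQuasicoherent) (hL : ∀ i, (L.X i).IsQuasicoherent)
    (h : ∀ i, QuasiIso ((secCx (V i)).map φ)) : QuasiIso φ := by
  refine quasiIso_of_acyclic_mappingCone _ fun m => exactAt_of_affineCover V hV hcov _ (fun n => ?_) m fun i => ?_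
  · exact CohDerLib.QC.qcoh_iso (HomologicalComplex.homotopyCofiber.XIsoBiprod φ n (n + 1) rfl).symm
      (Piece.qcoh_biprod (hK _) (hL _))
  · have := h i
    rw [HomologicalComplex.exactAt_iff_isZero_homology]
    exact ((HomologicalComplex.exactAt_iff_isZero_homology _ _).1
      (acyclic_mappingCone_of_quasiIso ((secCx (V i)).map φ) m)).of_iso
        ((HomologicalComplex.homologyFunctor _ _ m).mapIso
          (CochainComplex.mappingCone.mapHomologicalComplexIso φ (sectionsFunctor X (V i))))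

/-- quasi-isomorphisms of quasi-coherent complexes are quasi-isomorphisms on affine sections -/
theorem quasiIso_secCx_of_qcoh {K L : CochainComplex X.Modules ℤ} (a : K ⟶ L) [QuasiIso a]
    (hK : ∀ i, (K.X i).IsQuasicoherent) (hL : ∀ i, (L.X i).IsQuasicoherent) {V : X.Opens}
    (hV : IsAffineOpen V) : QuasiIso ((secCx V).map a) := by
  obtain ⟨I, s, hI, hs⟩ := Products.exists_isKInjective_resolution L
  have h₁ := quasiIso_secCx L hL s hV
  have h₂ := quasiIso_secCx K hK (a ≫ s) hV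
  rw [Functor.map_comp] at h₂
  exact quasiIso_of_comp_right _ ((secCx V).map s)

end

section Sections

variable {A : Type u} [CommRing A] {X : Scheme.{u}} (f : X ⟶ Spec (CommRingCat.of A))

/-- sections over an open, as `A`-modules -/
noncomputable def secF (U : X.Opens) : X.Modules ⥤ ModuleCat.{u} A where
  obj M := ModuleCat.of A (Sec (Coh.toGlobal f) M (le_top : U ≤ ⊤))
  map φ := ModuleCat.ofHom (mapLin f φ U)
  map_id M := by rw [mapLin_id]; rfl
  map_comp φ ψ := by rw [mapLin_comp]; rfl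

instance additive_secF (U : X.Opens) : (secF f U).Additive where
  map_add {M N φ ψ} := ModuleCat.hom_ext (LinearMap.ext fun x =>
    congr($(Scheme.Modules.Hom.add_app (U := U) φ ψ) x))

theorem quasiIso_secF_iff (U : X.Opens) {K L : CochainComplex X.Modules ℤ} (s : K ⟶ L) :
    QuasiIso ((mapCx (secF f U)).map s) ↔ QuasiIso ((secCx U).map s) :=
  (HomologicalComplex.quasiIso_map_iff_of_preservesHomology ((mapCx (secF f U)).map s)
    (forget₂ (ModuleCat.{u} A) AddCommGrpCat.{u})).symm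

/-- flatness over the base gives flat sections on affine opens -/
theorem flatAff_of_isFlatOver (M : X.Modules) [M.IsQuasicoherent] (h : FlatMod.IsFlatOver f M) :
    FlatAff f M := fun V hV => by
  let S := Spec (CommRingCat.of A)
  let r : A →+* Γ(S, ⊤) := (Scheme.ΓSpecIso (CommRingCat.of A)).inv.hom
  letI : Algebra A Γ(S, ⊤) := r.toAlgebra
  have hr : Function.Bijective r := ConcreteCategory.bijective_of_isIso (Scheme.ΓSpecIso (CommRingCat.of A)).inv
  haveI : Module.Flat A Γ(S, ⊤) :=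
    Module.Flat.of_linearEquiv (LinearEquiv.ofBijective (Algebra.linearMap A Γ(S, ⊤)) hr).symm
  haveI := CBC.flat_sec f (isAffineOpen_top S) M hV (le_top : V ≤ f ⁻¹ᵁ ⊤) (fun x _ => h x)
  letI : Module A (Sec (f.app ⊤).hom M (le_top : V ≤ f ⁻¹ᵁ ⊤)) := Module.compHom _ r
  haveI : IsScalarTower A Γ(S, ⊤) (Sec (f.app ⊤).hom M (le_top : V ≤ f ⁻¹ᵁ ⊤)) :=
    IsScalarTower.of_algebraMap_smul fun _ _ => rfl
  have := Module.Flat.trans A Γ(S, ⊤) (Sec (f.app ⊤).hom M (le_top : V ≤ f ⁻¹ᵁ ⊤))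
  exact this

end Sections

variable {A : Type u} [CommRing A] {X Y Z : Scheme.{u}} {f : X ⟶ Spec (CommRingCat.of A)}
  {g : Y ⟶ Spec (CommRingCat.of A)} {p : Z ⟶ X} {q : Z ⟶ Y}

/-- the pairing of sections over a box -/
noncomputable def secP (hw : p ≫ f = q ≫ g) (U : X.Opens) (V : Y.Opens) :
    Pairing p q (secF f U) (secF g V) (secF (p ≫ f) (p ⁻¹ᵁ U ⊓ q ⁻¹ᵁ V)) where
  app M N := ModuleCat.ofHom (X := TensorProduct A (Sec (Coh.toGlobal f) M (le_top : U ≤ ⊤))
      (Sec (Coh.toGlobal g) N (le_top : V ≤ ⊤)))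
    (boxLin hw (inf_le_left : p ⁻¹ᵁ U ⊓ q ⁻¹ᵁ V ≤ p ⁻¹ᵁ U) inf_le_right M N)
  natural_left {M M'} φ N := ModuleCat.MonoidalCategory.tensor_ext fun m n => by
    change boxLin hw inf_le_left inf_le_right M' N (mapLin f φ U m ⊗ₜ[A] n) =
      (extMapL p q φ N).app _ (boxLin hw inf_le_left inf_le_right M N (m ⊗ₜ[A] n))
    rw [boxLin_tmul, boxLin_tmul]
    exact (boxVal_mapL p q inf_le_left inf_le_right φ N m n).symm
  natural_right M {N N'} ψ := ModuleCat.MonoidalCategory.tensor_ext fun m n => by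
    change boxLin hw inf_le_left inf_le_right M N' (m ⊗ₜ[A] mapLin g ψ V n) =
      (extMapR p q M ψ).app _ (boxLin hw inf_le_left inf_le_right M N (m ⊗ₜ[A] n))
    rw [boxLin_tmul, boxLin_tmul]
    exact (boxVal_mapR p q inf_le_left inf_le_right M ψ m n).symm

/-- the pairing of global sections -/
noncomputable def muP (hw : p ≫ f = q ≫ g) :
    Pairing p q (HTor.globalSectionsA f) (HTor.globalSectionsA g) (HTor.globalSectionsA (p ≫ f)) where
  app := mu f g p q hw
  natural_left φ N := mu_natural_left hw φ N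
  natural_right M _ _ ψ := mu_natural_right hw M ψ

/-- quasi-isomorphisms of flat complexes, tensored -/
theorem quasiIso_tensor {K K' L L' : CochainComplex (ModuleCat.{u} A) ℤ} (a : K ⟶ K') (b : L ⟶ L')
    [QuasiIso a] [QuasiIso b] (hK : DRing.KFlat.IsKFlat K) (hK' : DRing.KFlat.IsKFlat K') :
    QuasiIso (a ▷ L ≫ K' ◁ b) := by
  have := DRing.KFlat.quasiIso_whiskerLeft_of_kflat a hK hK' L
  have : QuasiIso (a ▷ L) := by rw [DRing.Tensor.whiskerRight_eq]; infer_instance
  have := DRing.KFlat.quasiIso_whiskerLeft hK' b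
  infer_instance

/-- external products of quasi-isomorphisms of flat complexes -/
theorem quasiIso_emap [IsAffineHom (pullback.diagonal f)] [IsAffineHom (pullback.diagonal g)] (hc : IsPullback p q f g)
    {K K' : CochainComplex X.Modules ℤ} {L L' : CochainComplex Y.Modules ℤ} (a : K ⟶ K') (b : L ⟶ L')
    [QuasiIso a] [QuasiIso b] {c₁ c₂ : ℤ}
    (hK : ∀ i, (K.X i).IsQuasicoherent) (hK' : ∀ i, (K'.X i).IsQuasicoherent)
    (hL : ∀ i, (L.X i).IsQuasicoherent) (hL' : ∀ i, (L'.X i).IsQuasicoherent)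
    (zK : ∀ i, c₁ < i → IsZero (K.X i)) (zK' : ∀ i, c₁ < i → IsZero (K'.X i))
    (zL : ∀ i, c₂ < i → IsZero (L.X i)) (zL' : ∀ i, c₂ < i → IsZero (L'.X i))
    (fK : ∀ i, FlatAff f (K.X i)) (fK' : ∀ i, FlatAff f (K'.X i)) :
    QuasiIso (emap p q a b) := by
  refine quasiIso_of_affineCover (fun i : X.affineOpens × Y.affineOpens => p ⁻¹ᵁ i.1.1 ⊓ q ⁻¹ᵁ i.2.1)
    (fun i => isAffineOpen_box hc i.1.2 i.2.2) (fun z _ => ?_) _ (qcoh_E hK hL) (qcoh_E hK' hL') fun i => ?_
  · obtain ⟨U', hx, -⟩ := Piece.affine_basis (⊤ : X.Opens) (p z) trivial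
    obtain ⟨V', hy, -⟩ := Piece.affine_basis (⊤ : Y.Opens) (q z) trivial
    exact Opens.mem_iSup.2 ⟨(U', V'), hx, hy⟩
  · obtain ⟨⟨U, hU⟩, ⟨V, hV⟩⟩ := i
    rw [← quasiIso_secF_iff (p ≫ f)]
    let θ := secP hc.w U V
    have hθ : ∀ (M : X.Modules) (N : Y.Modules), M.IsQuasicoherent → N.IsQuasicoherent → IsIso (θ.app M N) :=
      fun M N hM hN => by
        rw [ConcreteCategory.isIso_iff_bijective]
        exact @boxLin_bijective _ _ _ _ _ _ _ _ _ hc.w hc _ _ hU hV M N hM hN
    have := isIso_Φ θ zK zL fun i j => hθ _ _ (hK i) (hL j)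
    have := isIso_Φ θ zK' zL' fun i j => hθ _ _ (hK' i) (hL' j)
    have kf : ∀ {T : CochainComplex X.Modules ℤ}, (∀ i, c₁ < i → IsZero (T.X i)) → (∀ i, FlatAff f (T.X i)) →
        DRing.KFlat.IsKFlat ((mapCx (secF f U)).obj T) := fun {T} z h =>
      DRing.KFlat.isKFlat_of_boundedAbove_flat _ c₁ (fun i hi => (secF f U).map_isZero (z i hi))
        fun i => h i U hU
    have ha : QuasiIso ((mapCx (secF f U)).map a) :=
      (quasiIso_secF_iff f U a).2 (quasiIso_secCx_of_qcoh a hK hK' hU)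
    have hb : QuasiIso ((mapCx (secF g V)).map b) :=
      (quasiIso_secF_iff g V b).2 (quasiIso_secCx_of_qcoh b hL hL' hV)
    have h1 := quasiIso_tensor ((mapCx (secF f U)).map a) ((mapCx (secF g V)).map b) (kf zK fK) (kf zK' fK')
    have h2 : QuasiIso (Φ θ K L ≫ (mapCx (secF (p ≫ f) (p ⁻¹ᵁ U ⊓ q ⁻¹ᵁ V))).map (emap p q a b)) := by
      rw [← Φ_natural θ a b, ← Category.assoc]
      infer_instance
    exact quasiIso_of_comp_left (Φ θ K L) _

end Groth.Agent.HTor95.BoxQis
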