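import Groth.Agent.HTor95.BoxMain
import Groth.Agent.DRing.Trunc

/-!
# Tensoring with complexes of modules over the base
-/

set_option autoImplicit false

universe u

open CategoryTheory CategoryTheory.Limits MonoidalCategory AlgebraicGeometry TopologicalSpace Opposite
open Groth.Agent.HTor95.Box Groth.Agent.HTor95.BoxCx Groth.Agent.HTor95.BoxQis Groth.Agent.HTor95.BoxMain
open Groth.Agent.HTor95.Rg (gA)
open Groth.Agent.DTrunc
open Groth.Agent.KFlat Groth.Agent.KFlat.RPush Groth.Agent.KFlat.WeakKInj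

attribute [local instance] HasDerivedCategory.standard

namespace Groth.Agent.HTor95.BoxTensorA

variable {A : Type u} [CommRing A]

theorem hasRΓA {X : Scheme.{u}} (f : X ⟶ Spec (CommRingCat.of A)) : HTor.HasRΓA f :=
  (RightDerived.hasEnough (HTor.gammaAKh f)).hasRightDerivedFunctor
    (W := HomotopyCategory.quasiIso X.Modules (ComplexShape.up ℤ))

theorem computes_congr {X : Scheme.{u}} {f f' : X ⟶ Spec (CommRingCat.of A)} (h : f' = f) [HTor.HasRΓA f]
    [HTor.HasRΓA f'] {L : DRing.Cx A} {K : DCoh.D X} (e : HTor.Computes f' L K) : HTor.Computes f L K := by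
  subst h
  exact e

variable (A) in
/-- global sections of `M~` -/
noncomputable def tildeIso :
    tilde.functor (CommRingCat.of A) ⋙ HTor.globalSectionsA (𝟙 (Spec (CommRingCat.of A))) ≅ 𝟭 _ :=
  Functor.isoWhiskerLeft (tilde.functor (CommRingCat.of A))
    (Functor.isoWhiskerRight (Scheme.Modules.pushforwardId _) moduleSpecΓFunctor ≪≫ Functor.leftUnitor _) ≪≫
    tilde.toTildeΓNatIso.symm

/-- the complex `Q~` -/
noncomputable abbrev tildeCx (Q : DRing.Cx A) : CochainComplex (Spec (CommRingCat.of A)).Modules ℤ :=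
  ((tilde.functor (CommRingCat.of A)).mapHomologicalComplex (ComplexShape.up ℤ)).obj Q

/-- `RΓ` of `Q~` on `Spec A` -/
theorem computes_tilde [HTor.HasRΓA (𝟙 (Spec (CommRingCat.of A)))] (Q : DRing.Cx A)
    (hQ : ∃ b : ℤ, DRing.VanishesAbove Q b) :
    HTor.Computes (𝟙 (Spec (CommRingCat.of A))) Q (DCoh.toD _ (tildeCx Q)) := by
  let S := Spec (CommRingCat.of A)
  have hq : ∀ i, ((tildeCx Q).X i).IsQuasicoherent := fun i => by
    change (tilde (R := CommRingCat.of A) (Q.X i)).IsQuasicoherent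
    infer_instance
  obtain ⟨b, hb⟩ := hQ
  obtain ⟨R, a, c, ha, hR, -, -⟩ := exists_res (𝟙 S) (tildeCx Q) hq
    ⟨b, fun i hi => (tilde.functor (CommRingCat.of A)).map_isZero (hb i hi)⟩
  obtain ⟨e⟩ := exists_iso_res (𝟙 S) a hR
  have h := Rg.quasiIso_gA (𝟙 S) a
    (quasiIso_secCx_of_qcoh a hq (fun i => (hR i).qcoh (𝟙 S)) (isAffineOpen_top S))
  let i₀ : (gA (𝟙 S)).obj (tildeCx Q) ≅ Q :=
    HomologicalComplex.Hom.isoOfComponents (fun i => (tildeIso A).app (Q.X i))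
      (fun i j _ => ((tildeIso A).hom.naturality (Q.d i j)).symm)
  have : IsIso (DerivedCategory.Q.map ((gA (𝟙 S)).map a)) :=
    (DerivedCategory.isIso_Q_map_iff_quasiIso _ _).2 h
  exact ⟨DerivedCategory.Q.mapIso i₀.symm ≪≫ asIso (DerivedCategory.Q.map ((gA (𝟙 S)).map a)) ≪≫ e⟩

/-- `P ⊗_A Q` is the external product of `P` and `Q~` -/
noncomputable def extIso {X : Scheme.{u}} (f : X ⟶ Spec (CommRingCat.of A)) (P : CochainComplex X.Modules ℤ)
    (Q : DRing.Cx A) : E (𝟙 X) f P (tildeCx Q) ≅ HTor.tensorACx f P Q :=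
  ((DCoh.tensorCx (X := X)).mapIso
    ((NatIso.mapHomologicalComplex (Scheme.Modules.pullbackId X) (ComplexShape.up ℤ)).app P ≪≫
      (Functor.mapHomologicalComplexIdIso X.Modules (ComplexShape.up ℤ)).app P)).app _

theorem computes_tensorA {X : Scheme.{u}} (f : X ⟶ Spec (CommRingCat.of A)) [QuasiCompact f] [IsSeparated f]
    [HTor.HasRΓA f] (P : CochainComplex X.Modules ℤ) (hq : ∀ i : ℤ, Coh.IsQCoh (P.X i))
    (bP : ∃ b : ℤ, ∀ i : ℤ, b < i → IsZero (P.X i)) (hfl : ∀ i : ℤ, FlatMod.IsFlatOver f (P.X i))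
    (L : DRing.Cx A) (hL : ∀ i : ℤ, Projective (L.X i)) (c : ∃ c : ℤ, DRing.VanishesAbove L c)
    (e : HTor.Computes f L (DCoh.toD X P)) (Q : DRing.Cx A) (bQ : ∃ b : ℤ, DRing.VanishesAbove Q b) :
    HTor.Computes f (HTor.tensorCx L Q) (DCoh.toD X (HTor.tensorACx f P Q)) := by
  let S := Spec (CommRingCat.of A)
  haveI := hasRΓA (𝟙 S)
  haveI := hasRΓA (𝟙 X ≫ f)
  obtain ⟨b, hb⟩ := bQ
  obtain ⟨L₂, π, hL₂, hp, hπ⟩ := DRing.Trunc.exists_projRes Q b (fun i hi => ShortComplex.exact_of_isZero_X₂ _ (hb i hi))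
  have hp' : ∀ i, Projective (L₂.X i) := fun i => by
    have := hp i
    exact (IsProjective.iff_projective (R := A) (L₂.X i)).1 this
  obtain ⟨eQ⟩ := computes_tilde Q ⟨b, hb⟩
  have : IsIso (DerivedCategory.Q.map π) := (DerivedCategory.isIso_Q_map_iff_quasiIso _ _).2 hπ
  have hq₂ : ∀ i, Coh.IsQCoh ((tildeCx Q).X i) := fun i => by
    change (tilde (R := CommRingCat.of A) (Q.X i)).IsQuasicoherent
    infer_instance
  have hc : IsPullback (𝟙 X) f f (𝟙 S) := IsPullback.of_horiz_isIso ⟨(Category.id_comp f).trans (Category.comp_id f).symm⟩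
  obtain ⟨k⟩ := computes_congr (Category.id_comp f)
    (computes_ext hc P (tildeCx Q) hq hq₂ bP ⟨b, fun i hi => (tilde.functor (CommRingCat.of A)).map_isZero (hb i hi)⟩
      hfl L L₂ hL hp' c ⟨b, hL₂⟩ e ⟨asIso (DerivedCategory.Q.map π) ≪≫ eQ⟩)
  have h1 := DRing.KFlat.quasiIso_whiskerLeft (isKFlat_of_projective hL c) π
  have : IsIso (DerivedCategory.Q.map (L ◁ π)) := (DerivedCategory.isIso_Q_map_iff_quasiIso _ _).2 h1
  exact ⟨(asIso (DerivedCategory.Q.map (L ◁ π))).symm ≪≫ k ≪≫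
    (HTor.RΓA f).mapIso (DerivedCategory.Q.mapIso (extIso f P Q))⟩

end Groth.Agent.HTor95.BoxTensorA
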