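import Groth.Agent.HTor95.Tor
import Mathlib.Algebra.Category.ModuleCat.FilteredColimits

/-!
# Filtered colimits
-/

universe u

open CategoryTheory CategoryTheory.Limits MonoidalCategory

namespace Groth.Agent.HTor95.Colim

open DRing.Homology DRing.Tensor Tor

variable {A : Type u} [CommRing A] (J : Type u) [SmallCategory J] [IsFiltered J]

/-- Homology commutes with filtered colimits. -/
theorem preservesColimitsOfShape_homology (i : ℤ) :
    PreservesColimitsOfShape J (HomologicalComplex.homologyFunctor (ModuleCat.{u} A) (ComplexShape.up ℤ) i) := by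
  refine ⟨fun {F} => ⟨fun {c} hc => ⟨isColimitOfReflects (forget (ModuleCat.{u} A)) ?_⟩⟩⟩
  have hcol := fun n => isColimitOfPreserves
    (HomologicalComplex.eval (ModuleCat.{u} A) (ComplexShape.up ℤ) n) hc
  have hmap : ∀ {j k : J} (f : j ⟶ k) {n : ℤ} (y : (F.obj j).X n),
      ((c.ι.app k).f n).hom (((F.map f).f n).hom y) = ((c.ι.app j).f n).hom y := fun {j k} f n y =>
    congrArg (fun φ : F.obj j ⟶ c.pt => (φ.f n).hom y) (c.w f)
  refine Types.FilteredColimit.isColimitOf _ _ (fun x => ?_) (fun j k (a : (F.obj j).homology i) (b : (F.obj k).homology i) hab => ?_)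
  · obtain ⟨z, hz, rfl⟩ := cls_surjective (K := c.pt) (i := i) x
    obtain ⟨j, y, hy⟩ : ∃ (j : J) (y : (F.obj j).X i), ((c.ι.app j).f i).hom y = z :=
      Concrete.isColimit_exists_rep _ (hcol i) z
    have h0 : ((c.ι.app j).f (i + 1)).hom (((F.obj j).d i (i + 1)).hom y) = 0 := by
      rw [← hom_d, hy]; exact hz
    obtain ⟨k, f, g, hfg⟩ : ∃ (k : J) (f g : j ⟶ k),
        ((F.map f).f (i + 1)).hom (((F.obj j).d i (i + 1)).hom y) = ((F.map g).f (i + 1)).hom 0 :=
      Concrete.isColimit_exists_of_rep_eq _ (hcol (i + 1))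
        (((F.obj j).d i (i + 1)).hom y) (0 : (F.obj j).X (i + 1)) (h0.trans (map_zero _).symm)
    have hcyc : IsCyc (F.obj k) i (((F.map f).f i).hom y) :=
      (hom_d (F.map f) i (i + 1) y).trans (hfg.trans (map_zero _))
    refine ⟨k, cls _ hcyc, ?_⟩
    show cls z hz = (HomologicalComplex.homologyMap (c.ι.app k) i).hom (cls _ hcyc)
    rw [homologyMap_cls (c.ι.app k) hcyc]
    exact ((cls_eq_iff (i - 1) (sub_add_cancel i 1) _ _).2 ⟨0, by
      rw [map_zero, hmap f y, hy, sub_self]⟩)
  · obtain ⟨za, hza, rfl⟩ := cls_surjective a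
    obtain ⟨zb, hzb, rfl⟩ := cls_surjective b
    replace hab : (HomologicalComplex.homologyMap (c.ι.app j) i).hom (cls za hza) =
        (HomologicalComplex.homologyMap (c.ι.app k) i).hom (cls zb hzb) := hab
    rw [homologyMap_cls (c.ι.app j) hza, homologyMap_cls (c.ι.app k) hzb,
      cls_eq_iff (i - 1) (sub_add_cancel i 1)] at hab
    obtain ⟨w, hw⟩ := hab
    obtain ⟨l, v, hv⟩ : ∃ (l : J) (v : (F.obj l).X (i - 1)), ((c.ι.app l).f (i - 1)).hom v = w :=
      Concrete.isColimit_exists_rep _ (hcol (i - 1)) w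
    obtain ⟨m, fj, fk, fl, -⟩ : ∃ (m : J) (_ : j ⟶ m) (_ : k ⟶ m) (_ : l ⟶ m), True :=
      ⟨IsFiltered.max (IsFiltered.max j k) l,
        IsFiltered.leftToMax j k ≫ IsFiltered.leftToMax _ _,
        IsFiltered.rightToMax j k ≫ IsFiltered.leftToMax _ _, IsFiltered.rightToMax _ _, trivial⟩
    have h0 : ((c.ι.app m).f i).hom (((F.obj m).d (i - 1) i).hom (((F.map fl).f (i - 1)).hom v)) =
        ((c.ι.app m).f i).hom (((F.map fj).f i).hom za - ((F.map fk).f i).hom zb) := by
      rw [← hom_d, hmap fl v, hv, map_sub, hmap fj za, hmap fk zb]; exact hw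
    obtain ⟨n, p, q, hpq⟩ : ∃ (n : J) (p q : m ⟶ n),
        ((F.map p).f i).hom (((F.obj m).d (i - 1) i).hom (((F.map fl).f (i - 1)).hom v)) =
          ((F.map q).f i).hom (((F.map fj).f i).hom za - ((F.map fk).f i).hom zb) :=
      Concrete.isColimit_exists_of_rep_eq _ (hcol i) _ _ h0
    let r := IsFiltered.coeqHom p q
    have hr : ((F.map r).f i).hom (((F.map p).f i).hom (((F.obj m).d (i - 1) i).hom (((F.map fl).f (i - 1)).hom v))) =
        ((F.map r).f i).hom (((F.map q).f i).hom (((F.map fj).f i).hom za - ((F.map fk).f i).hom zb)) :=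
      congrArg _ hpq
    have hcomp : ∀ {a b c : J} (f : a ⟶ b) (g : b ⟶ c) {n : ℤ} (y : (F.obj a).X n),
        ((F.map g).f n).hom (((F.map f).f n).hom y) = ((F.map (f ≫ g)).f n).hom y := fun f g n y => by
      rw [F.map_comp]; rfl
    rw [← hom_d, ← hom_d, map_sub, map_sub, hcomp, hcomp, hcomp, hcomp, hcomp, hcomp] at hr
    refine ⟨_, fj ≫ q ≫ r, fk ≫ q ≫ r, ?_⟩
    show (HomologicalComplex.homologyMap (F.map _) i).hom (cls za hza) =
      (HomologicalComplex.homologyMap (F.map _) i).hom (cls zb hzb)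
    rw [homologyMap_cls _ hza, homologyMap_cls _ hzb, cls_eq_iff (i - 1) (sub_add_cancel i 1)]
    exact ⟨_, hr⟩

theorem preservesColimitsOfShape_tensorCxF (K : _root_.DRing.Cx A) :
    PreservesColimitsOfShape J (tensorCxF K) :=
  HomologicalComplex.preservesColimitsOfShape_of_eval _ fun n =>
    (inferInstanceAs (PreservesColimitsOfShape J (tensorLeft (K.X n))) :
      PreservesColimitsOfShape J (tensorCxF K ⋙ HomologicalComplex.eval (ModuleCat.{u} A) (ComplexShape.up ℤ) n))

theorem preservesColimitsOfShape_tensorH (K : _root_.DRing.Cx A) (i : ℤ) :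
    PreservesColimitsOfShape J (tensorH K i) :=
  have := preservesColimitsOfShape_tensorCxF J K
  have := preservesColimitsOfShape_homology (A := A) J i
  comp_preservesColimitsOfShape _ _

theorem preservesColimitsOfShape_singleH (K : _root_.DRing.Cx A) (i : ℤ) :
    PreservesColimitsOfShape J (singleH K i) :=
  have := preservesColimitsOfShape_homology (A := A) J i
  have : PreservesColimitsOfShape J (CochainComplex.singleFunctor (ModuleCat.{u} A) 0) :=
    inferInstanceAs (PreservesColimitsOfShape J (HomologicalComplex.single (ModuleCat.{u} A) (ComplexShape.up ℤ) 0))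
  have := comp_preservesColimitsOfShape (TL K) (HomologicalComplex.homologyFunctor (ModuleCat.{u} A) _ i) (J := J)
  comp_preservesColimitsOfShape _ _

end Groth.Agent.HTor95.Colim
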