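import Groth.Agent.HTor95.Te
import Groth.Agent.DRing.Trunc
import Mathlib.LinearAlgebra.Finsupp.VectorSpace
import Mathlib.RingTheory.Flat.Basic

/-!
# Killing the cohomology of a complex by free modules
-/

universe u

open CategoryTheory CategoryTheory.Limits MonoidalCategory
open scoped TensorProduct

attribute [local instance] HasDerivedCategory.standard

namespace Groth.Agent.HTor95.Cone

open DRing.Tensor DRing.Homology Te

variable {A : Type u} [CommRing A] (K : CochainComplex (ModuleCat.{u} A) ℤ)

/-- A free module mapping onto `H^k K`, zero if `H^k K = 0`. -/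
abbrev G (k : ℤ) : Type u := {x : K.homology k // x ≠ 0} →₀ A

/-- The surjection onto homology. -/
noncomputable def eps (k : ℤ) : G K k →ₗ[A] K.homology k :=
  Finsupp.linearCombination A Subtype.val

theorem eps_surjective (k : ℤ) : Function.Surjective (eps K k) := fun x => by
  by_cases hx : x = 0
  · exact ⟨0, by rw [hx, map_zero]⟩
  · exact ⟨Finsupp.single ⟨x, hx⟩ 1, by rw [eps, Finsupp.linearCombination_single, one_smul]⟩

theorem subsingleton_G (k : ℤ) [Subsingleton (K.homology k)] : Subsingleton (G K k) := by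
  have : IsEmpty {x : K.homology k // x ≠ 0} := ⟨fun x => x.2 (Subsingleton.elim _ _)⟩
  infer_instance

/-- A lift of `eps` to cocycles. -/
noncomputable def lift (k : ℤ) : G K k →ₗ[A] K.X k :=
  Finsupp.linearCombination A fun x => (cls_surjective x.1).choose

theorem isCyc_lift (k : ℤ) (f : G K k) : IsCyc K k (lift K k f) := by
  induction f using Finsupp.induction_linear with
  | zero => rw [map_zero]; exact isCyc_zero k
  | add f g hf hg => rw [map_add]; exact hf.add hg
  | single x a =>
    rw [lift, Finsupp.linearCombination_single]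
    exact (cls_surjective x.1).choose_spec.choose.smul a

theorem cls_lift (k : ℤ) (f : G K k) : cls (lift K k f) (isCyc_lift K k f) = eps K k f := by
  induction f using Finsupp.induction_linear with
  | zero => exact (cls_congr (map_zero _) _).trans ((cls_zero k).trans (map_zero _).symm)
  | add f g hf hg =>
    refine ((cls_congr (map_add _ _ _) _).trans
      (cls_add (isCyc_lift K k f) (isCyc_lift K k g))).trans ?_
    rw [hf, hg, map_add]
  | single x a =>
    rw [eps, Finsupp.linearCombination_single]
    refine (cls_congr (Finsupp.linearCombination_single _ _ _) _).trans ?_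
    rw [cls_smul (cls_surjective x.1).choose_spec.choose, (cls_surjective x.1).choose_spec.choose_spec]

theorem lift_d (i j : ℤ) (f : G K i) : (K.d i j).hom (lift K i f) = 0 := by
  by_cases h : i + 1 = j
  · subst h; exact isCyc_lift K i f
  · rw [K.shape i j (by simpa using h)]; rfl

/-- The differential of `next`. -/
noncomputable def nextD (i : ℤ) : ModuleCat.of A (G K (i + 1) × K.X i) ⟶
    ModuleCat.of A (G K (i + 1 + 1) × K.X (i + 1)) :=
  ModuleCat.ofHom (LinearMap.prod 0
    ((lift K (i + 1)).comp (LinearMap.fst A _ _) + (K.d i (i + 1)).hom.comp (LinearMap.snd A _ _)))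

theorem nextD_sq (i : ℤ) : nextD K i ≫ nextD K (i + 1) = 0 := by
  refine ModuleCat.hom_ext (LinearMap.ext fun x => ?_)
  refine Prod.ext rfl ?_
  show lift K (i + 1 + 1) 0 + (K.d (i + 1) (i + 1 + 1)).hom
    (lift K (i + 1) x.1 + (K.d i (i + 1)).hom x.2) = 0
  rw [map_zero, zero_add, map_add, lift_d, zero_add, d_d]

/-- The cone of the map killing all of homology. -/
noncomputable abbrev next : CochainComplex (ModuleCat.{u} A) ℤ where
  X i := ModuleCat.of A (G K (i + 1) × K.X i)
  d := CochainComplex.of.d (fun i => ModuleCat.of A (G K (i + 1) × K.X i)) (nextD K)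
  shape i j h := CochainComplex.of_d_ne (fun i => ModuleCat.of A (G K (i + 1) × K.X i)) (nextD K) h
  d_comp_d' i j k hij hjk := by
    obtain rfl : i + 1 = j := hij
    obtain rfl : i + 1 + 1 = k := hjk
    rw [CochainComplex.of_d, CochainComplex.of_d]
    exact nextD_sq K i

theorem next_d (i : ℤ) : (next K).d i (i + 1) = nextD K i :=
  CochainComplex.of_d (fun i => ModuleCat.of A (G K (i + 1) × K.X i)) (nextD K) i

theorem next_d_apply (i : ℤ) (f : G K (i + 1)) (x : K.X i) :
    ((next K).d i (i + 1)).hom (f, x) = (0, lift K (i + 1) f + (K.d i (i + 1)).hom x) := by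
  rw [next_d]; rfl

/-- The free part, as a complex with zero differential. -/
noncomputable abbrev E : CochainComplex (ModuleCat.{u} A) ℤ where
  X i := ModuleCat.of A (G K (i + 1))
  d _ _ := 0

theorem E_d (i j : ℤ) : (E K).d i j = 0 := rfl

/-- The inclusion of `K` into `next K`. -/
noncomputable def inc : K ⟶ next K where
  f i := ModuleCat.ofHom (LinearMap.inr A (G K (i + 1)) (K.X i))
  comm' i j h := by
    obtain rfl : i + 1 = j := h
    refine ModuleCat.hom_ext (LinearMap.ext fun x => ?_)
    refine (next_d_apply K i 0 x).trans (Prod.ext rfl ?_)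
    show lift K (i + 1) 0 + (K.d i (i + 1)).hom x = _
    rw [map_zero, zero_add]; rfl

/-- The projection of `next K` onto the free part. -/
noncomputable def proj : next K ⟶ E K where
  f i := ModuleCat.ofHom (LinearMap.fst A (G K (i + 1)) (K.X i))
  comm' i j h := by
    obtain rfl : i + 1 = j := h
    rw [E_d, comp_zero, next_d]
    rfl

theorem isCyc_E (i : ℤ) (f : G K (i + 1)) : IsCyc (E K) i f := by
  show ((E K).d i (i + 1)).hom f = 0
  rw [E_d]; rfl

theorem cls_E_injective (i : ℤ) {f g : G K (i + 1)}
    (h : cls (K := E K) (i := i) f (isCyc_E K i f) = cls (K := E K) (i := i) g (isCyc_E K i g)) : f = g := by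
  obtain ⟨w, hw⟩ := (cls_eq_iff (K := E K) (i - 1) (sub_add_cancel i 1) _ _).1 h
  rw [E_d] at hw
  exact sub_eq_zero.1 hw.symm

/-- The homology of the free part. -/
noncomputable def eqE (i k : ℤ) (h : i + 1 = k) : G K k ≃ₗ[A] (E K).homology i :=
  h ▸ LinearEquiv.ofBijective
    ({ toFun := fun f => cls (K := E K) (i := i) f (isCyc_E K i f)
       map_add' := fun f g => cls_add (K := E K) (isCyc_E K i f) (isCyc_E K i g)
       map_smul' := fun c f => cls_smul (K := E K) (isCyc_E K i f) c } :
      G K (i + 1) →ₗ[A] (E K).homology i)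
    ⟨fun f g h => cls_E_injective K i h, fun x => by
      obtain ⟨z, hz, rfl⟩ := cls_surjective x
      exact ⟨z, rfl⟩⟩

theorem eqE_apply (i : ℤ) (f : G K (i + 1)) :
    eqE K i (i + 1) rfl f = cls (K := E K) (i := i) f (isCyc_E K i f) := rfl

/-- The connecting projection `H^i (next K) → G K (i+1)`. -/
noncomputable def pr (i k : ℤ) (h : i + 1 = k) : (next K).homology i →ₗ[A] G K k :=
  (eqE K i k h).symm.toLinearMap.comp (HomologicalComplex.homologyMap (proj K) i).hom

theorem pr_cls (i : ℤ) (f : G K (i + 1)) (x : K.X i) (hc : IsCyc (next K) i (f, x)) :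
    pr K i (i + 1) rfl (cls (K := next K) (f, x) hc) = f := by
  rw [pr, LinearMap.comp_apply, LinearEquiv.coe_coe, LinearEquiv.symm_apply_eq, homologyMap_cls,
    eqE_apply]
  rfl

theorem isCyc_next_iff (i : ℤ) (f : G K (i + 1)) (x : K.X i) :
    IsCyc (next K) i (f, x) ↔ lift K (i + 1) f + (K.d i (i + 1)).hom x = 0 := by
  show ((next K).d i (i + 1)).hom (f, x) = 0 ↔ _
  rw [next_d_apply]
  exact ⟨fun h => congrArg Prod.snd h, fun h => Prod.ext rfl h⟩

theorem range_pr (i k : ℤ) (h : i + 1 = k) : LinearMap.range (pr K i k h) = LinearMap.ker (eps K k) := by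
  subst h
  refine le_antisymm ?_ fun f hf => ?_
  · rintro _ ⟨a, rfl⟩
    obtain ⟨⟨f, x⟩, hc, rfl⟩ := cls_surjective a
    rw [LinearMap.mem_ker, pr_cls, ← cls_lift]
    refine (cls_eq_zero_iff i rfl _).2 ⟨-x, ?_⟩
    rw [map_neg, ← eq_neg_iff_add_eq_zero.2 ((isCyc_next_iff K i f x).1 hc)]
  · rw [LinearMap.mem_ker, ← cls_lift] at hf
    obtain ⟨w, hw⟩ := (cls_eq_zero_iff i rfl _).1 hf
    have hc : IsCyc (next K) i (f, -w) := by rw [isCyc_next_iff, map_neg, hw, add_neg_cancel]
    exact ⟨cls (K := next K) (f, -w) hc, pr_cls K i f _ hc⟩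

theorem eps_pr (i k : ℤ) (h : i + 1 = k) (a : (next K).homology i) : eps K k (pr K i k h a) = 0 :=
  LinearMap.mem_ker.1 (range_pr K i k h ▸ LinearMap.mem_range_self _ a)

theorem pr_injective (i k : ℤ) (h : i + 1 = k) : Function.Injective (pr K i k h) := by
  subst h
  rw [injective_iff_map_eq_zero]
  intro a ha
  obtain ⟨⟨f, x⟩, hc, rfl⟩ := cls_surjective a
  rw [pr_cls] at ha
  subst ha
  have hx : IsCyc K i x := by
    show (K.d i (i + 1)).hom x = 0
    simpa using (isCyc_next_iff K i 0 x).1 hc
  obtain ⟨g, hg⟩ := eps_surjective K i (cls x hx)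
  rw [← cls_lift] at hg
  obtain ⟨i', rfl⟩ : ∃ i', i = i' + 1 := ⟨i - 1, by omega⟩
  obtain ⟨y, hy⟩ := (cls_eq_iff i' rfl _ _).1 hg
  refine (cls_eq_zero_iff i' rfl _).2 ⟨(g, -y), ?_⟩
  refine (next_d_apply K i' g (-y)).trans (Prod.ext rfl ?_)
  show lift K (i' + 1) g + (K.d i' (i' + 1)).hom (-y) = x
  rw [map_neg, hy]; abel

theorem subsingleton_homology_next (i k : ℤ) (h : i + 1 = k) [Subsingleton (K.homology k)] :
    Subsingleton ((next K).homology i) :=
  have := subsingleton_G K k
  (pr_injective K i k h).subsingleton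

theorem vanishesAbove_next {b : ℤ} (hb : DRing.VanishesAbove K b) : DRing.VanishesAbove (next K) b := by
  intro i hi
  have h1 := ModuleCat.subsingleton_of_isZero (hb i hi)
  have : Subsingleton (K.homology (i + 1)) :=
    ModuleCat.subsingleton_of_isZero (ShortComplex.isZero_homology_of_isZero_X₂ _ (hb (i + 1) (by omega)))
  have h2 := subsingleton_G K (i + 1)
  exact @ModuleCat.isZero_of_subsingleton A _ _ (inferInstanceAs (Subsingleton (G K (i + 1) × K.X i)))

/-- The differential of the resolution of homology built from iterating `next`. -/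
noncomputable def dG (i k : ℤ) (h : i + 1 = k) : G (next K) i →ₗ[A] G K k :=
  (pr K i k h).comp (eps (next K) i)

theorem range_dG (i k : ℤ) (h : i + 1 = k) : LinearMap.range (dG K i k h) = LinearMap.ker (eps K k) := by
  rw [dG, LinearMap.range_comp_of_range_eq_top _ (LinearMap.range_eq_top.2 (eps_surjective (next K) i)),
    range_pr]

theorem ker_dG (i k : ℤ) (h : i + 1 = k) : LinearMap.ker (dG K i k h) = LinearMap.ker (eps (next K) i) := by
  rw [dG, LinearMap.ker_comp_of_ker_eq_bot _ (LinearMap.ker_eq_bot.2 (pr_injective K i k h))]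

/-- The iterates of `next`. -/
noncomputable def N : ℕ → CochainComplex (ModuleCat.{u} A) ℤ
  | 0 => K
  | q + 1 => next (N q)

theorem vanishesAbove_N {b : ℤ} (hb : DRing.VanishesAbove K b) :
    ∀ q, DRing.VanishesAbove (N K q) b
  | 0 => hb
  | q + 1 => vanishesAbove_next (N K q) (vanishesAbove_N hb q)

theorem subsingleton_homology_N {b : ℤ} (hb : DRing.VanishesAbove K b) :
    ∀ (q : ℕ) (i : ℤ), b < i + q → Subsingleton ((N K q).homology i)
  | 0, i, hi => ModuleCat.subsingleton_of_isZero
      (ShortComplex.isZero_homology_of_isZero_X₂ _ (hb i (by omega)))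
  | q + 1, i, hi => by
    have := subsingleton_homology_N hb q (i + 1) (by omega)
    exact subsingleton_homology_next (N K q) i (i + 1) rfl

theorem isZero_homology_tensor {L : CochainComplex (ModuleCat.{u} A) ℤ} (hL : DRing.TermwiseFlat L)
    {a : ℤ} (ha : DRing.VanishesAbove L a) {c n : ℤ} (hn : a + c < n)
    (hK : ∀ i, c < i → Subsingleton (K.homology i)) : IsZero ((L ⊗ K).homology n) := by
  obtain ⟨P, π, hP, -, hq⟩ := DRing.Trunc.exists_projRes K c fun i hi => by
    rw [HomologicalComplex.exactAt_iff_isZero_homology]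
    exact @ModuleCat.isZero_of_subsingleton A _ _ (hK i hi)
  have := DRing.KFlat.quasiIso_whiskerLeft (DRing.KFlat.isKFlat_of_boundedAbove_flat L a ha hL) π
  refine IsZero.of_iso ?_ (asIso (HomologicalComplex.homologyMap (L ◁ π) n)).symm
  refine ShortComplex.isZero_homology_of_isZero_X₂ _ ?_
  show IsZero ((L ⊗ P).X n)
  have : Subsingleton ((L ⊗ P).X n) := ⟨fun x y => by
    suffices h : ∀ w : (L ⊗ P).X n, w = 0 by rw [h x, h y]
    intro w
    induction w using te_induction with
    | zero => rfl
    | add u v hu hv => rw [hu, hv, add_zero]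
    | te p q h x y =>
      by_cases hp : a < p
      · have := ModuleCat.subsingleton_of_isZero (ha p hp)
        rw [Subsingleton.elim x 0, map_zero, LinearMap.zero_apply]
      · have := ModuleCat.subsingleton_of_isZero (hP q (by omega))
        rw [Subsingleton.elim y 0, map_zero]⟩
  exact ModuleCat.isZero_of_subsingleton _

end Groth.Agent.HTor95.Cone
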