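import Mathlib.Algebra.Homology.Embedding.ExtendHomology
import Mathlib.Algebra.Homology.Additive
import Mathlib.Algebra.Category.ModuleCat.Abelian

/-!
# Extension of complexes: compatibility with functors, naturality of the homology isomorphism
-/

universe v₁ v₂ u₁ u₂

open CategoryTheory CategoryTheory.Limits

namespace Groth.Agent.HTor95.Extend

variable {ι ι' : Type*} {c : ComplexShape ι} {c' : ComplexShape ι'} {C : Type u₁} {D : Type u₂}
  [Category.{v₁} C] [Category.{v₂} D] [HasZeroObject C] [HasZeroObject D]

section

variable [HasZeroMorphisms C] [HasZeroMorphisms D] (F : C ⥤ D) [F.PreservesZeroMorphisms]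
  (K : HomologicalComplex C c)

/-- Components of `mapExtendIso`. -/
noncomputable def mapXIso : ∀ o : Option ι,
    F.obj (HomologicalComplex.extend.X K o) ≅
      HomologicalComplex.extend.X ((F.mapHomologicalComplex c).obj K) o
  | some _ => Iso.refl _
  | none => IsZero.iso (F.map_isZero (isZero_zero C)) (isZero_zero D)

theorem mapXIso_d (o o' : Option ι) :
    (mapXIso F K o).hom ≫ HomologicalComplex.extend.d ((F.mapHomologicalComplex c).obj K) o o' =
      F.map (HomologicalComplex.extend.d K o o') ≫ (mapXIso F K o').hom := by
  match o, o' with
  | none, _ => exact (F.map_isZero (isZero_zero C)).eq_of_src _ _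
  | some _, none => exact (isZero_zero D).eq_of_tgt _ _
  | some i, some j => exact (Category.id_comp _).trans (Category.comp_id _).symm

/-- Applying a functor termwise commutes with extension. -/
noncomputable def mapExtendIso (e : c.Embedding c') :
    (F.mapHomologicalComplex c').obj (K.extend e) ≅ ((F.mapHomologicalComplex c).obj K).extend e :=
  HomologicalComplex.Hom.isoOfComponents (fun i' => mapXIso F K (e.r i'))
    (fun i' j' _ => mapXIso_d F K (e.r i') (e.r j'))

@[reassoc]
theorem mapExtendIso_natural {G : C ⥤ D} [G.PreservesZeroMorphisms] (α : F ⟶ G) (e : c.Embedding c') :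
    (NatTrans.mapHomologicalComplex α c').app (K.extend e) ≫ (mapExtendIso G K e).hom =
      (mapExtendIso F K e).hom ≫
        HomologicalComplex.extendMap ((NatTrans.mapHomologicalComplex α c).app K) e := by
  refine HomologicalComplex.hom_ext _ _ fun i' => ?_
  show α.app (HomologicalComplex.extend.X K (e.r i')) ≫ (mapXIso G K (e.r i')).hom =
    (mapXIso F K (e.r i')).hom ≫
      HomologicalComplex.extend.mapX ((NatTrans.mapHomologicalComplex α c).app K) (e.r i')
  generalize e.r i' = o
  match o with
  | none => exact (isZero_zero D).eq_of_tgt _ _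
  | some i => exact (Category.comp_id _).trans (Category.id_comp _).symm

@[reassoc]
theorem mapExtendIso_natural' {K' : HomologicalComplex C c} (φ : K ⟶ K') (e : c.Embedding c') :
    (F.mapHomologicalComplex c').map (HomologicalComplex.extendMap φ e) ≫ (mapExtendIso F K' e).hom =
      (mapExtendIso F K e).hom ≫ HomologicalComplex.extendMap ((F.mapHomologicalComplex c).map φ) e := by
  refine HomologicalComplex.hom_ext _ _ fun i' => ?_
  show F.map (HomologicalComplex.extend.mapX φ (e.r i')) ≫ (mapXIso F K' (e.r i')).hom =
    (mapXIso F K (e.r i')).hom ≫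
      HomologicalComplex.extend.mapX ((F.mapHomologicalComplex c).map φ) (e.r i')
  generalize e.r i' = o
  match o with
  | none => exact (isZero_zero D).eq_of_tgt _ _
  | some i => exact (Category.comp_id _).trans (Category.id_comp _).symm

end

section

variable [HasZeroMorphisms C] {K L : HomologicalComplex C c} (φ : K ⟶ L) (e : c.Embedding c')
  {j : ι} {j' : ι'} (hj' : e.f j = j')
  [K.HasHomology j] [L.HasHomology j] [(K.extend e).HasHomology j'] [(L.extend e).HasHomology j']

@[reassoc]
theorem extendHomologyIso_natural :
    HomologicalComplex.homologyMap (HomologicalComplex.extendMap φ e) j' ≫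
        (L.extendHomologyIso e hj').hom =
      (K.extendHomologyIso e hj').hom ≫ HomologicalComplex.homologyMap φ j := by
  rw [← cancel_epi ((K.extend e).homologyπ j'), HomologicalComplex.homologyπ_naturality_assoc,
    HomologicalComplex.homologyπ_extendHomologyIso_hom,
    HomologicalComplex.homologyπ_extendHomologyIso_hom_assoc,
    HomologicalComplex.homologyπ_naturality]
  simp only [← Category.assoc]
  congr 1
  rw [← cancel_mono (L.iCycles j)]
  simp only [Category.assoc, HomologicalComplex.cyclesMap_i,
    HomologicalComplex.extendCyclesIso_hom_iCycles, HomologicalComplex.cyclesMap_i_assoc,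
    HomologicalComplex.extendCyclesIso_hom_iCycles_assoc]
  rw [HomologicalComplex.extendMap_f φ e hj']
  simp

end

end Groth.Agent.HTor95.Extend
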