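import Groth.Agent.HTor95.Cone
import Mathlib.CategoryTheory.Abelian.LeftDerived
import Mathlib.CategoryTheory.Monoidal.Tor

/-!
# The resolution of homology by the iterates of `next`
-/

universe u

open CategoryTheory CategoryTheory.Limits MonoidalCategory
open scoped TensorProduct

attribute [local instance] HasDerivedCategory.standard

namespace Groth.Agent.HTor95.Tau

open DRing.Tensor DRing.Homology Te Cone

variable {A : Type u} [CommRing A] (M : CochainComplex (ModuleCat.{u} A) ℤ)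

/-- The differentials of the resolution. -/
noncomputable abbrev rd (j : ℤ) (r : ℕ) :
    ModuleCat.of A (G (N M (r + 1)) (j - ((r + 1 : ℕ) : ℤ))) ⟶ ModuleCat.of A (G (N M r) (j - (r : ℤ))) :=
  ModuleCat.ofHom (dG (N M r) (j - ((r + 1 : ℕ) : ℤ)) (j - (r : ℤ)) (by omega))

theorem dG_dG (K : CochainComplex (ModuleCat.{u} A) ℤ) (i k l : ℤ) (h : i + 1 = k) (h' : k + 1 = l)
    (x : G (next (next K)) i) : dG K k l h' (dG (next K) i k h x) = 0 := by
  rw [← LinearMap.mem_ker, ker_dG, ← range_dG]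
  exact LinearMap.mem_range_self _ x

/-- The resolution of `H^j M` by free modules. -/
noncomputable def cx (j : ℤ) : ChainComplex (ModuleCat.{u} A) ℕ :=
  ChainComplex.of (fun r => ModuleCat.of A (G (N M r) (j - (r : ℤ)))) (rd M j) fun r =>
    ModuleCat.hom_ext (LinearMap.ext fun x => dG_dG (N M r) _ _ _ _ _ x)

theorem cx_d (j : ℤ) (r : ℕ) : (cx M j).d (r + 1) r = rd M j r :=
  ChainComplex.of_d (fun r : ℕ => ModuleCat.of A (G (N M r) (j - (r : ℤ)))) (rd M j) r

theorem cx_d_eps (j : ℤ) : (cx M j).d 1 0 ≫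
    ModuleCat.ofHom (X := G (N M 0) (j - ((0 : ℕ) : ℤ))) (eps (N M 0) (j - ((0 : ℕ) : ℤ))) = 0 := by
  rw [cx_d M j 0]
  exact ModuleCat.hom_ext (LinearMap.ext fun x => eps_pr (N M 0) _ _ _ _)

/-- The augmentation. -/
noncomputable def aug (j : ℤ) :
    cx M j ⟶ (ChainComplex.single₀ _).obj (M.homology (j - ((0 : ℕ) : ℤ))) :=
  (ChainComplex.toSingle₀Equiv _ _).symm
    ⟨ModuleCat.ofHom (X := G (N M 0) (j - ((0 : ℕ) : ℤ))) (eps (N M 0) (j - ((0 : ℕ) : ℤ))), cx_d_eps M j⟩

theorem quasiIso_aug (j : ℤ) : QuasiIso (aug M j) := ⟨fun n => by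
  cases n with
  | zero =>
    rw [ChainComplex.quasiIsoAt₀_iff, ShortComplex.quasiIso_iff_of_zeros']
    · refine (ShortComplex.exact_and_epi_g_iff_of_iso (S₂ := ShortComplex.mk ((cx M j).d 1 0) _
        (cx_d_eps M j)) ?_).2 ⟨?_, (ModuleCat.epi_iff_surjective _).mpr (eps_surjective _ _)⟩
      · exact ShortComplex.isoMk (Iso.refl _) (Iso.refl _) (Iso.refl _)
          ((Category.id_comp _).trans (Category.comp_id _).symm)
          ((Category.id_comp _).trans ((ChainComplex.toSingle₀Equiv_symm_apply_f_zero _ (cx_d_eps M j)).symm.trans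
            (Category.comp_id _).symm))
      · rw [ShortComplex.moduleCat_exact_iff_range_eq_ker]
        show LinearMap.range ((cx M j).d 1 0).hom = LinearMap.ker (eps (N M 0) (j - ((0 : ℕ) : ℤ)))
        rw [cx_d M j 0]
        exact range_dG (N M 0) _ _ _
    all_goals rfl
  | succ n =>
    rw [quasiIsoAt_iff_exactAt' _ _ (ChainComplex.exactAt_succ_single_obj _ _)]
    rw [HomologicalComplex.exactAt_iff' _ (n + 1 + 1) (n + 1) n (by simp) (by simp),
      ShortComplex.moduleCat_exact_iff_range_eq_ker]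
    show LinearMap.range ((cx M j).d (n + 1 + 1) (n + 1)).hom = LinearMap.ker ((cx M j).d (n + 1) n).hom
    rw [cx_d, cx_d]
    exact (range_dG (N M (n + 1)) _ _ _).trans (ker_dG (N M n) _ _ _).symm⟩

theorem projective_G (K : CochainComplex (ModuleCat.{u} A) ℤ) (i : ℤ) :
    Projective (ModuleCat.of A (G K i)) :=
  (IsProjective.iff_projective (G K i)).1 inferInstance

/-- The projective resolution. -/
noncomputable def res (j : ℤ) : ProjectiveResolution (M.homology (j - ((0 : ℕ) : ℤ))) where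
  complex := cx M j
  projective r := projective_G (N M r) _
  π := aug M j
  quasiIso := quasiIso_aug M j

/-- Tor classes of cycles of the resolution. -/
theorem exists_tau (H : ModuleCat.{u} A) (p : ℕ) (k k' j : ℤ) (hk : k + 1 = k')
    (hj : k + ((p + 1 : ℕ) : ℤ) = j) :
    ∃ τ : LinearMap.ker ((dG (N M p) k k' hk).lTensor H) →ₗ[A] _root_.DRing.Tor A (p + 1) H (M.homology j),
      ∀ z, τ z = 0 → z.1 ∈ LinearMap.range ((dG (N M (p + 1)) (k - 1) k (sub_add_cancel k 1)).lTensor H) := by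
  obtain rfl : k = j - ((p + 1 : ℕ) : ℤ) := by omega
  obtain rfl : k' = j - (p : ℤ) := by omega
  rw [show M.homology j = M.homology (j - ((0 : ℕ) : ℤ)) by simp]
  let C := (((tensoringLeft (ModuleCat.{u} A)).obj H).mapHomologicalComplex _).obj (cx M j)
  let S := C.sc' (p + 2) (p + 1) p
  let e := (res M j).isoLeftDerivedObj ((tensoringLeft (ModuleCat.{u} A)).obj H) (p + 1) ≪≫
    C.homologyIsoSc' (p + 2) (p + 1) p (by simp) (by simp) ≪≫ S.moduleCatHomologyIso
  have hker : ∀ z : LinearMap.ker ((dG (N M p) (j - ((p + 1 : ℕ) : ℤ)) (j - (p : ℤ)) hk).lTensor H),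
      z.1 ∈ LinearMap.ker S.g.hom := fun z => by
    show ((H ◁ (cx M j).d (p + 1) p)).hom z.1 = 0
    rw [cx_d]
    exact z.2
  refine ⟨e.inv.hom.comp ((LinearMap.range S.moduleCatToCycles).mkQ.comp
    (LinearMap.codRestrict (LinearMap.ker S.g.hom) (Submodule.subtype _) hker)), fun z hz => ?_⟩
  have inj : Function.Injective e.inv.hom := (ModuleCat.mono_iff_injective _).1 inferInstance
  obtain ⟨w, hw⟩ := (Submodule.Quotient.mk_eq_zero _).1 ((map_eq_zero_iff _ inj).1 hz)
  have hw' : (H ◁ (cx M j).d (p + 1 + 1) (p + 1)).hom w = z.1 := congrArg Subtype.val hw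
  rw [cx_d] at hw'
  have key : ∀ (k₀ : ℤ) (h₀ : k₀ + 1 = j - ((p + 1 : ℕ) : ℤ)) (v : H ⊗[A] G (N M (p + 1 + 1)) k₀),
      (dG (N M (p + 1)) k₀ (j - ((p + 1 : ℕ) : ℤ)) h₀).lTensor H v ∈
        LinearMap.range ((dG (N M (p + 1)) (j - ((p + 1 : ℕ) : ℤ) - 1) (j - ((p + 1 : ℕ) : ℤ))
          (sub_add_cancel _ 1)).lTensor H) := by
    intro k₀ h₀ v
    obtain rfl : k₀ = j - ((p + 1 : ℕ) : ℤ) - 1 := by omega
    exact ⟨v, rfl⟩
  exact hw' ▸ key _ _ w

end Groth.Agent.HTor95.Tau
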