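import Groth.Agent.HTor95.Phi
import Groth.Agent.HTor95.Tau

/-!
# The filtration on `H(L ⊗ M)`
-/

universe u

open CategoryTheory CategoryTheory.Limits MonoidalCategory
open scoped TensorProduct DirectSum

attribute [local instance] HasDerivedCategory.standard

namespace Groth.Agent.HTor95.Filt

open DRing.Tensor DRing.Homology Te Cone Seq Phi

theorem isSubquotient_of_maps {R : Type u} [CommRing R] {Z T H G : Type u} [AddCommGroup Z] [Module R Z]
    [AddCommGroup T] [Module R T] [AddCommGroup H] [Module R H] [AddCommGroup G] [Module R G]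
    (a : Z →ₗ[R] H) (ψ : Z →ₗ[R] T) (hψ : LinearMap.ker ψ ≤ LinearMap.ker a) (g : G →ₗ[R] H)
    (hg : Function.Injective g) (hI : LinearMap.range g ≤ LinearMap.range a) :
    HTor.IsSubquotient R G T := by
  let Z' := Submodule.comap a (LinearMap.range g)
  let S := Submodule.map ψ (LinearMap.ker a)
  let S' := Submodule.map ψ Z'
  have hK : LinearMap.ker a ≤ Z' := fun z hz => by
    show a z ∈ LinearMap.range g
    rw [LinearMap.mem_ker.1 hz]
    exact zero_mem _
  refine ⟨S, S', Submodule.map_mono hK, ?_⟩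
  let b : Z' →ₗ[R] LinearMap.range g := (a.comp Z'.subtype).codRestrict _ fun z => z.2
  have hb : Function.Surjective b := fun x => by
    obtain ⟨z, hz⟩ := hI x.2
    exact ⟨⟨z, show a z ∈ LinearMap.range g from hz ▸ x.2⟩, Subtype.ext hz⟩
  let φ : Z' →ₗ[R] S' := (ψ.comp Z'.subtype).codRestrict _ fun z => Submodule.mem_map_of_mem z.2
  let c : Z' →ₗ[R] ↥S' ⧸ Submodule.comap S'.subtype S := (Submodule.comap S'.subtype S).mkQ.comp φ
  have hc : Function.Surjective c := (Submodule.mkQ_surjective _).comp fun x => by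
    obtain ⟨z, hz, he⟩ := Submodule.mem_map.1 x.2
    exact ⟨⟨z, hz⟩, Subtype.ext he⟩
  have hker : LinearMap.ker b = LinearMap.ker c := by
    ext z
    rw [LinearMap.mem_ker, LinearMap.mem_ker]
    constructor
    · intro h
      refine (Submodule.Quotient.mk_eq_zero (Submodule.comap S'.subtype S)).2 ?_
      exact Submodule.mem_map_of_mem (show z.1 ∈ LinearMap.ker a from congrArg Subtype.val h)
    · intro h
      obtain ⟨w, hw, he⟩ := Submodule.mem_map.1 (show ψ z.1 ∈ S from (Submodule.Quotient.mk_eq_zero (Submodule.comap S'.subtype S)).1 h)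
      refine Subtype.ext (show a z.1 = 0 from ?_)
      have : z.1 - w ∈ LinearMap.ker a := hψ (by rw [LinearMap.mem_ker, map_sub, he, sub_self])
      rw [LinearMap.mem_ker, map_sub, LinearMap.mem_ker.1 hw, sub_zero] at this
      exact this
  exact ⟨(LinearEquiv.ofInjective g hg).trans
    ((b.quotKerEquivOfSurjective hb).symm.trans ((Submodule.quotEquivOfEq _ _ hker).trans
      (c.quotKerEquivOfSurjective hc)))⟩

variable {A : Type u} [CommRing A] (L M : CochainComplex (ModuleCat.{u} A) ℤ) (n : ℤ)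

/-- The maps `H^n(L ⊗ M) → H^n(L ⊗ N q)`. -/
noncomputable def g : (q : ℕ) → (L ⊗ M).homology n →ₗ[A] (L ⊗ N M q).homology n
  | 0 => LinearMap.id
  | q + 1 => (incH L (N M q) n).comp (g q)

theorem g_succ (q : ℕ) : g L M n (q + 1) = (incH L (N M q) n).comp (g L M n q) := rfl

/-- The filtration. -/
noncomputable def F (p : ℕ) : Submodule A ((L ⊗ M).homology n) := LinearMap.ker (g L M n (p + 1))

theorem F_mono : Monotone (F L M n) := monotone_nat_of_le_succ fun p x hx => by
  rw [F, LinearMap.mem_ker] at hx ⊢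
  exact (congrArg (incH L (N M (p + 1)) n) hx).trans (map_zero _)

theorem ker_incH' (K : CochainComplex (ModuleCat.{u} A) ℤ) :
    LinearMap.ker (incH L K n) = LinearMap.range (al L K n) := by
  rw [ker_incH L K (n - 1) n (sub_add_cancel n 1), range_conn L K (n - 1) n (sub_add_cancel n 1)]

theorem F_zero : F L M n 0 = LinearMap.range (kunneth L M n) := by
  show LinearMap.ker ((incH L (N M 0) n).comp LinearMap.id) = _
  rw [LinearMap.comp_id, ker_incH', range_al]
  rfl

theorem exists_F_eq_top (hL : DRing.TermwiseFlat L) (bL : ∃ b : ℤ, DRing.VanishesAbove L b)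
    (bM : ∃ b : ℤ, DRing.VanishesAbove M b) : ∃ N₀ : ℕ, F L M n N₀ = ⊤ := by
  obtain ⟨a, ha⟩ := bL
  obtain ⟨b, hb⟩ := bM
  refine ⟨(a + b - n).toNat, ?_⟩
  have hz := isZero_homology_tensor (N M ((a + b - n).toNat + 1)) hL ha (n := n)
    (c := b - (((a + b - n).toNat + 1 : ℕ) : ℤ)) (by omega)
    (fun i hi => subsingleton_homology_N M hb _ i (by omega))
  have := ModuleCat.subsingleton_of_isZero hz
  exact eq_top_iff.2 fun x _ => Subsingleton.elim _ _

theorem al_dT {m : ℤ} (hm : n + 1 = m) (K : CochainComplex (ModuleCat.{u} A) ℤ)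
    (u : GS L (next K) n) : epsT L K m (dT L K n m hm u) = 0 := by
  suffices h : (epsT L K m).comp (dT L K n m hm) = 0 from LinearMap.congr_fun h u
  refine DirectSum.linearMap_ext A fun ⟨⟨i, r⟩, h⟩ => TensorProduct.ext' fun a f => ?_
  simp only [LinearMap.comp_apply, LinearMap.zero_apply]
  rw [dT_lof L K n m hm i r (r + 1) rfl h, LinearMap.lTensor_tmul, epsT_lof, dG, LinearMap.comp_apply,
    eps_pr, TensorProduct.tmul_zero, map_zero]

/-- The kernel, componentwise. -/
abbrev Zs (K : CochainComplex (ModuleCat.{u} A) ℤ) : Type u :=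
  ⨁ ij : HTor.Antidiag n,
    ↥(LinearMap.ker ((dG K ij.1.2 (ij.1.2 + 1) rfl).lTensor (L.homology ij.1.1)))

/-- The inclusion of the componentwise kernel. -/
noncomputable def incZ (K : CochainComplex (ModuleCat.{u} A) ℤ) : Zs L n K →ₗ[A] GS L (next K) n :=
  DirectSum.lmap fun _ => Submodule.subtype _

theorem component_dT (K : CochainComplex (ModuleCat.{u} A) ℤ) (i r : ℤ) (h : i + r = n)
    (v : GS L (next K) n) :
    DirectSum.component A (HTor.Antidiag (n + 1)) (fun ij => L.homology ij.1.1 ⊗[A] G K ij.1.2)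
        ⟨(i, r + 1), by omega⟩ (dT L K n (n + 1) rfl v) =
      (dG K r (r + 1) rfl).lTensor _ (DirectSum.component A (HTor.Antidiag n)
        (fun ij => L.homology ij.1.1 ⊗[A] G (next K) ij.1.2) ⟨(i, r), h⟩ v) := by
  refine LinearMap.congr_fun (f := (DirectSum.component A (HTor.Antidiag (n + 1))
      (fun ij => L.homology ij.1.1 ⊗[A] G K ij.1.2) ⟨(i, r + 1), by omega⟩).comp (dT L K n (n + 1) rfl))
    (g := ((dG K r (r + 1) rfl).lTensor _).comp (DirectSum.component A (HTor.Antidiag n)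
        (fun ij => L.homology ij.1.1 ⊗[A] G (next K) ij.1.2) ⟨(i, r), h⟩))
    (DirectSum.linearMap_ext A fun ⟨⟨i', r'⟩, h'⟩ => LinearMap.ext fun x => ?_) v
  simp only [LinearMap.comp_apply]
  rw [dT_lof L K n (n + 1) rfl i' r' (r' + 1) rfl h']
  by_cases e : i' = i
  · subst e
    obtain rfl : r' = r := by omega
    rw [DirectSum.component.lof_self, DirectSum.component.lof_self]
  · rw [DirectSum.component.of, dif_neg (fun he => e (congrArg (fun k => k.1.1) he)),
      DirectSum.component.of, dif_neg (fun he => e (congrArg (fun k => k.1.1) he)), map_zero]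

theorem exists_incZ (K : CochainComplex (ModuleCat.{u} A) ℤ) (u : GS L (next K) n)
    (hu : dT L K n (n + 1) rfl u = 0) : ∃ v, incZ L n K v = u := by
  classical
  have hmem : ∀ ij : HTor.Antidiag n, ((dG K ij.1.2 (ij.1.2 + 1) rfl).lTensor
      (L.homology ij.1.1)) (DirectSum.component A (HTor.Antidiag n)
        (fun ij => L.homology ij.1.1 ⊗[A] G (next K) ij.1.2) ij u) = 0 := by
    rintro ⟨⟨i, r⟩, h⟩
    rw [← component_dT L n K i r h u, hu, map_zero]
  refine ⟨∑ ij ∈ u.support, DirectSum.lof A _ _ ij ⟨_, hmem ij⟩, ?_⟩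
  conv_rhs => rw [← DirectSum.sum_support_of u]
  rw [map_sum]
  refine Finset.sum_congr rfl fun ij _ => ?_
  rw [incZ, DirectSum.lmap_lof]
  rfl

theorem ker_toModule_le_ker {κ : Type} [DecidableEq κ] (T : κ → Type u) [∀ k, AddCommGroup (T k)]
    [∀ k, Module A (T k)] (K : CochainComplex (ModuleCat.{u} A) ℤ) (e : HTor.Antidiag n → κ)
    (he : Function.Injective e)
    (τ : ∀ ij : HTor.Antidiag n,
      ↥(LinearMap.ker ((dG K ij.1.2 (ij.1.2 + 1) rfl).lTensor (L.homology ij.1.1))) →ₗ[A] T (e ij))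
    (hτ : ∀ (ij : HTor.Antidiag n) z, τ ij z = 0 → z.1 ∈ LinearMap.range
      ((dG (next K) (ij.1.2 - 1) ij.1.2 (sub_add_cancel _ 1)).lTensor (L.homology ij.1.1))) :
    LinearMap.ker (DirectSum.toModule A (HTor.Antidiag n) _
        fun ij => (DirectSum.lof A κ T (e ij)).comp (τ ij)) ≤
      LinearMap.ker ((al L (next K) n).comp (incZ L n K)) := by
  intro z hz
  have hcomp : ∀ ij : HTor.Antidiag n, (DirectSum.component A κ T (e ij)).comp
      (DirectSum.toModule A (HTor.Antidiag n) _ fun ij => (DirectSum.lof A κ T (e ij)).comp (τ ij)) =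
      (τ ij).comp (DirectSum.component A (HTor.Antidiag n)
        (fun ij => ↥(LinearMap.ker ((dG K ij.1.2 (ij.1.2 + 1) rfl).lTensor (L.homology ij.1.1)))) ij) := by
    intro ij
    refine DirectSum.linearMap_ext A fun k => LinearMap.ext fun x => ?_
    simp only [LinearMap.comp_apply, DirectSum.toModule_lof]
    by_cases hk : k = ij
    · subst hk
      rw [DirectSum.component.lof_self, DirectSum.component.lof_self]
    · rw [DirectSum.component.of, dif_neg (fun h => hk (he h)), DirectSum.component.of, dif_neg hk,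
        map_zero]
  classical
  rw [LinearMap.mem_ker] at hz ⊢
  rw [← DirectSum.sum_support_of z, map_sum]
  refine Finset.sum_eq_zero fun ij _ => ?_
  have h0 : τ ij (z ij) = 0 := by
    have := LinearMap.congr_fun (hcomp ij) z
    simp only [LinearMap.comp_apply, hz, map_zero] at this
    exact this.symm
  obtain ⟨v, hv⟩ := hτ ij (z ij) h0
  obtain ⟨⟨i, r⟩, h⟩ := ij
  rw [LinearMap.comp_apply, ← DirectSum.lof_eq_of A, incZ, DirectSum.lmap_lof, Submodule.subtype_apply,
    ← hv, al, LinearMap.comp_apply,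
    ← dT_lof L (next K) (n - 1) n (sub_add_cancel n 1) i (r - 1) r (sub_add_cancel r 1)
      (by omega : i + (r - 1) = n - 1) v,
    al_dT L (n - 1) (sub_add_cancel n 1) (next K), map_zero]

theorem exists_psi (q : ℕ) : ∃ ψ : Zs L n (N M q) →ₗ[A] HTor.TorSum L M n (q + 1),
    LinearMap.ker ψ ≤ LinearMap.ker ((al L (next (N M q)) n).comp (incZ L n (N M q))) := by
  choose τ hτ using fun ij : HTor.Antidiag n => Tau.exists_tau M (L.homology ij.1.1) q ij.1.2
    (ij.1.2 + 1) (ij.1.2 + ((q + 1 : ℕ) : ℤ)) rfl rfl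
  exact ⟨_, ker_toModule_le_ker L n (fun k : {ij : ℤ × ℤ // ij.1 + ij.2 - ((q + 1 : ℕ) : ℤ) = n} =>
      _root_.DRing.Tor A (q + 1) (L.homology k.1.1) (M.homology k.1.2)) (N M q)
    (fun ij => ⟨(ij.1.1, ij.1.2 + ((q + 1 : ℕ) : ℤ)), by
      have := ij.2; show ij.1.1 + (ij.1.2 + _) - _ = n; omega⟩)
    (fun a b hab => by
      have h1 := congrArg (fun k => k.1.1) hab
      have h2 := congrArg (fun k => k.1.2) hab
      exact Subtype.ext (Prod.ext h1 (add_right_cancel h2))) τ hτ⟩

theorem mem_range_alZ (K : CochainComplex (ModuleCat.{u} A) ℤ) (x : (L ⊗ next K).homology n)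
    (h1 : x ∈ LinearMap.range (incH L K n)) (h2 : x ∈ LinearMap.ker (incH L (next K) n)) :
    x ∈ LinearMap.range ((al L (next K) n).comp (incZ L n K)) := by
  rw [ker_incH'] at h2
  obtain ⟨u, rfl⟩ := h2
  obtain ⟨y, hy⟩ := h1
  have h3 : PhiE L K n (n + 1) rfl (dT L K n (n + 1) rfl u) = 0 := by
    rw [← projH_al]
    exact (congrArg _ hy.symm).trans (projH_incH L K n y)
  obtain ⟨v, hv⟩ := exists_incZ L n K u ((map_eq_zero_iff _ (PhiE_injective L K n (n + 1) rfl)).1 h3)
  exact ⟨v, by rw [LinearMap.comp_apply, hv]⟩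

theorem isSubquotient_ker {R : Type u} [CommRing R] {Z T X H : Type u} [AddCommMonoid Z] [Module R Z]
    [AddCommGroup T] [Module R T] [AddCommGroup X] [Module R X] [AddCommGroup H] [Module R H]
    (a : Z →ₗ[R] H) (ψ : Z →ₗ[R] T) (hψ : LinearMap.ker ψ ≤ LinearMap.ker a) (f : X →ₗ[R] H)
    (P Q : Submodule R X) (hQ : Q = LinearMap.ker f) (hI : ∀ x ∈ P, f x ∈ LinearMap.range a) :
    HTor.IsSubquotient R (↥P ⧸ Submodule.comap P.subtype Q) T := by
  subst hQ
  refine isSubquotient_of_maps (Z := ↥(LinearMap.range (ψ.prod a)))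
    ((LinearMap.snd R T H).comp (Submodule.subtype _)) ((LinearMap.fst R T H).comp (Submodule.subtype _))
    ?_ ((Submodule.comap P.subtype (LinearMap.ker f)).liftQ
    (f.comp P.subtype) (LinearMap.ker_comp _ _).ge) ?_ ?_
  · rintro ⟨_, z, rfl⟩ hz
    exact hψ (show ψ z = 0 from hz)
  · rw [← LinearMap.ker_eq_bot]
    exact Submodule.ker_liftQ_eq_bot _ _ _ (LinearMap.ker_comp _ _).le
  · rw [Submodule.range_liftQ]
    rintro _ ⟨x, rfl⟩
    obtain ⟨z, hz⟩ := hI x.1 x.2
    exact ⟨⟨_, z, rfl⟩, hz⟩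

theorem F_eq (p : ℕ) : F L M n p = LinearMap.ker ((incH L (N M p) n).comp (g L M n p)) := rfl

theorem map_F_le (p : ℕ) (x : (L ⊗ M).homology n) (hx : x ∈ F L M n (p + 1)) :
    (incH L (N M p) n).comp (g L M n p) x ∈
      LinearMap.range ((al L (next (N M p)) n).comp (incZ L n (N M p))) :=
  mem_range_alZ L n (N M p) _ ⟨g L M n p x, rfl⟩ hx

theorem isSubquotient_gr (p : ℕ) :
    HTor.IsSubquotient A (HTor.grSucc (F L M n) p) (HTor.TorSum L M n (p + 1)) := by
  obtain ⟨ψ, hψ⟩ := exists_psi L M n p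
  exact isSubquotient_ker ((al L (next (N M p)) n).comp (incZ L n (N M p))) ψ hψ
    ((incH L (N M p) n).comp (g L M n p)) (F L M n (p + 1)) (F L M n p) (F_eq L M n p)
    (map_F_le L M n p)

end Groth.Agent.HTor95.Filt
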