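import Groth.Agent.HTor95.Te
import Mathlib.RingTheory.Flat.Basic
import Mathlib.LinearAlgebra.TensorProduct.RightExactness

/-!
# Künneth for a complex of flat modules with zero differential
-/

universe u

open CategoryTheory CategoryTheory.Limits MonoidalCategory
open scoped TensorProduct

namespace Groth.Agent.HTor95.ZeroDiff

open DRing.Tensor DRing.Homology Te

variable {A : Type u} [CommRing A] (L P : CochainComplex (ModuleCat.{u} A) ℤ)

/-- The cocycles of `L`. -/
noncomputable abbrev Z (i : ℤ) : Submodule A (L.X i) := LinearMap.ker (L.d i (i + 1)).hom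

/-- The class map. -/
noncomputable def clsL (i : ℤ) : Z L i →ₗ[A] L.homology i where
  toFun z := cls z.1 (show IsCyc L i z.1 from z.2)
  map_add' z w := cls_add (show IsCyc L i z.1 from z.2) (show IsCyc L i w.1 from w.2)
  map_smul' c z := cls_smul (show IsCyc L i z.1 from z.2) c

theorem clsL_surjective (i : ℤ) : Function.Surjective (clsL L i) := fun a => by
  obtain ⟨z, hz, rfl⟩ := cls_surjective a
  exact ⟨⟨z, hz⟩, rfl⟩

theorem ιT_comp_self (i q n : ℤ) (h : i + q = n) (t : L.X i ⊗[A] P.X q) :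
    comp L P i q n h ((ιT L P i q n h).hom t) = t := by
  induction t using TensorProduct.induction_on with
  | zero => erw [map_zero, map_zero]
  | tmul x y => exact comp_te_self i q n h x y
  | add a b ha hb => erw [map_add, map_add, ha, hb]

variable {L P} (hd : ∀ i j, P.d i j = 0)
include hd

theorem d_te0 (p q n n' : ℤ) (h : p + q = n) (hn : n + 1 = n') (x : L.X p) (y : P.X q) :
    ((L ⊗ P).d n n').hom (te L P p q n h x y) =
      te L P (p + 1) q n' (by omega) ((L.d p (p + 1)).hom x) y := by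
  rw [d_te p q n n' h hn, hd q (q + 1)]
  simp

theorem comp_d (i q n m : ℤ) (hm : n + 1 = m) (h : i + q = n) (h' : i + 1 + q = m)
    (w : (L ⊗ P).X n) :
    comp L P (i + 1) q m h' (((L ⊗ P).d n m).hom w) =
      (L.d i (i + 1)).hom.rTensor (P.X q) (comp L P i q n h w) := by
  induction w using te_induction with
  | zero => simp only [map_zero]
  | add a b ha hb => simp only [map_add, ha, hb]
  | te p q' hp x y =>
    rw [d_te0 hd p q' n m hp hm]
    by_cases e : p = i
    · subst e
      obtain rfl : q' = q := by omega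
      rw [comp_te_self, comp_te_self]; rfl
    · rw [comp_te_ne _ _ _ _ _ _ _ (by omega), comp_te_ne _ _ _ _ _ _ _ e, map_zero]

theorem isCyc_P (q : ℤ) (y : P.X q) : IsCyc P q y := by
  show (P.d q (q + 1)).hom y = 0
  rw [hd]; rfl

/-- The classes in `P`. -/
noncomputable def clsP (q : ℤ) : P.X q ≃ₗ[A] P.homology q :=
  LinearEquiv.ofBijective
    ({ toFun := fun y => cls y (isCyc_P hd q y)
       map_add' := fun y z => cls_add (isCyc_P hd q y) (isCyc_P hd q z)
       map_smul' := fun c y => cls_smul (isCyc_P hd q y) c } : P.X q →ₗ[A] P.homology q)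
    ⟨fun y z h => by
      obtain ⟨w, hw⟩ := (cls_eq_iff (q - 1) (sub_add_cancel q 1) _ _).1 h
      rw [hd] at hw
      exact sub_eq_zero.1 hw.symm,
    fun a => by obtain ⟨y, hy, rfl⟩ := cls_surjective a; exact ⟨y, rfl⟩⟩

/-- The cocycle attached to an element of `Z ⊗ P`. -/
theorem isCyc_ιT (i q n : ℤ) (h : i + q = n) (s : Z L i ⊗[A] P.X q) :
    IsCyc (L ⊗ P) n ((ιT L P i q n h).hom ((Z L i).subtype.rTensor (P.X q) s)) := by
  induction s using TensorProduct.induction_on with
  | zero => rw [map_zero]; erw [map_zero]; exact isCyc_zero n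
  | tmul z y => exact isCyc_te L P i q n h z.2 (isCyc_P hd q y)
  | add a b ha hb => rw [map_add]; erw [map_add]; exact ha.add hb

theorem kunneth_cls (i q n : ℤ) (h : i + q = n) (s : Z L i ⊗[A] P.X q) :
    kunneth L P n (DirectSum.lof A (HTor.Antidiag n) _ ⟨(i, q), h⟩
      (TensorProduct.map (clsL L i) (clsP hd q).toLinearMap s)) = cls _ (isCyc_ιT hd i q n h s) := by
  induction s using TensorProduct.induction_on with
  | zero =>
    rw [map_zero, map_zero, map_zero]
    exact ((cls_congr (by rw [map_zero]; exact map_zero _) _).trans (cls_zero n)).symm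
  | tmul z y => exact (kunneth_lof n ⟨(i, q), h⟩ _ _).trans (kB_cls L P i q n h z.2 (isCyc_P hd q y))
  | add a b ha hb =>
    rw [map_add, map_add, map_add, ha, hb, ← cls_add]
    exact cls_congr (by rw [map_add]; erw [map_add]) _

omit hd in
theorem exists_cyc_preimage (hP : ∀ q, Module.Flat A (P.X q)) (i q : ℤ) (t : L.X i ⊗[A] P.X q)
    (ht : (L.d i (i + 1)).hom.rTensor (P.X q) t = 0) :
    ∃ s : Z L i ⊗[A] P.X q, (Z L i).subtype.rTensor (P.X q) s = t := by
  have := hP q
  have hex : Function.Exact (Z L i).subtype (L.d i (i + 1)).hom := fun x =>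
    ⟨fun hx => ⟨⟨x, hx⟩, rfl⟩, by rintro ⟨z, rfl⟩; exact z.2⟩
  exact (Module.Flat.rTensor_exact (P.X q) hex t).1 ht

theorem kunneth_surjective (hP : ∀ q, Module.Flat A (P.X q)) (n : ℤ) :
    Function.Surjective (kunneth L P n) := by
  classical
  intro a
  obtain ⟨w, hw, rfl⟩ := cls_surjective a
  have key : ∀ k : {pq : ℤ × ℤ // pq.1 + pq.2 = n}, ∃ (u : HTor.KunnethSum L P n)
      (hc : IsCyc (L ⊗ P) n ((ιT L P k.1.1 k.1.2 n k.2).hom (comp L P k.1.1 k.1.2 n k.2 w))),
      kunneth L P n u = cls _ hc := by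
    rintro ⟨⟨i, q⟩, h⟩
    obtain ⟨s, hs⟩ := exists_cyc_preimage hP i q (comp L P i q n h w) (by
      rw [← comp_d hd i q n (n + 1) rfl h (by omega) w, show ((L ⊗ P).d n (n + 1)).hom w = 0 from hw,
        map_zero])
    refine ⟨_, ?_, (kunneth_cls hd i q n h s).trans (cls_congr (by rw [hs]) _)⟩
    rw [← hs]
    exact isCyc_ιT hd i q n h s
  have hsum : ∀ S : Finset {pq : ℤ × ℤ // pq.1 + pq.2 = n}, ∃ (u : HTor.KunnethSum L P n)
      (hc : IsCyc (L ⊗ P) n (∑ k ∈ S, (ιT L P k.1.1 k.1.2 n k.2).hom (comp L P k.1.1 k.1.2 n k.2 w))),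
      kunneth L P n u = cls _ hc := by
    intro S
    induction S using Finset.induction_on with
    | empty =>
      refine ⟨0, by rw [Finset.sum_empty]; exact isCyc_zero (K := L ⊗ P) n, ?_⟩
      rw [map_zero]
      exact ((cls_congr Finset.sum_empty _).trans (cls_zero n)).symm
    | @insert k S hk ih =>
      obtain ⟨u, hu, hu'⟩ := ih
      obtain ⟨v, hv, hv'⟩ := key k
      refine ⟨v + u, by rw [Finset.sum_insert hk]; exact hv.add hu, ?_⟩
      rw [map_add, hu', hv', ← cls_add]
      refine cls_congr ?_ _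
      rw [Finset.sum_insert hk]
  obtain ⟨u, hu, hu'⟩ := hsum ((toSum L P n).hom w).support
  refine ⟨u, hu'.trans (cls_congr ?_ _)⟩
  refine Eq.trans ?_ (congrArg (fun f => f.hom w) (sumIso L P n).hom_inv_id)
  show _ = (fromSum L P n).hom ((toSum L P n).hom w)
  conv_rhs => rw [← DirectSum.sum_support_of ((toSum L P n).hom w)]
  rw [map_sum]
  refine Finset.sum_congr rfl fun k _ => ?_
  rw [← DirectSum.lof_eq_of A, fromSum_lof]
  rfl

theorem kunneth_injective (hP : ∀ q, Module.Flat A (P.X q)) (n : ℤ) :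
    Function.Injective (kunneth L P n) := by
  classical
  rw [injective_iff_map_eq_zero]
  intro u hu
  have hπ : ∀ k : HTor.Antidiag n, Function.Surjective
      (TensorProduct.map (clsL L k.1.1) (clsP hd k.1.2).toLinearMap) := fun k =>
    TensorProduct.map_surjective (clsL_surjective L _) (clsP hd _).surjective
  choose s hs using fun k : HTor.Antidiag n => hπ k (u k)
  have hu' : u = ∑ k ∈ u.support, DirectSum.lof A (HTor.Antidiag n) _ k (u k) := by
    conv_lhs => rw [← DirectSum.sum_support_of u]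
    rfl
  have hsum : ∀ S : Finset (HTor.Antidiag n), ∃ (hc : IsCyc (L ⊗ P) n
        (∑ k ∈ S, (ιT L P k.1.1 k.1.2 n k.2).hom ((Z L k.1.1).subtype.rTensor _ (s k)))),
      kunneth L P n (∑ k ∈ S, DirectSum.lof A (HTor.Antidiag n) _ k (u k)) = cls _ hc := by
    intro S
    induction S using Finset.induction_on with
    | empty =>
      refine ⟨by rw [Finset.sum_empty]; exact isCyc_zero (K := L ⊗ P) n, ?_⟩
      rw [Finset.sum_empty, map_zero]
      exact ((cls_congr Finset.sum_empty _).trans (cls_zero n)).symm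
    | @insert k S hk ih =>
      obtain ⟨hc, ih⟩ := ih
      refine ⟨by rw [Finset.sum_insert hk]; exact (isCyc_ιT hd _ _ n k.2 (s k)).add hc, ?_⟩
      rw [Finset.sum_insert hk, map_add, ih, ← hs k, kunneth_cls hd _ _ n k.2 (s k), ← cls_add]
      refine cls_congr ?_ _
      rw [Finset.sum_insert hk]
  obtain ⟨hc, he⟩ := hsum u.support
  rw [← hu', hu] at he
  obtain ⟨v, hv⟩ := (cls_eq_zero_iff (n - 1) (sub_add_cancel n 1) hc).1 he.symm
  refine DFinsupp.ext fun k => ?_
  by_cases hk : k ∈ u.support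
  swap
  · exact DFinsupp.notMem_support_iff.1 hk
  obtain ⟨⟨i, q⟩, h⟩ := k
  obtain ⟨i', rfl⟩ : ∃ i', i = i' + 1 := ⟨i - 1, by omega⟩
  have hcomp := congrArg (comp L P (i' + 1) q n h) hv
  rw [comp_d hd i' q (n - 1) n (sub_add_cancel n 1) (by omega) h v, map_sum,
    Finset.sum_eq_single (⟨(i' + 1, q), h⟩ : HTor.Antidiag n)
      (fun k _ hne => by
        generalize (Z L k.1.1).subtype.rTensor (P.X k.1.2) (s k) = t
        induction t using TensorProduct.induction_on with
        | zero => erw [map_zero, map_zero]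
        | tmul x y =>
          exact comp_te_ne _ _ _ _ _ _ _ (fun e => hne (Subtype.ext (Prod.ext e (by
            have := k.2; have e' : k.1.1 = i' + 1 := e; show k.1.2 = q; omega)))) x y
        | add a b ha hb => erw [map_add, map_add, ha, hb]; exact add_zero _)
      (fun hn => (hn hk).elim), ιT_comp_self] at hcomp
  let dR : L.X i' →ₗ[A] Z L (i' + 1) :=
    (L.d i' (i' + 1)).hom.codRestrict _ fun x => isCyc_d i' (i' + 1) x
  have := hP q
  have hs' : s ⟨(i' + 1, q), h⟩ = dR.rTensor (P.X q) (comp L P i' q (n - 1) (by omega) v) := by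
    refine Module.Flat.rTensor_preserves_injective_linearMap (M := P.X q) (Z L (i' + 1)).subtype
      Subtype.val_injective ?_
    rw [← LinearMap.rTensor_comp_apply]
    exact hcomp.symm
  show u ⟨(i' + 1, q), h⟩ = 0
  rw [← hs, hs']
  generalize comp L P i' q (n - 1) _ v = t
  induction t using TensorProduct.induction_on with
  | zero => simp
  | tmul x y =>
    show clsL L (i' + 1) (dR x) ⊗ₜ[A] _ = 0
    rw [show clsL L (i' + 1) (dR x) = 0 from (cls_eq_zero_iff i' rfl _).2 ⟨x, rfl⟩,
      TensorProduct.zero_tmul]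
  | add a b ha hb => rw [map_add, map_add, ha, hb, add_zero]

end Groth.Agent.HTor95.ZeroDiff
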