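import Groth.Agent.HTor95.Seq
import Groth.Agent.HTor95.ZeroDiff

/-!
# The maps from sums of `H(L) ⊗ G`
-/

universe u

open CategoryTheory CategoryTheory.Limits MonoidalCategory
open scoped TensorProduct DirectSum

attribute [local instance] HasDerivedCategory.standard

namespace Groth.Agent.HTor95.Phi

open DRing.Tensor DRing.Homology Te Cone Seq

variable {A : Type u} [CommRing A] (L K : CochainComplex (ModuleCat.{u} A) ℤ)

/-- `⊕_{i+k=n} H^i L ⊗ G K k`. -/
abbrev GS (n : ℤ) : Type u := ⨁ ij : HTor.Antidiag n, L.homology ij.1.1 ⊗[A] G K ij.1.2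

/-- Reindexing towards the free part. -/
noncomputable def phi (n m : ℤ) (hm : n + 1 = m) : GS L K m →ₗ[A] HTor.KunnethSum L (E K) n :=
  DirectSum.toModule A _ _ fun ij =>
    (DirectSum.lof A (HTor.Antidiag n) (fun ij => L.homology ij.1.1 ⊗[A] (E K).homology ij.1.2)
      ⟨(ij.1.1, ij.1.2 - 1), by have := ij.2; show ij.1.1 + (ij.1.2 - 1) = n; omega⟩).comp
      ((eqE K (ij.1.2 - 1) ij.1.2 (sub_add_cancel _ _)).toLinearMap.lTensor _)

/-- Reindexing from the free part. -/
noncomputable def psi (n m : ℤ) (hm : n + 1 = m) : HTor.KunnethSum L (E K) n →ₗ[A] GS L K m :=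
  DirectSum.toModule A _ _ fun ij =>
    (DirectSum.lof A (HTor.Antidiag m) (fun ij => L.homology ij.1.1 ⊗[A] G K ij.1.2)
      ⟨(ij.1.1, ij.1.2 + 1), by have := ij.2; show ij.1.1 + (ij.1.2 + 1) = m; omega⟩).comp
      ((eqE K ij.1.2 (ij.1.2 + 1) rfl).symm.toLinearMap.lTensor _)

theorem phi_lof (n m : ℤ) (hm : n + 1 = m) (i r j : ℤ) (hr : r + 1 = j) (h : i + j = m)
    (a : L.homology i) (f : G K j) :
    phi L K n m hm (DirectSum.lof A (HTor.Antidiag m) _ ⟨(i, j), h⟩ (a ⊗ₜ[A] f)) =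
      DirectSum.lof A (HTor.Antidiag n) _ ⟨(i, r), by omega⟩ (a ⊗ₜ[A] eqE K r j hr f) := by
  obtain rfl : r = j - 1 := by omega
  rw [phi]
  erw [DirectSum.toModule_lof]
  rfl

theorem psi_lof (n m : ℤ) (hm : n + 1 = m) (i r j : ℤ) (hr : r + 1 = j) (h : i + r = n)
    (a : L.homology i) (f : G K j) :
    psi L K n m hm (DirectSum.lof A (HTor.Antidiag n) _ ⟨(i, r), h⟩ (a ⊗ₜ[A] eqE K r j hr f)) =
      DirectSum.lof A (HTor.Antidiag m) _ ⟨(i, j), by omega⟩ (a ⊗ₜ[A] f) := by
  subst hr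
  rw [psi]
  erw [DirectSum.toModule_lof]
  rw [LinearMap.comp_apply, LinearMap.lTensor_tmul, LinearEquiv.coe_coe, LinearEquiv.symm_apply_apply]

theorem psi_phi (n m : ℤ) (hm : n + 1 = m) (u : GS L K m) : psi L K n m hm (phi L K n m hm u) = u := by
  suffices h : (psi L K n m hm).comp (phi L K n m hm) = LinearMap.id from LinearMap.congr_fun h u
  refine DirectSum.linearMap_ext A fun ⟨⟨i, j⟩, h⟩ => TensorProduct.ext' fun a f => ?_
  simp only [LinearMap.comp_apply, LinearMap.id_apply]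
  rw [phi_lof L K n m hm i (j - 1) j (sub_add_cancel _ _) h,
    psi_lof L K n m hm i (j - 1) j (sub_add_cancel _ _)]

theorem phi_psi (n m : ℤ) (hm : n + 1 = m) (u : HTor.KunnethSum L (E K) n) :
    phi L K n m hm (psi L K n m hm u) = u := by
  suffices h : (phi L K n m hm).comp (psi L K n m hm) = LinearMap.id from LinearMap.congr_fun h u
  refine DirectSum.linearMap_ext A fun ⟨⟨i, r⟩, h⟩ => TensorProduct.ext' fun a b => ?_
  obtain ⟨f, rfl⟩ := (eqE K r (r + 1) rfl).surjective b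
  simp only [LinearMap.comp_apply, LinearMap.id_apply]
  rw [psi_lof L K n m hm i r (r + 1) rfl h, phi_lof L K n m hm i r (r + 1) rfl]

theorem flat_E (q : ℤ) : Module.Flat A ((E K).X q) :=
  inferInstanceAs (Module.Flat A (G K (q + 1)))

/-- The identification `⊕ H^i L ⊗ G K k ≃ H(L ⊗ E K)`. -/
noncomputable def PhiE (n m : ℤ) (hm : n + 1 = m) : GS L K m →ₗ[A] (L ⊗ E K).homology n :=
  (kunneth L (E K) n).comp (phi L K n m hm)

theorem PhiE_injective (n m : ℤ) (hm : n + 1 = m) : Function.Injective (PhiE L K n m hm) := by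
  rw [PhiE, LinearMap.coe_comp]
  exact (ZeroDiff.kunneth_injective (E_d K) (flat_E K) n).comp
    (Function.LeftInverse.injective (psi_phi L K n m hm))

theorem PhiE_surjective (n m : ℤ) (hm : n + 1 = m) : Function.Surjective (PhiE L K n m hm) := by
  rw [PhiE, LinearMap.coe_comp]
  exact (ZeroDiff.kunneth_surjective (E_d K) (flat_E K) n).comp
    (Function.LeftInverse.surjective (phi_psi L K n m hm))

/-- Koszul signs. -/
noncomputable def sgn (n : ℤ) : GS L K n →ₗ[A] GS L K n :=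
  DirectSum.lmap fun ij => sg A ij.1.1 • LinearMap.id

theorem sgn_lof (n : ℤ) (ij : HTor.Antidiag n) (x : L.homology ij.1.1 ⊗[A] G K ij.1.2) :
    sgn L K n (DirectSum.lof A _ _ ij x) = sg A ij.1.1 • DirectSum.lof A _ _ ij x := by
  rw [sgn, DirectSum.lmap_lof, LinearMap.smul_apply, LinearMap.id_apply, map_smul]

theorem sgn_sgn (n : ℤ) (u : GS L K n) : sgn L K n (sgn L K n u) = u := by
  suffices h : (sgn L K n).comp (sgn L K n) = LinearMap.id from LinearMap.congr_fun h u
  refine DirectSum.linearMap_ext A fun ij => LinearMap.ext fun x => ?_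
  simp only [LinearMap.comp_apply, LinearMap.id_apply]
  rw [sgn_lof, map_smul, sgn_lof]
  rw [smul_smul, sg_mul_self, one_smul]

/-- `u ↦ ∑ [z] ⊗ eps f`. -/
noncomputable def epsT (n : ℤ) : GS L K n →ₗ[A] HTor.KunnethSum L K n :=
  DirectSum.lmap fun ij => (eps K ij.1.2).lTensor _

theorem epsT_lof (n : ℤ) (ij : HTor.Antidiag n) (a : L.homology ij.1.1) (f : G K ij.1.2) :
    epsT L K n (DirectSum.lof A _ _ ij (a ⊗ₜ[A] f)) =
      DirectSum.lof A _ _ ij (a ⊗ₜ[A] eps K ij.1.2 f) := by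
  rw [epsT, DirectSum.lmap_lof, LinearMap.lTensor_tmul]

theorem epsT_surjective (n : ℤ) : Function.Surjective (epsT L K n) :=
  (DirectSum.lmap_surjective _).2 fun ij => LinearMap.lTensor_surjective _ (eps_surjective K ij.1.2)

/-- The composite with the Künneth map. -/
noncomputable def al (n : ℤ) : GS L K n →ₗ[A] (L ⊗ K).homology n :=
  (kunneth L K n).comp (epsT L K n)

theorem al_lof (n i k : ℤ) (h : i + k = n) (a : L.homology i) (f : G K k) :
    al L K n (DirectSum.lof A (HTor.Antidiag n) _ ⟨(i, k), h⟩ (a ⊗ₜ[A] f)) =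
      kB L K i k n h a (eps K k f) := by
  rw [al, LinearMap.comp_apply, epsT_lof, kunneth_lof]

theorem range_al (n : ℤ) : LinearMap.range (al L K n) = LinearMap.range (kunneth L K n) := by
  rw [al, LinearMap.range_comp_of_range_eq_top _ (LinearMap.range_eq_top.2 (epsT_surjective L K n))]

/-- The differential `⊕ H^i L ⊗ G (next K) k → ⊕ H^i L ⊗ G K (k+1)`. -/
noncomputable def dT (n m : ℤ) (hm : n + 1 = m) : GS L (next K) n →ₗ[A] GS L K m :=
  DirectSum.toModule A _ _ fun ij =>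
    (DirectSum.lof A (HTor.Antidiag m) (fun ij => L.homology ij.1.1 ⊗[A] G K ij.1.2)
      ⟨(ij.1.1, ij.1.2 + 1), by have := ij.2; show ij.1.1 + (ij.1.2 + 1) = m; omega⟩).comp
      ((dG K ij.1.2 (ij.1.2 + 1) rfl).lTensor _)

theorem dT_lof (n m : ℤ) (hm : n + 1 = m) (i r j : ℤ) (hr : r + 1 = j) (h : i + r = n)
    (x : L.homology i ⊗[A] G (next K) r) :
    dT L K n m hm (DirectSum.lof A (HTor.Antidiag n) _ ⟨(i, r), h⟩ x) =
      DirectSum.lof A (HTor.Antidiag m) _ ⟨(i, j), by omega⟩ ((dG K r j hr).lTensor _ x) := by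
  subst hr
  rw [dT]
  erw [DirectSum.toModule_lof]
  rfl

theorem projH_al (n m : ℤ) (hm : n + 1 = m) (u : GS L (next K) n) :
    projH L K n (al L (next K) n u) = PhiE L K n m hm (dT L K n m hm u) := by
  suffices h : (projH L K n).comp (al L (next K) n) = (PhiE L K n m hm).comp (dT L K n m hm) from
    LinearMap.congr_fun h u
  refine DirectSum.linearMap_ext A fun ⟨⟨i, r⟩, h⟩ => TensorProduct.ext' fun a f => ?_
  simp only [LinearMap.comp_apply]
  rw [al_lof, dT_lof L K n m hm i r (r + 1) rfl h, LinearMap.lTensor_tmul, PhiE, LinearMap.comp_apply,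
    phi_lof L K n m hm i r (r + 1) rfl, kunneth_lof, dG, LinearMap.comp_apply, pr, LinearMap.comp_apply,
    LinearEquiv.coe_coe, LinearEquiv.apply_symm_apply]
  exact kB_natural L (next K) i r n h (proj K) a _

theorem conn_PhiE (n m : ℤ) (hm : n + 1 = m) (u : GS L K m) :
    conn L K n m hm (PhiE L K n m hm u) = al L K m (sgn L K m u) := by
  suffices h : (conn L K n m hm).comp (PhiE L K n m hm) = (al L K m).comp (sgn L K m) from
    LinearMap.congr_fun h u
  refine DirectSum.linearMap_ext A fun ⟨⟨i, j⟩, h⟩ => TensorProduct.ext' fun a f => ?_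
  obtain ⟨r, rfl⟩ : ∃ r, j = r + 1 := ⟨j - 1, by omega⟩
  simp only [LinearMap.comp_apply]
  rw [sgn_lof, map_smul, al_lof, PhiE, LinearMap.comp_apply, phi_lof L K n m hm i r (r + 1) rfl h,
    kunneth_lof, eqE_apply]
  obtain ⟨x, hx, rfl⟩ := cls_surjective a
  rw [kB_cls L (E K) i r n _ hx (isCyc_E K r f), ← cls_lift, kB_cls L K i (r + 1) m h hx, ← cls_smul]
  refine (conn_cls L K n m hm _ _ ?_).trans (cls_congr (TT_te L K i r n m _ hm x f) _)
  rw [TT_te]
  exact (isCyc_te L K i (r + 1) m h hx (isCyc_lift K _ f)).smul _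

theorem range_conn (n m : ℤ) (hm : n + 1 = m) :
    LinearMap.range (conn L K n m hm) = LinearMap.range (al L K m) := by
  ext x
  constructor
  · rintro ⟨y, rfl⟩
    obtain ⟨u, rfl⟩ := PhiE_surjective L K n m hm y
    exact ⟨_, (conn_PhiE L K n m hm u).symm⟩
  · rintro ⟨u, rfl⟩
    exact ⟨_, (conn_PhiE L K n m hm (sgn L K m u)).trans (by rw [sgn_sgn])⟩

end Groth.Agent.HTor95.Phi
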