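import Groth.Agent.HTor95.Rg
import Groth.Agent.KFlat.ExtZero
import Groth.Agent.KFlat.DerivedFF
import Groth.Prelude.Def_ZClos
import Mathlib.Algebra.Homology.HomotopyCategory.MappingCocone
import Mathlib.AlgebraicGeometry.Morphisms.Separated

/-!
# Resolutions by direct images from affine opens

A finite affine covering gives every complex a resolution built by iterated mapping cocones from
the functors `M ↦ j_*(M|_U)`.
-/

set_option autoImplicit false

universe u

open CategoryTheory CategoryTheory.Limits AlgebraicGeometry DerivedCategory Pretriangulated TopologicalSpace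
open Groth.Agent.KFlat Groth.Agent.KFlat.RPush Groth.Agent.KFlat.QCohAcy Groth.Agent.KFlat.WeakKInj
open Groth.Agent.CohDerLib.QC (sec sec_comp sec_zero eq_zero_of_basis qcoh_iso qcoh_of_isZero)
open Groth.Agent.QCoh (sectionsFunctor)
open Groth.Agent.HTor95.Rg
open scoped ZeroObject

attribute [local instance] HasDerivedCategory.standard

namespace Groth.Agent.HTor95.Piece

section Pretriangulated

variable {D : Type*} [Category D] [Preadditive D] [HasZeroObject D] [HasShift D ℤ]
  [∀ n : ℤ, (shiftFunctor D n).Additive] [Pretriangulated D]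

/-- the fibre of a map out of a sum which is invertible on one summand is the other summand -/
theorem isIso_mor₁_comp (T : Triangle D) (hT : T ∈ distinguishedTriangles) {P R : D} (i₁ : P ⟶ T.obj₂)
    (i₂ : R ⟶ T.obj₂) (p₁ : T.obj₂ ⟶ P) (p₂ : T.obj₂ ⟶ R) (h₁ : i₁ ≫ p₁ = 𝟙 P) (h₂ : i₂ ≫ p₁ = 0)
    (ht : p₁ ≫ i₁ + p₂ ≫ i₂ = 𝟙 T.obj₂) [IsIso (i₂ ≫ T.mor₂)] : IsIso (T.mor₁ ≫ p₁) := by
  have h3 : T.mor₃ = 0 := by
    have : Epi T.mor₂ := epi_of_epi i₂ T.mor₂
    rw [← cancel_epi T.mor₂, comp_zero]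
    exact comp_distTriang_mor_zero₂₃ T hT
  have : Mono T.mor₁ := Triangle.mono₁ T hT h3
  let q : P ⟶ T.obj₂ := i₁ - i₁ ≫ T.mor₂ ≫ inv (i₂ ≫ T.mor₂) ≫ i₂
  have hq : q ≫ T.mor₂ = 0 := by simp [q]
  obtain ⟨r, hr⟩ := Triangle.coyoneda_exact₂ T hT q hq
  have e1 : r ≫ T.mor₁ ≫ p₁ = 𝟙 P := by
    rw [← Category.assoc, ← hr]
    simp [q, h₁, h₂]
  refine ⟨r, ?_, e1⟩
  rw [← cancel_mono T.mor₁, Category.assoc, Category.assoc, ← hr, Category.id_comp]
  have h0 := comp_distTriang_mor_zero₁₂ T hT
  have e2 : T.mor₁ = T.mor₁ ≫ p₁ ≫ i₁ + T.mor₁ ≫ p₂ ≫ i₂ := by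
    rw [← Preadditive.comp_add, ht, Category.comp_id]
  have e3 : T.mor₁ ≫ p₂ ≫ i₂ ≫ T.mor₂ = -(T.mor₁ ≫ p₁ ≫ i₁ ≫ T.mor₂) := by
    have := congrArg (· ≫ T.mor₂) e2
    simp only [h0, Preadditive.add_comp, Category.assoc] at this
    exact eq_neg_of_add_eq_zero_right this.symm
  have e4 : T.mor₁ ≫ p₂ = -(T.mor₁ ≫ p₁ ≫ i₁ ≫ T.mor₂ ≫ inv (i₂ ≫ T.mor₂)) := by
    rw [← cancel_mono (i₂ ≫ T.mor₂), Category.assoc, e3]
    simp [Category.assoc]
  calc T.mor₁ ≫ p₁ ≫ q = T.mor₁ ≫ p₁ ≫ i₁ + (-(T.mor₁ ≫ p₁ ≫ i₁ ≫ T.mor₂ ≫ inv (i₂ ≫ T.mor₂))) ≫ i₂ := by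
        simp [q, sub_eq_add_neg]
    _ = T.mor₁ := by rw [← e4, Category.assoc]; exact e2.symm

end Pretriangulated

variable {A : Type u} [CommRing A] {X : Scheme.{u}} (f : X ⟶ Spec (CommRingCat.of A))

/-- an affine diagonal gives quasi-separatedness -/
theorem quasiSeparated_of_affineDiag [IsAffineHom (pullback.diagonal f)] : QuasiSeparated f :=
  ⟨inferInstance⟩

/-- affine diagonals pass to fibre products -/
theorem affineDiag_comp {S X Y Z : Scheme.{u}} {f : X ⟶ S} {g : Y ⟶ S} {p : Z ⟶ X} {q : Z ⟶ Y}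
    (hc : IsPullback p q f g) [hf : IsAffineHom (pullback.diagonal f)] [hg : IsAffineHom (pullback.diagonal g)] :
    IsAffineHom (pullback.diagonal (p ≫ f)) := by
  have : MorphismProperty.IsStableUnderComposition (C := Scheme.{u}) @IsAffineHom :=
    ⟨fun {_ _ _} a b (_ : IsAffineHom a) (_ : IsAffineHom b) => (inferInstance : IsAffineHom (a ≫ b))⟩
  have : MorphismProperty.RespectsIso (C := Scheme.{u}) @IsAffineHom :=
    MorphismProperty.respectsIso_of_isStableUnderComposition fun {_ _} a (_ : IsIso a) =>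
      (inferInstance : IsAffineHom a)
  have : (MorphismProperty.diagonal (C := Scheme.{u}) @IsAffineHom).IsStableUnderBaseChange :=
    MorphismProperty.IsStableUnderBaseChange.diagonal (P := @IsAffineHom)
  have : (MorphismProperty.diagonal (C := Scheme.{u}) @IsAffineHom).IsStableUnderComposition :=
    MorphismProperty.diagonal_isStableUnderComposition (P := @IsAffineHom)
  have hp : MorphismProperty.diagonal (C := Scheme.{u}) @IsAffineHom p :=
    MorphismProperty.of_isPullback (P := MorphismProperty.diagonal (C := Scheme.{u}) @IsAffineHom) hc.flip hg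
  exact MorphismProperty.comp_mem (W := MorphismProperty.diagonal (C := Scheme.{u}) @IsAffineHom) p f hp hf

/-- affine diagonals pass to base changes -/
theorem affineDiag_of_isPullback {S X Y Z : Scheme.{u}} {f : X ⟶ S} {g : Y ⟶ S} {p : Z ⟶ X} {q : Z ⟶ Y}
    (hc : IsPullback p q f g) [hf : IsAffineHom (pullback.diagonal f)] :
    IsAffineHom (pullback.diagonal q) := by
  have : MorphismProperty.IsStableUnderComposition (C := Scheme.{u}) @IsAffineHom :=
    ⟨fun {_ _ _} a b (_ : IsAffineHom a) (_ : IsAffineHom b) => (inferInstance : IsAffineHom (a ≫ b))⟩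
  have : MorphismProperty.RespectsIso (C := Scheme.{u}) @IsAffineHom :=
    MorphismProperty.respectsIso_of_isStableUnderComposition fun {_ _} a (_ : IsIso a) =>
      (inferInstance : IsAffineHom a)
  have : (MorphismProperty.diagonal (C := Scheme.{u}) @IsAffineHom).IsStableUnderBaseChange :=
    MorphismProperty.IsStableUnderBaseChange.diagonal (P := @IsAffineHom)
  exact MorphismProperty.of_isPullback (P := MorphismProperty.diagonal (C := Scheme.{u}) @IsAffineHom) hc hf

include f in
/-- in a separated scheme over an affine base affine opens meet in affine opens -/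
theorem isAffineOpen_inf [IsAffineHom (pullback.diagonal f)] {U V : X.Opens} (hU : IsAffineOpen U) (hV : IsAffineOpen V) :
    IsAffineOpen (U ⊓ V) :=
  (isAffineHom_diagonal_iff.mp (inferInstance : IsAffineHom (pullback.diagonal f))) ⊤
    (isAffineOpen_top _) U le_top V le_top hU hV

/-- the trace of the inverse image of an affine open on an affine open is affine -/
theorem isAffineOpen_inf_preimage {V : X.Opens} (hV : IsAffineOpen V)
    {W : (Spec (CommRingCat.of A)).Opens} (hW : IsAffineOpen W) : IsAffineOpen (V ⊓ f ⁻¹ᵁ W) := by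
  have : IsAffine V.toScheme := hV
  rw [← ZClos.ι_image_preimage]
  exact ((hW.preimage (V.ι ≫ f))).image_of_isOpenImmersion V.ι

/-- `j_*(M|_U)` -/
noncomputable abbrev ECx (U : X.Opens) : CochainComplex X.Modules ℤ ⥤ CochainComplex X.Modules ℤ :=
  (ZClos.resPush U).mapHomologicalComplex (ComplexShape.up ℤ)

/-- the unit on complexes -/
noncomputable abbrev ηCx (U : X.Opens) : 𝟭 (CochainComplex X.Modules ℤ) ⟶ ECx U :=
  (Functor.mapHomologicalComplexIdIso X.Modules (ComplexShape.up ℤ)).inv ≫
    NatTrans.mapHomologicalComplex (ZClos.resPushUnit U) (ComplexShape.up ℤ)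

/-- sections of `j_*(M|_U)` -/
noncomputable def secIso (U W : X.Opens) :
    ZClos.resPush U ⋙ sectionsFunctor X W ≅ sectionsFunctor X (U ⊓ W) :=
  NatIso.ofComponents (fun M => M.presheaf.mapIso (eqToIso (ZClos.ι_image_preimage U W).symm).op)
    fun {M N} φ => (φ.mapPresheaf.naturality _).symm

/-- sections of `j_*(K|_U)`, for complexes -/
noncomputable def secCxIso (U W : X.Opens) : ECx U ⋙ secCx W ≅ secCx (U ⊓ W) :=
  NatIso.ofComponents
    (fun K => HomologicalComplex.Hom.isoOfComponents (fun n => (secIso U W).app (K.X n))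
      fun i j _ => ((secIso U W).hom.naturality (K.d i j)).symm)
    fun {K L} φ => HomologicalComplex.hom_ext _ _ fun n => (secIso U W).hom.naturality (φ.f n)

/-- over opens inside `U` the unit is invertible on sections -/
theorem isIso_unit_sec {U W : X.Opens} (h : W ≤ U) (K : CochainComplex X.Modules ℤ) :
    IsIso ((secCx W).map ((ηCx U).app K)) := by
  have : ∀ n, IsIso (((secCx W).map ((ηCx U).app K)).f n) := fun n => by
    have e : U.ι ''ᵁ U.ι ⁻¹ᵁ W = W := by rw [ZClos.ι_image_preimage, inf_eq_right.mpr h]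
    have h1 : IsIso (((ZClos.resPushUnit U).app (K.X n)).app W) := by
      rw [ZClos.resPushUnit_app_app]
      refine @Functor.map_isIso _ _ _ _ _ _ _ _ ?_
      refine @isIso_op _ _ _ _ _ ?_
      exact ⟨homOfLE e.ge, Subsingleton.elim _ _, Subsingleton.elim _ _⟩
    have h2 : ((secCx W).map ((ηCx U).app K)).f n = ((ZClos.resPushUnit U).app (K.X n)).app W := by
      simp [ηCx]
      rfl
    rw [h2]
    exact h1
  exact HomologicalComplex.Hom.isIso_of_components _

/-- exactness can be tested on sections over small affine opens -/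
theorem exactAt_of_secCx {ι : Type*} (B : ι → X.Opens)
    (hB : ∀ (U : X.Opens) (x : X), x ∈ U → ∃ i, x ∈ B i ∧ B i ≤ U)
    (C : CochainComplex X.Modules ℤ) (m : ℤ) (h : ∀ i, ((secCx (B i)).obj C).ExactAt m) : C.ExactAt m := by
  rw [HomologicalComplex.exactAt_iff_isZero_homology]
  refine IsZero.of_epi_eq_zero (C.homologyπ m) (eq_zero_of_basis B hB _ fun i g => ?_)
  let u := g ≫ C.iCycles m
  have hex := h i
  rw [HomologicalComplex.exactAt_iff' _ (m - 1) m (m + 1) (by simp) (by simp), ShortComplex.ab_exact_iff] at hex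
  have hu : (C.d m (m + 1)).app (B i) (sec (B i) _ u) = 0 := by
    rw [← sec_comp, show u ≫ C.d m (m + 1) = 0 by simp [u], sec_zero]
  obtain ⟨w, hw⟩ := hex (sec (B i) _ u) hu
  have hg : g = (sec (B i) _).symm w ≫ C.toCycles (m - 1) m := by
    rw [← cancel_mono (C.iCycles m), Category.assoc, C.toCycles_i]
    apply (sec (B i) _).injective
    rw [sec_comp _ ((sec (B i) _).symm w), Equiv.apply_symm_apply]
    exact hw.symm
  rw [hg, Category.assoc, C.toCycles_comp_homologyπ, comp_zero]

/-- quasi-isomorphisms can be tested on sections over small affine opens -/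
theorem quasiIso_of_secCx {ι : Type*} (B : ι → X.Opens)
    (hB : ∀ (U : X.Opens) (x : X), x ∈ U → ∃ i, x ∈ B i ∧ B i ≤ U)
    {K L : CochainComplex X.Modules ℤ} (φ : K ⟶ L) (h : ∀ i, QuasiIso ((secCx (B i)).map φ)) :
    QuasiIso φ := by
  refine quasiIso_of_acyclic_mappingCone _ fun m => exactAt_of_secCx B hB _ m fun i => ?_
  have := h i
  rw [HomologicalComplex.exactAt_iff_isZero_homology]
  exact ((HomologicalComplex.exactAt_iff_isZero_homology _ _).1
    (acyclic_mappingCone_of_quasiIso ((secCx (B i)).map φ) m)).of_iso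
      ((HomologicalComplex.homologyFunctor _ _ m).mapIso
        (CochainComplex.mappingCone.mapHomologicalComplexIso φ (sectionsFunctor X (B i))))

/-- affine opens form a basis -/
lemma affine_basis (U : X.Opens) (x : X) (hx : x ∈ U) : ∃ B : X.affineOpens, x ∈ B.1 ∧ B.1 ≤ U :=
  let ⟨B, hB, hxB, hBU⟩ := exists_isAffineOpen_mem_and_subset (x := x) (U := U) hx
  ⟨⟨B, hB⟩, hxB, hBU⟩

/-- `j_*j^*` preserves K-injective complexes -/
theorem isKInjective_ECx (U : X.Opens) (I : CochainComplex X.Modules ℤ) [I.IsKInjective] :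
    ((ECx U).obj I).IsKInjective :=
  Groth.Agent.S0481.result _ _ (Scheme.Modules.restrictAdjunction U.ι) ((DCoh.restrictCx U).obj I)
    (ExtZero.isKInjective_restrict U I)

/-- the inclusion of an affine open is affine -/
theorem isAffineHom_ι [IsAffineHom (pullback.diagonal f)] {U : X.Opens} (hU : IsAffineOpen U) : IsAffineHom U.ι :=
  ⟨fun W hW => by
    refine (U.ι.isAffineOpen_iff_of_isOpenImmersion).1 ?_
    rw [ZClos.ι_image_preimage]
    exact isAffineOpen_inf f hU hW⟩

/-- `j_*j^*` preserves quasi-coherence -/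
theorem qcoh_resPush [IsAffineHom (pullback.diagonal f)] {U : X.Opens} (hU : IsAffineOpen U) (M : X.Modules)
    (hM : M.IsQuasicoherent) : ((ZClos.resPush U).obj M).IsQuasicoherent := by
  have := isAffineHom_ι f hU
  have := @Scheme.Modules.isQuasicoherent_restrictFunctor _ _ U.ι _ M hM
  exact Groth.Agent.QCoh.isQuasicoherent_pushforward U.ι ((Scheme.Modules.restrictFunctor U.ι).obj M)

/-- `j_*j^*` of a quasi-coherent resolution is a resolution -/
theorem quasiIso_ECx_map [IsAffineHom (pullback.diagonal f)] {U : X.Opens} (hU : IsAffineOpen U)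
    (P : CochainComplex X.Modules ℤ) (hP : ∀ i, (P.X i).IsQuasicoherent)
    {I : CochainComplex X.Modules ℤ} [I.IsKInjective] (s : P ⟶ I) [QuasiIso s] :
    QuasiIso ((ECx U).map s) := by
  refine quasiIso_of_secCx (fun B : X.affineOpens => B.1) affine_basis _ fun B => ?_
  have := quasiIso_secCx P hP s (isAffineOpen_inf f hU B.2)
  have e := Arrow.isoMk' ((secCx B.1).map ((ECx U).map s)) ((secCx (U ⊓ B.1)).map s)
    ((secCxIso U B.1).app P) ((secCxIso U B.1).app I) ((secCxIso U B.1).hom.naturality s).symm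
  exact (quasiIso_iff_of_arrow_mk_iso _ _ e).2 this

/-- a quasi-isomorphism of K-injective complexes stays one on sections -/
theorem quasiIso_secCx_of_isKInjective {I J : CochainComplex X.Modules ℤ} [I.IsKInjective] [J.IsKInjective]
    (t : I ⟶ J) [QuasiIso t] (W : X.Opens) : QuasiIso ((secCx W).map t) := by
  have hT := HomotopyCategory.mappingCone_triangleh_distinguished t
  let q := HomotopyCategory.quotient X.Modules (ComplexShape.up ℤ)
  have hQt : IsIso (DerivedCategory.Q.map t) := (DerivedCategory.isIso_Q_map_iff_quasiIso _ _).2 inferInstance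
  have hbij := fun K => CochainComplex.IsKInjective.Qh_map_bijective (q.obj K) I
  have : IsIso (q.map t) := by
    have h1 : IsIso (DerivedCategory.Qh.map (q.map t)) :=
      (NatIso.isIso_map_iff (DerivedCategory.quotientCompQhIso X.Modules) t).2 hQt
    obtain ⟨r, hr⟩ := (CochainComplex.IsKInjective.Qh_map_bijective (q.obj J) I).2
      (inv (DerivedCategory.Qh.map (q.map t)))
    refine ⟨r, ?_, ?_⟩
    · exact (CochainComplex.IsKInjective.Qh_map_bijective _ I).1
        (by rw [Functor.map_comp, hr, IsIso.hom_inv_id, CategoryTheory.Functor.map_id])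
    · exact (CochainComplex.IsKInjective.Qh_map_bijective _ J).1
        (by rw [Functor.map_comp, hr, IsIso.inv_hom_id, CategoryTheory.Functor.map_id])
  rw [← HomologicalComplex.mem_quasiIso_iff, ← HomotopyCategory.quotient_map_mem_quasiIso_iff,
    ]
  have : IsIso ((HomotopyCategory.quotient AddCommGrpCat.{u} (ComplexShape.up ℤ)).map ((secCx W).map t)) :=
    (NatIso.isIso_map_iff ((sectionsFunctor X W).mapHomotopyCategoryFactors (ComplexShape.up ℤ)) t).1
      (inferInstanceAs (IsIso (((sectionsFunctor X W).mapHomotopyCategory (ComplexShape.up ℤ)).map (q.map t))))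
  exact MorphismProperty.of_isIso _ _

/-- pieces: iterated sums of direct images of quasi-coherent modules from affine opens -/
inductive IsPiece : X.Modules → Prop
  | push {U : X.Opens} (hU : IsAffineOpen U) {M : X.Modules} (hM : M.IsQuasicoherent) :
      IsPiece ((ZClos.resPush U).obj M)
  | zero {M : X.Modules} (h : IsZero M) : IsPiece M
  | biprod {M N : X.Modules} (hM : IsPiece M) (hN : IsPiece N) : IsPiece (M ⊞ N)
  | iso {M N : X.Modules} (e : M ≅ N) (hM : IsPiece M) : IsPiece N

theorem qcoh_biprod {M N : X.Modules} (hM : M.IsQuasicoherent) (hN : N.IsQuasicoherent) :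
    (M ⊞ N).IsQuasicoherent :=
  @Groth.Agent.QCoh.isQuasicoherent_X₂ _ (ShortComplex.mk biprod.inl biprod.snd biprod.inl_snd)
    (ShortComplex.Splitting.ofHasBinaryBiproduct M N).shortExact hM hN

theorem IsPiece.qcoh [IsAffineHom (pullback.diagonal f)] {M : X.Modules} (h : IsPiece M) : M.IsQuasicoherent := by
  induction h with
  | push hU hM => exact qcoh_resPush f hU _ hM
  | zero h => exact qcoh_of_isZero h
  | biprod _ _ h₁ h₂ => exact qcoh_biprod h₁ h₂
  | iso e _ h => exact qcoh_iso e h

/-- pushforwards from affine opens are acyclic -/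
theorem acy_resPush [IsAffineHom (pullback.diagonal f)] [HasInjectiveResolutions X.Modules] {U : X.Opens}
    (hU : IsAffineOpen U) (M : X.Modules) (hM : M.IsQuasicoherent) :
    CohDerLib.Acyclic.Acy (Scheme.Modules.pushforward f) ((ZClos.resPush U).obj M) := by
  intro i hi
  let N := (ZClos.resPush U).obj M
  obtain ⟨R⟩ := (inferInstance : HasInjectiveResolution N).out
  let S := (CochainComplex.singleFunctor X.Modules 0).obj N
  have hS : ∀ j, (S.X j).IsQuasicoherent := fun j => by
    by_cases hj : j = 0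
    · subst hj
      exact qcoh_iso (HomologicalComplex.singleObjXSelf (ComplexShape.up ℤ) 0 N).symm (qcoh_resPush f hU M hM)
    · exact qcoh_of_isZero (HomologicalComplex.isZero_single_obj_X _ _ _ _ hj)
  have := isKInjective_ECx U R.cochainComplex
  have h1 : QuasiIso ((ECx U).map R.ι') := quasiIso_ECx_map f hU S hS R.ι'
  have h2 : IsIso ((ηCx U).app S) := by
    have : ∀ j, IsIso (((ηCx U).app S).f j) := fun j => by
      have e : ((ηCx U).app S).f j = (ZClos.resPushUnit U).app (S.X j) := Category.id_comp _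
      rw [e]
      by_cases hj : j = 0
      · subst hj
        have := ZClos.isIso_unit_resPush (le_refl U) M
        exact (NatTrans.isIso_app_iff_of_iso (ZClos.resPushUnit U)
          (HomologicalComplex.singleObjXSelf (ComplexShape.up ℤ) 0 N)).2 this
      · have hz := HomologicalComplex.isZero_single_obj_X (ComplexShape.up ℤ) 0 N j hj
        exact ⟨0, hz.eq_of_src _ _, ((ZClos.resPush U).map_isZero hz).eq_of_src _ _⟩
    exact HomologicalComplex.Hom.isIso_of_components _
  have h3 : QuasiIso ((ηCx U).app R.cochainComplex) := by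
    have : QuasiIso (R.ι' ≫ (ηCx U).app R.cochainComplex) := by
      have hn : R.ι' ≫ (ηCx U).app R.cochainComplex = (ηCx U).app S ≫ (ECx U).map R.ι' :=
        (ηCx U).naturality R.ι'
      rw [hn]
      infer_instance
    exact quasiIso_of_comp_left R.ι' _
  obtain ⟨k, rfl⟩ : ∃ k, i = k + 1 := ⟨i - 1, by omega⟩
  refine IsZero.of_iso ?_ (R.isoRightDerivedObj (Scheme.Modules.pushforward f) (k + 1))
  refine (HomologicalComplex.exactAt_iff_isZero_homology _ _).1 ?_
  have hex : ((pushCx f).obj R.cochainComplex).ExactAt ((k : ℤ) + 1) := by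
    refine exactAt_of_secCx (fun B : (Spec (CommRingCat.of A)).affineOpens => B.1)
      (affine_basis (X := Spec (CommRingCat.of A))) _ _ fun B => ?_
    let W' := f ⁻¹ᵁ B.1
    let t : R.cochainComplex ⟶ (ECx U).obj R.cochainComplex := (ηCx U).app R.cochainComplex
    have : QuasiIso t := h3
    have hq : QuasiIso ((secCx W').map ((ηCx U).app R.cochainComplex)) := quasiIso_secCx_of_isKInjective t W'
    have hq2 := quasiIso_secCx S hS R.ι' (isAffineOpen_inf_preimage f hU B.2)
    have hz : IsZero (((secCx (U ⊓ W')).obj S).homology ((k : ℤ) + 1)) :=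
      (HomologicalComplex.exactAt_iff_isZero_homology _ _).1
        (ShortComplex.exact_of_isZero_X₂ _ ((sectionsFunctor X (U ⊓ W')).map_isZero
          (HomologicalComplex.isZero_single_obj_X _ _ _ _ (by omega))))
    change ((secCx W').obj R.cochainComplex).ExactAt ((k : ℤ) + 1)
    rw [HomologicalComplex.exactAt_iff_isZero_homology]
    have := hq
    have := hq2
    exact hz.of_iso (isoOfQuasiIsoAt ((secCx W').map ((ηCx U).app R.cochainComplex)) _ ≪≫
      (HomologicalComplex.homologyFunctor _ _ _).mapIso ((secCxIso U W').app R.cochainComplex) ≪≫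
      (isoOfQuasiIsoAt ((secCx (U ⊓ W')).map R.ι') _).symm)
  rw [HomologicalComplex.exactAt_iff' _ (k : ℤ) ((k : ℤ) + 1) ((k : ℤ) + 1 + 1) (by simp) (by simp)] at hex
  rw [HomologicalComplex.exactAt_iff' _ k (k + 1) (k + 1 + 1) (by simp) (by simp)]
  refine ShortComplex.exact_of_iso ?_ hex
  let F := Scheme.Modules.pushforward f
  refine ShortComplex.isoMk (F.mapIso (R.cochainComplexXIso _ k rfl))
    (F.mapIso (R.cochainComplexXIso _ (k + 1) (by push_cast; rfl)))
    (F.mapIso (R.cochainComplexXIso _ (k + 1 + 1) (by push_cast; rfl))) ?_ ?_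
  · change F.map _ ≫ F.map _ = F.map _ ≫ F.map _
    rw [← F.map_comp, ← F.map_comp, R.cochainComplex_d _ _ k (k + 1) rfl (by push_cast; rfl)]
    simp
  · change F.map _ ≫ F.map _ = F.map _ ≫ F.map _
    rw [← F.map_comp, ← F.map_comp,
      R.cochainComplex_d _ _ (k + 1) (k + 1 + 1) (by push_cast; rfl) (by push_cast; rfl)]
    simp

theorem IsPiece.acy [IsAffineHom (pullback.diagonal f)] [HasInjectiveResolutions X.Modules] {M : X.Modules} (h : IsPiece M) :
    CohDerLib.Acyclic.Acy (Scheme.Modules.pushforward f) M := by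
  induction h with
  | push hU hM => exact acy_resPush f hU _ hM
  | zero h => exact fun i _ => Functor.map_isZero _ h
  | biprod _ _ h₁ h₂ => exact CohDerLib.Acyclic.acy_biprod h₁ h₂
  | iso e _ h => exact CohDerLib.Acyclic.acy_of_iso e h

/-- complexes of pieces compute `RΓ` -/
theorem nonempty_iso_of_piece [QuasiCompact f] [IsAffineHom (pullback.diagonal f)] [HTor.HasRΓA f]
    (S : CochainComplex X.Modules ℤ) (h : ∀ i, IsPiece (S.X i)) :
    Nonempty (DRing.toD ((gA f).obj S) ≅ (HTor.RΓA f).obj (DCoh.toD X S)) := by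
  have : EnoughInjectives X.Modules := IsGrothendieckAbelian.enoughInjectives
  have := quasiSeparated_of_affineDiag f
  exact nonempty_iso_of_acy f S (fun i => (h i).qcoh f) fun i => (h i).acy f

/-- the homotopy functor of sections -/
noncomputable abbrev secD (W : X.Opens) :
    HomotopyCategory X.Modules (ComplexShape.up ℤ) ⥤ DerivedCategory AddCommGrpCat.{u} :=
  (sectionsFunctor X W).mapHomotopyCategory (ComplexShape.up ℤ) ⋙ DerivedCategory.Qh

/-- a map is invertible for `secD` iff it is a quasi-isomorphism on sections -/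
theorem isIso_secD_iff (W : X.Opens) {K L : CochainComplex X.Modules ℤ} (s : K ⟶ L) :
    IsIso ((HomotopyCategory.quotient X.Modules (ComplexShape.up ℤ) ⋙ secD W).map s) ↔
      QuasiIso ((secCx W).map s) := by
  rw [← DerivedCategory.isIso_Q_map_iff_quasiIso]
  exact (NatIso.isIso_map_iff ((Functor.associator _ _ _).symm ≪≫
    Functor.isoWhiskerRight ((sectionsFunctor X W).mapHomotopyCategoryFactors (ComplexShape.up ℤ)) _ ≪≫
    Functor.associator _ _ _ ≪≫
    Functor.isoWhiskerLeft _ (DerivedCategory.quotientCompQhIso AddCommGrpCat.{u})) s)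

/-- projecting a mapping cocone to the summand opposite to an invertible component -/
theorem quasiIso_fst_comp (W : X.Opens) {K₁ K₂ K L : CochainComplex X.Modules ℤ} (φ : K ⟶ L)
    (i₁ : K₁ ⟶ K) (i₂ : K₂ ⟶ K) (p₁ : K ⟶ K₁) (p₂ : K ⟶ K₂) (h₁ : i₁ ≫ p₁ = 𝟙 K₁) (h₂ : i₂ ≫ p₁ = 0)
    (ht : p₁ ≫ i₁ + p₂ ≫ i₂ = 𝟙 K) (hv : QuasiIso ((secCx W).map (i₂ ≫ φ))) :
    QuasiIso ((secCx W).map (CochainComplex.mappingCocone.fst φ ≫ p₁)) := by
  let q := HomotopyCategory.quotient X.Modules (ComplexShape.up ℤ)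
  let H := q ⋙ secD W
  let T₀ := q.mapTriangle.obj (CochainComplex.mappingCocone.triangle φ)
  have hT₀ : T₀ ∈ distinguishedTriangles := by
    refine (rotate_distinguished_triangle _).2 (isomorphic_distinguished _
      (HomotopyCategory.mappingCone_triangleh_distinguished φ) _ ?_)
    exact (q.mapTriangleRotateIso).app _ ≪≫
      q.mapTriangle.mapIso (CochainComplex.mappingCocone.rotateTriangleIso φ)
  have hT := (secD W).map_distinguished _ hT₀
  have : IsIso (H.map i₂ ≫ H.map φ) := by
    rw [← H.map_comp]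
    exact (isIso_secD_iff W _).2 hv
  refine (isIso_secD_iff W _).1 ?_
  have e : IsIso (H.map (CochainComplex.mappingCocone.fst φ) ≫ H.map p₁) :=
    @isIso_mor₁_comp _ _ _ _ _ _ _ ((secD W).mapTriangle.obj T₀) hT _ _ (H.map i₁) (H.map i₂) (H.map p₁)
      (H.map p₂) ((H.map_comp _ _).symm.trans ((congrArg H.map h₁).trans (H.map_id _)))
      ((H.map_comp _ _).symm.trans ((congrArg H.map h₂).trans (Functor.map_zero H _ _)))
      ((congrArg₂ (· + ·) (H.map_comp _ _).symm (H.map_comp _ _).symm).trans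
        ((Functor.map_add H).symm.trans ((congrArg H.map ht).trans (H.map_id _)))) this
  rw [← H.map_comp] at e
  exact e

/-- terms of mapping cocones -/
noncomputable def coconeXIso {K L : CochainComplex X.Modules ℤ} (φ : K ⟶ L) (n : ℤ) :
    (CochainComplex.mappingCocone φ).X n ≅ K.X n ⊞ L.X (n + -1) :=
  HomologicalComplex.homotopyCofiber.XIsoBiprod φ (n + -1) n (by simp)

/-- resolutions from finite affine coverings -/
theorem exists_res [IsAffineHom (pullback.diagonal f)] (P : CochainComplex X.Modules ℤ) (hP : ∀ i, (P.X i).IsQuasicoherent)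
    (Pr : X.Modules → Prop) (hPr₀ : ∀ M, IsZero M → Pr M) (hPr₁ : ∀ {M N : X.Modules}, Pr M → Pr N → Pr (M ⊞ N))
    (hPr₂ : ∀ {M N : X.Modules}, (M ≅ N) → Pr M → Pr N)
    (hPr₃ : ∀ {U : X.Opens}, IsAffineOpen U → ∀ {M : X.Modules}, Pr M → Pr ((ZClos.resPush U).obj M))
    (hPrP : ∀ i, Pr (P.X i)) :
    ∀ l : List X.Opens, (∀ U ∈ l, IsAffineOpen U) →
      ∃ (R : CochainComplex X.Modules ℤ) (a : P ⟶ R), (∀ i, IsPiece (R.X i) ∧ Pr (R.X i)) ∧
        (∀ b : ℤ, (∀ i, b < i → IsZero (P.X i)) → ∀ i, b + l.length ≤ i → IsZero (R.X i)) ∧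
        (∀ c : ℤ, (∀ i, i < c → IsZero (P.X i)) → ∀ i, i < c → IsZero (R.X i)) ∧
        ∀ U ∈ l, ∀ W : X.Opens, IsAffineOpen W → W ≤ U → QuasiIso ((secCx W).map a) := by
  intro l
  induction l with
  | nil =>
    intro _
    have hz : ∀ i, IsZero ((0 : CochainComplex X.Modules ℤ).X i) := fun i =>
      (HomologicalComplex.eval X.Modules (ComplexShape.up ℤ) i).map_isZero (isZero_zero _)
    exact ⟨0, 0, fun i => ⟨.zero (hz i), hPr₀ _ (hz i)⟩, fun _ _ i _ => hz i, fun _ _ i _ => hz i,
      fun U hU => (List.not_mem_nil hU).elim⟩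
  | cons U l ih =>
    intro hl
    obtain ⟨R, a, hR, hRb, hRc, hRq⟩ := ih fun V hV => hl V (List.mem_cons_of_mem _ hV)
    have hU := hl U List.mem_cons_self
    let φ : (ECx U).obj P ⊞ R ⟶ (ECx U).obj R := biprod.desc ((ECx U).map a) (-(ηCx U).app R)
    let α : P ⟶ (ECx U).obj P ⊞ R := biprod.lift ((ηCx U).app P) a
    have hnat : (ηCx U).app P ≫ (ECx U).map a = a ≫ (ηCx U).app R := ((ηCx U).naturality a).symm
    have hαφ : α ≫ φ = 0 := by
      simp only [α, φ, biprod.lift_desc, Preadditive.comp_neg, hnat, add_neg_cancel]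
    let a' : P ⟶ CochainComplex.mappingCocone φ :=
      CochainComplex.mappingCocone.lift φ α 0 (by simp [hαφ])
    have ha' : a' ≫ CochainComplex.mappingCocone.fst φ = α := CochainComplex.mappingCocone.lift_fst _ _ _ _
    let e : ∀ n, (CochainComplex.mappingCocone φ).X n ≅
        (((ECx U).obj P).X n ⊞ R.X n) ⊞ ((ECx U).obj R).X (n + -1) := fun n =>
      coconeXIso φ n ≪≫ biprod.mapIso ((HomologicalComplex.biprodXIso ((ECx U).obj P) R n)) (Iso.refl _)
    have hz : ∀ {M N : X.Modules}, IsZero M → IsZero N → IsZero (M ⊞ N) := fun hM hN => by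
      rw [IsZero.iff_id_eq_zero]
      exact biprod.hom_ext' _ _ (hM.eq_of_src _ _) (hN.eq_of_src _ _)
    refine ⟨_, a', fun i => ⟨.iso (e i).symm (.biprod (.biprod (.push hU (hP i)) (hR i).1)
        (.push hU ((hR _).1.qcoh f))),
      hPr₂ (e i).symm (hPr₁ (hPr₁ (hPr₃ hU (hPrP i)) (hR i).2) (hPr₃ hU (hR _).2))⟩,
      fun b hb i hi => ?_, fun c hc i hi => ?_, fun V hV W hW hWV => ?_⟩
    · simp only [List.length_cons] at hi
      push_cast at hi
      exact (hz (hz ((ZClos.resPush U).map_isZero (hb i (by omega))) (hRb b hb i (by omega)))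
        ((ZClos.resPush U).map_isZero (hRb b hb _ (by omega)))).of_iso (e i)
    · exact (hz (hz ((ZClos.resPush U).map_isZero (hc i hi)) (hRc c hc i hi))
        ((ZClos.resPush U).map_isZero (hRc c hc _ (by omega)))).of_iso (e i)
    · rcases List.mem_cons.1 hV with rfl | hVl
      · have h1 : QuasiIso ((secCx W).map (biprod.inr ≫ φ)) := by
          have := isIso_unit_sec hWV R
          rw [biprod.inr_desc, Functor.map_neg]
          have : IsIso (-(secCx W).map ((ηCx V).app R)) :=
            ⟨-inv ((secCx W).map ((ηCx V).app R)), by simp, by simp⟩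
          infer_instance
        have h2 := quasiIso_fst_comp W φ biprod.inl biprod.inr biprod.fst biprod.snd biprod.inl_fst
          biprod.inr_fst biprod.total h1
        have h3 : QuasiIso ((secCx W).map (a' ≫ CochainComplex.mappingCocone.fst φ ≫ biprod.fst)) := by
          rw [← Category.assoc, ha', biprod.lift_fst]
          have := isIso_unit_sec hWV P
          infer_instance
        rw [Functor.map_comp] at h3
        exact quasiIso_of_comp_right _ ((secCx W).map (CochainComplex.mappingCocone.fst φ ≫ biprod.fst))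
      · have h1 : QuasiIso ((secCx W).map (biprod.inl ≫ φ)) := by
          rw [biprod.inl_desc]
          have := hRq V hVl (U ⊓ W) (isAffineOpen_inf f hU hW) (inf_le_right.trans hWV)
          have e := Arrow.isoMk' ((secCx W).map ((ECx U).map a)) ((secCx (U ⊓ W)).map a)
            ((secCxIso U W).app P) ((secCxIso U W).app R) ((secCxIso U W).hom.naturality a).symm
          exact (quasiIso_iff_of_arrow_mk_iso _ _ e).2 this
        have h2 := quasiIso_fst_comp W φ biprod.inr biprod.inl biprod.snd biprod.fst biprod.inr_snd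
          biprod.inl_snd (by rw [add_comm]; exact biprod.total) h1
        have h3 : QuasiIso ((secCx W).map (a' ≫ CochainComplex.mappingCocone.fst φ ≫ biprod.snd)) := by
          rw [← Category.assoc, ha', biprod.lift_snd]
          exact hRq V hVl W hW hWV
        rw [Functor.map_comp] at h3
        exact quasiIso_of_comp_right _ ((secCx W).map (CochainComplex.mappingCocone.fst φ ≫ biprod.snd))

/-- global resolutions by pieces -/
theorem exists_pieceRes [IsAffineHom (pullback.diagonal f)] (N : ℕ) (U : Fin (N + 1) → X.Opens) (hU : ∀ i, IsAffineOpen (U i))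
    (hcov : ⨆ i, U i = ⊤) (P : CochainComplex X.Modules ℤ) (hP : ∀ i, (P.X i).IsQuasicoherent)
    (Pr : X.Modules → Prop) (hPr₀ : ∀ M, IsZero M → Pr M) (hPr₁ : ∀ {M N : X.Modules}, Pr M → Pr N → Pr (M ⊞ N))
    (hPr₂ : ∀ {M N : X.Modules}, (M ≅ N) → Pr M → Pr N)
    (hPr₃ : ∀ {U : X.Opens}, IsAffineOpen U → ∀ {M : X.Modules}, Pr M → Pr ((ZClos.resPush U).obj M))
    (hPrP : ∀ i, Pr (P.X i)) :
    ∃ (R : CochainComplex X.Modules ℤ) (a : P ⟶ R), QuasiIso a ∧ (∀ i, IsPiece (R.X i) ∧ Pr (R.X i)) ∧
      (∀ b : ℤ, (∀ i, b < i → IsZero (P.X i)) → ∀ i, b + N < i → IsZero (R.X i)) ∧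
      (∀ c : ℤ, (∀ i, i < c → IsZero (P.X i)) → ∀ i, i < c → IsZero (R.X i)) := by
  obtain ⟨R, a, h₁, h₂, h₃, h₄⟩ := exists_res f P hP Pr hPr₀ hPr₁ hPr₂ hPr₃ hPrP (List.ofFn U)
    (fun V hV => by obtain ⟨i, rfl⟩ := List.mem_ofFn.1 hV; exact hU i)
  refine ⟨R, a, ?_, h₁, fun b hb i hi => h₂ b hb i ?_, h₃⟩
  · refine quasiIso_of_secCx (fun p : {p : X.affineOpens // ∃ i, p.1 ≤ U i} => p.1.1) (fun V x hx => ?_) a
      fun p => ?_
    · obtain ⟨i, hi⟩ := Opens.mem_iSup.1 (show x ∈ ⨆ i, U i from hcov.ge trivial)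
      obtain ⟨B, hxB, hBle⟩ := affine_basis (V ⊓ U i) x ⟨hx, hi⟩
      exact ⟨⟨B, i, hBle.trans inf_le_right⟩, hxB, hBle.trans inf_le_left⟩
    · obtain ⟨i, hi⟩ := p.2
      exact h₄ (U i) (List.mem_ofFn.2 ⟨i, rfl⟩) _ p.1.2 hi
  · simp only [List.length_ofFn]
    push_cast
    omega

end Groth.Agent.HTor95.Piece
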