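import Groth.Agent.CohDerLib.QC.AcyPush
import Groth.Agent.KFlat.RGamma
import Groth.Agent.KFlat.DerivedLimit
import Groth.Agent.KFlat.Products
import Groth.Agent.PerfTri.QCohHom
import Groth.Agent.QCoh.Qcqs
import Groth.Prelude.Def_HTor
import Mathlib.Algebra.Homology.HomologicalComplexAbelian

/-!
# Sections of complexes of quasi-coherent modules and `RΓ` with values in `D(A)`
-/

set_option autoImplicit false

universe u

open CategoryTheory CategoryTheory.Limits AlgebraicGeometry DerivedCategory Pretriangulated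
open Groth.Agent.KFlat Groth.Agent.KFlat.RPush Groth.Agent.KFlat.QCohAcy Groth.Agent.KFlat.TruncHom
open Groth.Agent.CohDerLib.QC (sec sec_comp sec_zero)
open Groth.Agent.QCoh (sectionsFunctor)
open Groth.Agent.KFlat.WeakKInj Groth.Agent.DTrunc Groth.Agent.KFlat.Pull

attribute [local instance] HasDerivedCategory.standard

namespace Groth.Agent.HTor95.Rg

variable {X : Scheme.{u}}

/-- the sections of a complex over an open -/
noncomputable abbrev secCx (V : X.Opens) :
    CochainComplex X.Modules ℤ ⥤ CochainComplex AddCommGrpCat.{u} ℤ :=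
  (sectionsFunctor X V).mapHomologicalComplex (ComplexShape.up ℤ)

lemma prev_eq {m j : ℤ} (h : j + 1 = m) : (ComplexShape.up ℤ).prev m = j :=
  (ComplexShape.up ℤ).prev_eq' h

/-- maps out of free modules on affine opens see complexes with quasi-coherent cohomology degreewise -/
theorem Φ_free_bijective {V : X.Opens} (hV : IsAffineOpen V) (K : DCoh.D X) (hK : DCoh.IsQCohD K)
    (m : ℤ) : Function.Bijective (Φ (free V) m K) := by
  have : HasProduct (DerivedLimit.tw K) := Products.hasProduct _
  exact DerivedLimit.Φ_bijective (P₀ := fun U : X.affineOpens => free U.1)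
    (fun f hf => eq_zero_of_free_comp f hf) (fun U j => acy_free U.2 (good_of_qcoh _ (hK j)))
    (fun j => acy_free hV (good_of_qcoh _ (hK j))) m

/-- the homology map of a map out of a single object given by a cocycle without class is zero -/
theorem homologyMap_single_eq_zero {A : Type*} [Category A] [Abelian A] {P : A}
    {I : CochainComplex A ℤ} (m : ℤ) (g : P ⟶ I.cycles m) (hg : g ≫ I.homologyπ m = 0)
    (φ : (HomologicalComplex.single A (ComplexShape.up ℤ) m).obj P ⟶ I)
    (hφ : φ.f m = (HomologicalComplex.singleObjXSelf (ComplexShape.up ℤ) m P).hom ≫ g ≫ I.iCycles m) :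
    HomologicalComplex.homologyMap φ m = 0 := by
  rw [← cancel_epi (HomologicalComplex.homologyπ _ m), HomologicalComplex.homologyπ_naturality,
    comp_zero]
  have h : HomologicalComplex.cyclesMap φ m =
      HomologicalComplex.iCycles _ m ≫ (HomologicalComplex.singleObjXSelf (ComplexShape.up ℤ) m P).hom ≫ g := by
    rw [← cancel_mono (I.iCycles m), HomologicalComplex.cyclesMap_i, hφ]
    simp only [Category.assoc]
  rw [h, Category.assoc, Category.assoc, hg, comp_zero, comp_zero]

/-- cocycles of K-injective complexes without local classes are coboundaries on affine opens -/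
theorem exists_boundary {V : X.Opens} (hV : IsAffineOpen V) (I : CochainComplex X.Modules ℤ)
    [I.IsKInjective] (hI : DCoh.IsQCohD (Q.obj I : DCoh.D X)) (m : ℤ) (e : Γ(I.cycles m, V))
    (he : (I.homologyπ m).app V e = 0) :
    ∃ w : Γ(I.X (m - 1), V), (I.d (m - 1) m).app V w = (I.iCycles m).app V e := by
  let g : free V ⟶ I.cycles m := (sec V _).symm e
  have hg : g ≫ I.homologyπ m = 0 := by
    apply (sec V _).injective
    rw [sec_comp, sec_zero, Equiv.apply_symm_apply]
    exact he
  let φ : (HomologicalComplex.single X.Modules (ComplexShape.up ℤ) m).obj (free V) ⟶ I :=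
    HomologicalComplex.mkHomFromSingle (c := ComplexShape.up ℤ) (g ≫ I.iCycles m)
      (fun k _ => by rw [Category.assoc, I.iCycles_d, comp_zero])
  have hH : HomologicalComplex.homologyMap φ m = 0 :=
    homologyMap_single_eq_zero m g hg φ (HomologicalComplex.mkHomFromSingle_f _ _)
  have h0 : (homologyFunctor X.Modules m).map (Q.map φ) = 0 := by
    rw [← cancel_mono ((homologyFunctorFactors X.Modules m).hom.app I)]
    refine ((homologyFunctorFactors X.Modules m).hom.naturality φ).trans ?_
    rw [zero_comp]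
    exact (congrArg ((homologyFunctorFactors X.Modules m).hom.app _ ≫ ·) hH).trans comp_zero
  have hφ : (singleQIso m (free V)).hom ≫ Q.map φ = 0 := by
    refine (Φ_free_bijective hV _ hI m).1 ?_
    rw [map_zero, Φ_apply, Functor.map_comp, h0, comp_zero, comp_zero]
  have hφ' : Q.map φ = 0 := zero_of_epi_comp _ hφ
  obtain ⟨hh⟩ := Groth.Agent.DHA.KInj.homotopy_of_Q_map_eq (f := φ) (g := 0) (hφ'.trans (Q.map_zero _ _).symm)
  let w' := (HomologicalComplex.singleObjXSelf (ComplexShape.up ℤ) m (free V)).inv ≫ hh.hom m (m - 1)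
  have hw' : w' ≫ I.d (m - 1) m = g ≫ I.iCycles m := by
    have hc := hh.comm m
    rw [dNext_eq _ (show (ComplexShape.up ℤ).Rel m (m + 1) from rfl),
      prevD_eq _ (show (ComplexShape.up ℤ).Rel (m - 1) m from sub_add_cancel m 1),
      HomologicalComplex.single_obj_d, zero_comp, zero_add, HomologicalComplex.zero_f, add_zero] at hc
    rw [Category.assoc, ← hc]
    simp [φ]
  refine ⟨sec V _ w', ?_⟩
  have h2 := congrArg (sec V (I.X m)) hw'
  rw [sec_comp V w', sec_comp V g, Equiv.apply_symm_apply] at h2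
  exact h2

/-- lifts of sections killed by the differential to cycles -/
theorem exists_cycle (K : CochainComplex X.Modules ℤ) (V : X.Opens) (m : ℤ) (a : Γ(K.X m, V))
    (ha : (K.d m (m + 1)).app V a = 0) : ∃ c : Γ(K.cycles m, V), (K.iCycles m).app V c = a :=
  Groth.Agent.QCoh.exists_app_eq_of_app_eq_zero
    (ShortComplex.mk (K.iCycles m) (K.d m (m + 1)) (K.iCycles_d m (m + 1)))
    (ShortComplex.exact_of_f_is_kernel _ (K.cyclesIsKernel m (m + 1) (by simp))) V a ha

lemma app_comp_apply {L M N : X.Modules} (φ : L ⟶ M) (ψ : M ⟶ N) (V : X.Opens) (x : Γ(L, V)) :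
    (φ ≫ ψ).app V x = ψ.app V (φ.app V x) := by
  rw [Scheme.Modules.Hom.comp_app]; rfl

/-- on affine opens, cocycles of quasi-coherent complexes without classes are coboundaries -/
theorem exists_boundary_qcoh (P : CochainComplex X.Modules ℤ) (hP : ∀ i, (P.X i).IsQuasicoherent)
    {V : X.Opens} (hV : IsAffineOpen V) (m : ℤ) (c : Γ(P.cycles m, V))
    (hc : (P.homologyπ m).app V c = 0) :
    ∃ b : Γ(P.X (m - 1), V), (P.d (m - 1) m).app V b = (P.iCycles m).app V c := by
  let S := ShortComplex.mk (P.toCycles (m - 1) m) (P.homologyπ m) (P.toCycles_comp_homologyπ _ _)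
  have hS : S.Exact := ShortComplex.exact_of_g_is_cokernel _ (P.homologyIsCokernel (m - 1) m (by simp))
  let t : P.X (m - 1) ⟶ kernel (P.homologyπ m) := kernel.lift _ (P.toCycles (m - 1) m) (P.toCycles_comp_homologyπ _ _)
  have : Epi t := hS.epi_kernelLift
  have hh : ∀ i, (P.homology i).IsQuasicoherent := fun i =>
    @PerfTri.QCohHom.isQuasicoherent_homology X P hP i
  have hz : (P.cycles m).IsQuasicoherent :=
    @Groth.Agent.QCoh.isQuasicoherent_of_iso X _ _
      ((kernelIsKernel _).conePointUniqueUpToIso (P.cyclesIsKernel m (m + 1) (by simp)))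
      (@Groth.Agent.QCoh.isQuasicoherent_kernel X _ _ (P.d m (m + 1)) (hP _) (hP _))
  have := hP (m - 1)
  have := hh m
  have : (kernel (P.homologyπ m)).IsQuasicoherent := Groth.Agent.QCoh.isQuasicoherent_kernel _
  obtain ⟨k, hk⟩ := Groth.Agent.QCoh.exists_app_eq_of_app_eq_zero
    (ShortComplex.mk (kernel.ι (P.homologyπ m)) (P.homologyπ m) (kernel.condition _))
    (ShortComplex.exact_of_f_is_kernel _ (kernelIsKernel _)) V c hc
  obtain ⟨b, hb⟩ := Groth.Agent.QCoh.app_surjective_of_epi t hV k
  refine ⟨b, ?_⟩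
  have h1 : (P.toCycles (m - 1) m).app V b = c := by
    rw [show P.toCycles (m - 1) m = t ≫ kernel.ι _ from (kernel.lift_ι _ _ _).symm, app_comp_apply, hb]
    exact hk
  rw [← P.toCycles_i (m - 1) m, app_comp_apply, h1]

/-- a criterion for quasi-isomorphisms of complexes of abelian groups -/
theorem quasiIso_of_elements {K L : CochainComplex AddCommGrpCat.{u} ℤ} (φ : K ⟶ L)
    (hlift : ∀ (m : ℤ) (z : L.X m), L.d m (m + 1) z = 0 →
      ∃ (a : K.X m) (w : L.X (m - 1)), K.d m (m + 1) a = 0 ∧ L.d (m - 1) m w = φ.f m a - z)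
    (hnear : ∀ (m : ℤ) (a : K.X m) (y : L.X (m - 1)), K.d m (m + 1) a = 0 →
      L.d (m - 1) m y = φ.f m a → ∃ b, K.d (m - 1) m b = a) :
    QuasiIso φ := by
  refine (quasiIso_iff _).2 fun n => ?_
  rw [quasiIsoAt_iff_isIso_homologyMap, ConcreteCategory.isIso_iff_bijective]
  have surjπ : ∀ (M : CochainComplex AddCommGrpCat.{u} ℤ), Function.Surjective (M.homologyπ n) := fun M =>
    (AddCommGrpCat.epi_iff_surjective _).1 inferInstance
  have zeroπ : ∀ (M : CochainComplex AddCommGrpCat.{u} ℤ) (c : M.cycles n),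
      M.homologyπ n c = 0 ↔ ∃ b, M.d (n - 1) n b = M.iCycles n c := fun M c => by
    have hex : (ShortComplex.mk (M.toCycles (n - 1) n) (M.homologyπ n) (M.toCycles_comp_homologyπ _ _)).Exact :=
      ShortComplex.exact_of_g_is_cokernel _ (M.homologyIsCokernel (n - 1) n (by simp))
    have hi : Function.Injective (M.iCycles n) := (AddCommGrpCat.mono_iff_injective _).1 inferInstance
    constructor
    · intro h
      obtain ⟨b, hb⟩ := (ShortComplex.ab_exact_iff _).1 hex c h
      refine ⟨b, ?_⟩
      rw [← hb, ← M.toCycles_i (n - 1) n, ConcreteCategory.comp_apply]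
    · rintro ⟨b, hb⟩
      have : M.toCycles (n - 1) n b = c := hi (by rw [← ConcreteCategory.comp_apply, M.toCycles_i, hb])
      rw [← this, ← ConcreteCategory.comp_apply, M.toCycles_comp_homologyπ]
      rfl
  have cyc : ∀ (M : CochainComplex AddCommGrpCat.{u} ℤ) (a : M.X n), M.d n (n + 1) a = 0 →
      ∃ c : M.cycles n, M.iCycles n c = a := fun M a ha =>
    (ShortComplex.ab_exact_iff _).1
      (ShortComplex.exact_of_f_is_kernel (ShortComplex.mk (M.iCycles n) (M.d n (n + 1)) (M.iCycles_d n (n + 1)))
        (M.cyclesIsKernel n (n + 1) (by simp))) a ha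
  have hd : ∀ (M : CochainComplex AddCommGrpCat.{u} ℤ) (c : M.cycles n), M.d n (n + 1) (M.iCycles n c) = 0 :=
    fun M c => by rw [← ConcreteCategory.comp_apply, M.iCycles_d]; rfl
  have hπ : ∀ c : K.cycles n, HomologicalComplex.homologyMap φ n (K.homologyπ n c) =
      L.homologyπ n (HomologicalComplex.cyclesMap φ n c) := fun c =>
    ConcreteCategory.congr_hom (HomologicalComplex.homologyπ_naturality φ n) c
  have hi : ∀ c : K.cycles n, L.iCycles n (HomologicalComplex.cyclesMap φ n c) =
      φ.f n (K.iCycles n c) := fun c =>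
    ConcreteCategory.congr_hom (HomologicalComplex.cyclesMap_i φ n) c
  refine ⟨(injective_iff_map_eq_zero _).2 fun a ha => ?_, fun t => ?_⟩
  · obtain ⟨c, rfl⟩ := surjπ K a
    rw [hπ, zeroπ L] at ha
    obtain ⟨y, hy⟩ := ha
    exact (zeroπ K c).2 (hnear n _ y (hd K c) (hy.trans (hi c)))
  · obtain ⟨c, rfl⟩ := surjπ L t
    obtain ⟨a, w, ha, hw⟩ := hlift n (L.iCycles n c) (hd L c)
    obtain ⟨ac, hac⟩ := cyc K a ha
    refine ⟨K.homologyπ n ac, (hπ ac).trans ?_⟩
    rw [← sub_eq_zero, ← map_sub, zeroπ L]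
    exact ⟨w, hw.trans (by rw [map_sub, hi, hac])⟩

/-- on affine opens the sections of a quasi-coherent complex compute those of its resolutions -/
theorem quasiIso_secCx (P : CochainComplex X.Modules ℤ) (hP : ∀ i, (P.X i).IsQuasicoherent)
    {I : CochainComplex X.Modules ℤ} [I.IsKInjective] (s : P ⟶ I) [QuasiIso s]
    {V : X.Opens} (hV : IsAffineOpen V) : QuasiIso ((secCx V).map s) := by
  have hPq : DCoh.IsQCohD (Q.obj P : DCoh.D X) := QCohModel.isQCohD_Q_of_terms P hP
  have : IsIso (Q.map s) := (DerivedCategory.isIso_Q_map_iff_quasiIso _ _).2 inferInstance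
  have hI : DCoh.IsQCohD (Q.obj I : DCoh.D X) := QCohModel.isQCohD_of_iso (asIso (Q.map s)) hPq
  have hb : ∀ m, Function.Bijective ((HomologicalComplex.homologyMap s m).app V) := fun m => by
    have : IsIso (HomologicalComplex.homologyMap s m) := inferInstance
    exact ConcreteCategory.bijective_of_isIso ((sectionsFunctor X V).map (HomologicalComplex.homologyMap s m))
  have hπs : ∀ (m : ℤ) (c : Γ(P.cycles m, V)), (HomologicalComplex.homologyMap s m).app V ((P.homologyπ m).app V c) =
      (I.homologyπ m).app V ((HomologicalComplex.cyclesMap s m).app V c) := fun m c => by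
    rw [← app_comp_apply, ← app_comp_apply, HomologicalComplex.homologyπ_naturality]
  have his : ∀ (m : ℤ) (c : Γ(P.cycles m, V)), (I.iCycles m).app V ((HomologicalComplex.cyclesMap s m).app V c) =
      (s.f m).app V ((P.iCycles m).app V c) := fun m c => by
    rw [← app_comp_apply, ← app_comp_apply, HomologicalComplex.cyclesMap_i]
  refine quasiIso_of_elements _ (fun m z hz => ?_) (fun m a y ha hy => ?_)
  · change Γ(I.X m, V) at z
    change (I.d m (m + 1)).app V z = 0 at hz
    obtain ⟨c', hc'⟩ := exists_cycle I V m z hz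
    obtain ⟨h, hh⟩ := (hb m).2 ((I.homologyπ m).app V c')
    have hq : ∀ i, (P.homology i).IsQuasicoherent := fun i => @PerfTri.QCohHom.isQuasicoherent_homology X P hP i
    have := hq m
    have : (P.cycles m).IsQuasicoherent :=
      @Groth.Agent.QCoh.isQuasicoherent_of_iso X _ _
        ((kernelIsKernel _).conePointUniqueUpToIso (P.cyclesIsKernel m (m + 1) (by simp)))
        (@Groth.Agent.QCoh.isQuasicoherent_kernel X _ _ (P.d m (m + 1)) (hP _) (hP _))
    obtain ⟨c, hc⟩ := Groth.Agent.QCoh.app_surjective_of_epi (P.homologyπ m) hV h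
    have he : (I.homologyπ m).app V ((HomologicalComplex.cyclesMap s m).app V c - c') = 0 := by
      rw [map_sub, ← hπs, hc, hh, sub_self]
    obtain ⟨w, hw⟩ := exists_boundary hV I hI m _ he
    refine ⟨(P.iCycles m).app V c, w, ?_, ?_⟩
    · show (P.d m (m + 1)).app V ((P.iCycles m).app V c) = 0
      rw [← app_comp_apply, P.iCycles_d]; rfl
    · refine hw.trans ?_
      rw [map_sub, his, hc']
      rfl
  · change Γ(P.X m, V) at a
    change (P.d m (m + 1)).app V a = 0 at ha
    change Γ(I.X (m - 1), V) at y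
    change (I.d (m - 1) m).app V y = (s.f m).app V a at hy
    obtain ⟨c, hc⟩ := exists_cycle P V m a ha
    have h0 : (P.homologyπ m).app V c = 0 := by
      refine (hb m).1 ?_
      rw [map_zero, hπs]
      have : (HomologicalComplex.cyclesMap s m).app V c = (I.toCycles (m - 1) m).app V y := by
        refine Groth.Agent.QCoh.app_injective_of_mono (I.iCycles m) V ?_
        rw [his, hc, ← hy, ← app_comp_apply, I.toCycles_i]
      rw [this, ← app_comp_apply, I.toCycles_comp_homologyπ]
      rfl
    obtain ⟨b, hb'⟩ := exists_boundary_qcoh P hP hV m c h0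
    exact ⟨b, hb'.trans hc⟩

section RΓA

variable {A : Type u} [CommRing A] (f : X ⟶ Spec (CommRingCat.of A))

/-- global sections as complexes of `A`-modules -/
noncomputable abbrev gA : CochainComplex X.Modules ℤ ⥤ DRing.Cx A :=
  (HTor.globalSectionsA f).mapHomologicalComplex (ComplexShape.up ℤ)

/-- the underlying groups of the global sections over `A` -/
noncomputable def forgetIso :
    gA f ⋙ (forget₂ (ModuleCat.{u} A) AddCommGrpCat.{u}).mapHomologicalComplex (ComplexShape.up ℤ) ≅
      pushCx f ⋙ secCx (⊤ : (Spec (CommRingCat.of A)).Opens) :=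
  Iso.refl _

theorem quasiIso_gA {K L : CochainComplex X.Modules ℤ} (s : K ⟶ L)
    (h : QuasiIso ((secCx (⊤ : (Spec (CommRingCat.of A)).Opens)).map ((pushCx f).map s))) :
    QuasiIso ((gA f).map s) :=
  (HomologicalComplex.quasiIso_map_iff_of_preservesHomology ((gA f).map s)
    (forget₂ (ModuleCat.{u} A) AddCommGrpCat.{u})).1 h

/-- `RΓ` of a K-injective complex -/
theorem nonempty_iso_of_isKInjective [HTor.HasRΓA f] (I : CochainComplex X.Modules ℤ) [I.IsKInjective] :
    Nonempty (DRing.toD ((gA f).obj I) ≅ (HTor.RΓA f).obj (DCoh.toD X I)) := by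
  let W := HomotopyCategory.quasiIso X.Modules (ComplexShape.up ℤ)
  let u := (HTor.gammaAKh f).totalRightDerivedUnit DerivedCategory.Qh W
  let q := HomotopyCategory.quotient X.Modules (ComplexShape.up ℤ)
  have : IsIso (u.app (q.obj I)) :=
    RightDerived.HasEnough.isIso_app (W := W) (HTor.RΓA f) u (RightDerived.hasEnough (HTor.gammaAKh f))
      (RightDerived.isGood_quotient (HTor.gammaAKh f) I)
  exact ⟨((DerivedCategory.quotientCompQhIso (ModuleCat.{u} A)).app _).symm ≪≫
    DerivedCategory.Qh.mapIso (((HTor.globalSectionsA f).mapHomotopyCategoryFactors (ComplexShape.up ℤ)).app I).symm ≪≫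
    asIso (u.app (q.obj I)) ≪≫
    (HTor.RΓA f).mapIso ((DerivedCategory.quotientCompQhIso X.Modules).app I)⟩

/-- complexes of acyclic quasi-coherent modules compute `RΓ` -/
theorem nonempty_iso_of_acy [QuasiCompact f] [QuasiSeparated f] [HasInjectiveResolutions X.Modules]
    [HTor.HasRΓA f] (S : CochainComplex X.Modules ℤ) (hq : ∀ i, (S.X i).IsQuasicoherent)
    (hac : ∀ i, CohDerLib.Acyclic.Acy (Scheme.Modules.pushforward f) (S.X i)) :
    Nonempty (DRing.toD ((gA f).obj S) ≅ (HTor.RΓA f).obj (DCoh.toD X S)) := by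
  have := hasRpush f
  obtain ⟨I, s, hI, hs⟩ := Products.exists_isKInjective_resolution S
  have hQs : IsIso (Q.map s) := (DerivedCategory.isIso_Q_map_iff_quasiIso _ _).2 hs
  have hpush : QuasiIso ((pushCx f).map s) := by
    refine (DerivedCategory.isIso_Q_map_iff_quasiIso _ _).1 ?_
    have h₁ := CohDerLib.QC.isIso_toRpush_of_acyclic f S hq hac
    have h₂ := isIso_toRpush f I
    have h₃ : IsIso ((Q ⋙ DCoh.Rpush f).map s) := inferInstanceAs (IsIso ((DCoh.Rpush f).map (Q.map s)))
    have : IsIso ((pushQ f).map s ≫ (toRpush f).app I) := by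
      rw [(toRpush f).naturality s]; exact IsIso.comp_isIso' h₁ h₃
    exact IsIso.of_isIso_comp_right ((pushQ f).map s) ((toRpush f).app I)
  let J := (injRes (Spec (CommRingCat.of A))).obj ((pushCx f).obj I)
  let t : (pushCx f).obj I ⟶ J := (injι _).app _
  have ht : QuasiIso t := inferInstanceAs (QuasiIso ((injι _).app _))
  have hq' : ∀ i, (((pushCx f).obj S).X i).IsQuasicoherent := fun i =>
    have := hq i
    Groth.Agent.QCoh.isQuasicoherent_pushforward f (S.X i)
  have h₁ : QuasiIso ((secCx ⊤).map ((pushCx f).map s ≫ t)) :=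
    quasiIso_secCx _ hq' _ (isAffineOpen_top _)
  have h₂ : QuasiIso ((secCx ⊤).map t) :=
    RGamma.quasiIso_gamma t (WeakKInj.push f (WeakKInj.of_isKInjective I)) (WeakKInj.of_isKInjective J)
  have h₃ : QuasiIso ((secCx (⊤ : (Spec (CommRingCat.of A)).Opens)).map ((pushCx f).map s)) := by
    rw [Functor.map_comp] at h₁
    exact quasiIso_of_comp_right _ ((secCx ⊤).map t)
  have := quasiIso_gA f s h₃
  have : IsIso (Q.map ((gA f).map s)) := (DerivedCategory.isIso_Q_map_iff_quasiIso _ _).2 inferInstance
  obtain ⟨e⟩ := nonempty_iso_of_isKInjective f I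
  exact ⟨asIso (Q.map ((gA f).map s)) ≪≫ e ≪≫ ((HTor.RΓA f).mapIso (asIso (Q.map s))).symm⟩

end RΓA

end Groth.Agent.HTor95.Rg
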