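import Groth.Agent.HTor95.Cone

/-!
# The long exact sequence of `L ⊗ next K`
-/

universe u

open CategoryTheory CategoryTheory.Limits MonoidalCategory
open scoped TensorProduct

attribute [local instance] HasDerivedCategory.standard

namespace Groth.Agent.HTor95.Seq

open DRing.Tensor DRing.Homology Te Cone

variable {A : Type u} [CommRing A] (L K : CochainComplex (ModuleCat.{u} A) ℤ)

theorem te_congr {P : CochainComplex (ModuleCat.{u} A) ℤ} {p q n : ℤ} (h : p + q = n) {x x' : L.X p}
    {y y' : P.X q} (hx : x = x') (hy : y = y') : te L P p q n h x y = te L P p q n h x' y' := by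
  subst hx hy; rfl

/-- The section of `L ◁ proj`. -/
noncomputable def ss (n : ℤ) : (L ⊗ E K).X n →ₗ[A] (L ⊗ next K).X n :=
  desc fun p q h => (te L (next K) p q n h).compl₂ (LinearMap.inl A (G K (q + 1)) (K.X q))

/-- The retraction of `L ◁ inc`. -/
noncomputable def rr (n : ℤ) : (L ⊗ next K).X n →ₗ[A] (L ⊗ K).X n :=
  desc fun p q h => (te L K p q n h).compl₂ (LinearMap.snd A (G K (q + 1)) (K.X q))

/-- The connecting map on cochains. -/
noncomputable def TT (n m : ℤ) (h : n + 1 = m) : (L ⊗ E K).X n →ₗ[A] (L ⊗ K).X m :=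
  desc fun p q hpq => sg A p • (te L K p (q + 1) m (by omega)).compl₂ (lift K (q + 1))

theorem ss_te (p q n : ℤ) (h : p + q = n) (x : L.X p) (f : G K (q + 1)) :
    ss L K n (te L (E K) p q n h x f) = te L (next K) p q n h x (f, 0) := by
  rw [ss, desc_te]; rfl

theorem rr_te (p q n : ℤ) (h : p + q = n) (x : L.X p) (y : (next K).X q) :
    rr L K n (te L (next K) p q n h x y) = te L K p q n h x y.2 := by
  rw [rr, desc_te]; rfl

theorem TT_te (p q n m : ℤ) (h : p + q = n) (hm : n + 1 = m) (x : L.X p) (f : G K (q + 1)) :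
    TT L K n m hm (te L (E K) p q n h x f) =
      sg A p • te L K p (q + 1) m (by omega) x (lift K (q + 1) f) := by
  rw [TT, desc_te]; rfl

theorem decomp (n : ℤ) (w : (L ⊗ next K).X n) :
    ss L K n (((L ◁ proj K).f n).hom w) + ((L ◁ inc K).f n).hom (rr L K n w) = w := by
  induction w using te_induction with
  | zero => simp only [map_zero, add_zero]
  | add a b ha hb =>
    simp only [map_add]
    conv_rhs => rw [← ha, ← hb]
    abel
  | te p q h x y =>
    refine (congrArg₂ (· + ·) ((congrArg (ss L K n) (map_te (proj K) p q n h x y)).trans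
      (ss_te L K p q n h x y.1)) ((congrArg ((L ◁ inc K).f n).hom (rr_te L K p q n h x y)).trans
      (map_te (inc K) p q n h x y.2))).trans ?_
    refine (map_add (te L (next K) p q n h x) _ _).symm.trans (te_congr L h rfl ?_)
    exact Prod.ext (add_zero y.1) (zero_add y.2)

theorem proj_ss (n : ℤ) (e : (L ⊗ E K).X n) : ((L ◁ proj K).f n).hom (ss L K n e) = e := by
  induction e using te_induction with
  | zero => simp only [map_zero]
  | add a b ha hb => simp only [map_add, ha, hb]
  | te p q h x f => exact (congrArg _ (ss_te L K p q n h x f)).trans (map_te (proj K) p q n h x _)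

theorem proj_inc (n : ℤ) (r : (L ⊗ K).X n) : ((L ◁ proj K).f n).hom (((L ◁ inc K).f n).hom r) = 0 := by
  induction r using te_induction with
  | zero => simp only [map_zero]
  | add a b ha hb => simp only [map_add, ha, hb, add_zero]
  | te p q h x y =>
    exact ((congrArg _ (map_te (inc K) p q n h x y)).trans (map_te (proj K) p q n h x _)).trans
      (map_zero (te L (E K) p q n h x))

theorem rr_ss (n : ℤ) (e : (L ⊗ E K).X n) : rr L K n (ss L K n e) = 0 := by
  induction e using te_induction with
  | zero => simp only [map_zero]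
  | add a b ha hb => simp only [map_add, ha, hb, add_zero]
  | te p q h x f =>
    exact ((congrArg _ (ss_te L K p q n h x f)).trans (rr_te L K p q n h x _)).trans
      (map_zero (te L K p q n h x))

theorem rr_inc (n : ℤ) (r : (L ⊗ K).X n) : rr L K n (((L ◁ inc K).f n).hom r) = r := by
  induction r using te_induction with
  | zero => simp only [map_zero]
  | add a b ha hb => simp only [map_add, ha, hb]
  | te p q h x y =>
    exact (congrArg _ (map_te (inc K) p q n h x y)).trans (rr_te L K p q n h x _)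

theorem d_E_te (p q n n' : ℤ) (h : p + q = n) (hn : n + 1 = n') (x : L.X p) (f : G K (q + 1)) :
    ((L ⊗ E K).d n n').hom (te L (E K) p q n h x f) =
      te L (E K) (p + 1) q n' (by omega) ((L.d p (p + 1)).hom x) f := by
  refine (d_te (L := L) (P := E K) p q n n' h hn x f).trans ?_
  rw [show ((E K).d q (q + 1)).hom f = 0 from rfl, map_zero, smul_zero, add_zero]

theorem d_ss (n m : ℤ) (hm : n + 1 = m) (e : (L ⊗ E K).X n) :
    ((L ⊗ next K).d n m).hom (ss L K n e) =
      ss L K m (((L ⊗ E K).d n m).hom e) + ((L ◁ inc K).f m).hom (TT L K n m hm e) := by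
  induction e using te_induction with
  | zero => simp only [map_zero, add_zero]
  | add a b ha hb => simp only [map_add, ha, hb]; abel
  | te p q h x f =>
    rw [ss_te, d_te p q n m h hm, d_E_te L K p q n m h hm, ss_te, TT_te, map_smul,
      map_te (inc K) p (q + 1) m]
    congr 2
    refine te_congr L _ rfl ((next_d_apply K q f 0).trans (Prod.ext rfl ?_))
    show lift K (q + 1) f + (K.d q (q + 1)).hom 0 = _
    rw [map_zero, add_zero]
    rfl

theorem d_TT (n m k : ℤ) (hm : n + 1 = m) (hk : m + 1 = k) (e : (L ⊗ E K).X n) :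
    ((L ⊗ K).d m k).hom (TT L K n m hm e) = -TT L K m k hk (((L ⊗ E K).d n m).hom e) := by
  induction e using te_induction with
  | zero => simp only [map_zero, neg_zero]
  | add a b ha hb => simp only [map_add, ha, hb]; abel
  | te p q h x f =>
    rw [TT_te, map_smul, d_te p (q + 1) m k (by omega) hk, d_E_te L K p q n m h hm, TT_te,
      show (K.d (q + 1) (q + 1 + 1)).hom (lift K (q + 1) f) = 0 from lift_d K _ _ f,
      map_zero, smul_zero, add_zero, sg_succ, neg_smul, neg_neg]

/-- The connecting map. -/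
noncomputable def conn (n m : ℤ) (hm : n + 1 = m) : (L ⊗ E K).homology n →ₗ[A] (L ⊗ K).homology m :=
  mapH (TT L K n m hm)
    (fun z hz => by
      refine (d_TT L K n m (m + 1) hm rfl z).trans ?_
      rw [(isCyc_iff hm z).1 hz, map_zero, neg_zero])
    fun j hj w => ⟨j + 1, by omega, -TT L K j (j + 1) rfl w, by
      subst hj
      rw [map_neg, d_TT L K j (j + 1) m rfl hm, neg_neg]⟩

theorem conn_cls (n m : ℤ) (hm : n + 1 = m) (e : (L ⊗ E K).X n) (he : IsCyc (L ⊗ E K) n e)
    (hT : IsCyc (L ⊗ K) m (TT L K n m hm e)) :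
    conn L K n m hm (cls e he) = cls (TT L K n m hm e) hT :=
  mapH_cls _ _ _ e he

/-- The maps induced on homology. -/
noncomputable abbrev incH (n : ℤ) : (L ⊗ K).homology n →ₗ[A] (L ⊗ next K).homology n :=
  (HomologicalComplex.homologyMap (L ◁ inc K) n).hom

noncomputable abbrev projH (n : ℤ) : (L ⊗ next K).homology n →ₗ[A] (L ⊗ E K).homology n :=
  (HomologicalComplex.homologyMap (L ◁ proj K) n).hom

theorem projH_incH (n : ℤ) (a : (L ⊗ K).homology n) : projH L K n (incH L K n a) = 0 := by
  obtain ⟨z, hz, rfl⟩ := cls_surjective a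
  rw [incH, homologyMap_cls, projH, homologyMap_cls]
  exact (cls_congr (proj_inc L K n z) _).trans (cls_zero n)

theorem ker_incH (n m : ℤ) (hm : n + 1 = m) :
    LinearMap.ker (incH L K m) = LinearMap.range (conn L K n m hm) := by
  refine le_antisymm (fun a ha => ?_) ?_
  · obtain ⟨z, hz, rfl⟩ := cls_surjective a
    rw [LinearMap.mem_ker, incH, homologyMap_cls] at ha
    obtain ⟨w, hw⟩ := (cls_eq_zero_iff n hm _).1 ha
    have hd := hw
    rw [← decomp L K n w, map_add, d_ss L K n m hm] at hd
    have he : IsCyc (L ⊗ E K) n (((L ◁ proj K).f n).hom w) := by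
      rw [isCyc_iff hm, hom_d, hw, proj_inc]
    rw [(isCyc_iff hm _).1 he, map_zero, zero_add, hom_d (L ◁ inc K)] at hd
    have hd2 := congrArg (rr L K m) hd
    rw [map_add, rr_inc, rr_inc, rr_inc] at hd2
    have hT : IsCyc (L ⊗ K) m (TT L K n m hm (((L ◁ proj K).f n).hom w)) := by
      refine (d_TT L K n m (m + 1) hm rfl _).trans ?_
      rw [(isCyc_iff hm _).1 he, map_zero, neg_zero]
    refine ⟨cls _ he, ?_⟩
    rw [conn_cls L K n m hm _ he hT]
    refine (cls_eq_iff n hm _ _).2 ⟨-rr L K n w, ?_⟩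
    rw [map_neg, ← hd2]
    abel
  · rintro _ ⟨a, rfl⟩
    obtain ⟨e, he, rfl⟩ := cls_surjective a
    have hT : IsCyc (L ⊗ K) m (TT L K n m hm e) := by
      refine (d_TT L K n m (m + 1) hm rfl _).trans ?_
      rw [(isCyc_iff hm _).1 he, map_zero, neg_zero]
    rw [LinearMap.mem_ker, conn_cls L K n m hm _ he hT, incH, homologyMap_cls]
    refine (cls_eq_zero_iff n hm _).2 ⟨ss L K n e, ?_⟩
    rw [d_ss L K n m hm, (isCyc_iff hm _).1 he, map_zero, zero_add]

theorem ker_conn (n m : ℤ) (hm : n + 1 = m) :
    LinearMap.ker (conn L K n m hm) = LinearMap.range (projH L K n) := by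
  refine le_antisymm (fun a ha => ?_) ?_
  · obtain ⟨e, he, rfl⟩ := cls_surjective a
    have hT : IsCyc (L ⊗ K) m (TT L K n m hm e) := by
      refine (d_TT L K n m (m + 1) hm rfl _).trans ?_
      rw [(isCyc_iff hm _).1 he, map_zero, neg_zero]
    rw [LinearMap.mem_ker, conn_cls L K n m hm _ he hT] at ha
    obtain ⟨r, hr⟩ := (cls_eq_zero_iff n hm _).1 ha
    have hw : IsCyc (L ⊗ next K) n (ss L K n e - ((L ◁ inc K).f n).hom r) := by
      rw [isCyc_iff hm, map_sub, d_ss L K n m hm, hom_d, hr, (isCyc_iff hm _).1 he, map_zero,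
        zero_add, sub_self]
    refine ⟨cls _ hw, ?_⟩
    rw [projH, homologyMap_cls]
    exact cls_congr (by rw [map_sub, proj_ss, proj_inc, sub_zero]) _
  · rintro _ ⟨a, rfl⟩
    obtain ⟨w, hw, rfl⟩ := cls_surjective a
    have he := isCyc_map (L ◁ proj K) hw
    have hT : IsCyc (L ⊗ K) m (TT L K n m hm (((L ◁ proj K).f n).hom w)) := by
      refine (d_TT L K n m (m + 1) hm rfl _).trans ?_
      rw [(isCyc_iff hm _).1 he, map_zero, neg_zero]
    have hd := (isCyc_iff hm _).1 hw
    rw [← decomp L K n w, map_add, d_ss L K n m hm, (isCyc_iff hm _).1 he, map_zero, zero_add,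
      hom_d (L ◁ inc K)] at hd
    have hd2 := congrArg (rr L K m) hd
    rw [map_add, rr_inc, rr_inc, map_zero] at hd2
    rw [LinearMap.mem_ker, projH, homologyMap_cls, conn_cls L K n m hm _ he hT]
    exact (cls_eq_zero_iff n hm _).2 ⟨-rr L K n w, by rw [map_neg, eq_neg_of_add_eq_zero_left hd2]⟩

end Groth.Agent.HTor95.Seq
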