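import Groth.Agent.HTor95.Extend
import Groth.Agent.DRing.SingleTensor
import Mathlib.CategoryTheory.Abelian.Projective.Extend
import Mathlib.CategoryTheory.Monoidal.Tor
import Groth.Prelude.Def_DRing2

/-!
# `Tor` through resolutions of either factor
-/

universe u

open CategoryTheory CategoryTheory.Limits MonoidalCategory

namespace Groth.Agent.HTor95.Tor

open DRing.Tensor DRing.KFlat DRing.SingleTensor

variable {A : Type u} [CommRing A]

/-- `M ↦ K ⊗ M`. -/
noncomputable def tensorCxF (K : _root_.DRing.Cx A) : (ModuleCat.{u} A) ⥤ _root_.DRing.Cx A where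
  obj M := (((tensoringRight (ModuleCat.{u} A)).obj M).mapHomologicalComplex (ComplexShape.up ℤ)).obj K
  map g := (NatTrans.mapHomologicalComplex ((tensoringRight (ModuleCat.{u} A)).map g) (ComplexShape.up ℤ)).app K
  map_id M := HomologicalComplex.hom_ext _ _ fun n => MonoidalCategory.whiskerLeft_id _ _
  map_comp f g := HomologicalComplex.hom_ext _ _ fun n => MonoidalCategory.whiskerLeft_comp _ _ _

/-- `M ↦ H^i(K ⊗ M)`. -/
noncomputable abbrev tensorH (K : _root_.DRing.Cx A) (i : ℤ) : (ModuleCat.{u} A) ⥤ (ModuleCat.{u} A) :=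
  tensorCxF K ⋙ HomologicalComplex.homologyFunctor (ModuleCat.{u} A) _ i

section Comm

variable (M : (ModuleCat.{u} A))

/-- `M ⊗ - ≅ - ⊗ M`. -/
noncomputable def commIso : (tensoringLeft (ModuleCat.{u} A)).obj M ≅ (tensoringRight (ModuleCat.{u} A)).obj M :=
  NatIso.ofComponents (fun X => β_ M X) (fun f => BraidedCategory.braiding_naturality_right M f)

end Comm

theorem three_sq {C : Type*} [Category C] {X₁ X₂ X₃ X₄ Y₁ Y₂ Y₃ Y₄ : C} (a : X₁ ≅ X₂) (b : X₂ ≅ X₃)
    (c : X₃ ≅ X₄) (a' : Y₁ ≅ Y₂) (b' : Y₂ ≅ Y₃) (c' : Y₃ ≅ Y₄) {f₁ : X₁ ⟶ Y₁} {f₂ : X₂ ⟶ Y₂}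
    {f₃ : X₃ ⟶ Y₃} {f₄ : X₄ ⟶ Y₄} (h1 : f₁ ≫ a'.hom = a.hom ≫ f₂) (h2 : f₂ ≫ b'.hom = b.hom ≫ f₃)
    (h3 : f₃ ≫ c'.hom = c.hom ≫ f₄) : f₁ ≫ (a' ≪≫ b' ≪≫ c').hom = (a ≪≫ b ≪≫ c).hom ≫ f₄ := by
  simp only [Iso.trans_hom, Category.assoc]
  rw [reassoc_of% h1, reassoc_of% h2, h3]

theorem inv_sq {C : Type*} [Category C] {X₁ X₂ Y₁ Y₂ : C} (a : X₁ ≅ X₂) (a' : Y₁ ≅ Y₂) {f₁ : X₁ ⟶ Y₁}
    {f₂ : X₂ ⟶ Y₂} (h : f₁ ≫ a'.hom = a.hom ≫ f₂) : f₂ ≫ a'.symm.hom = a.symm.hom ≫ f₁ := by
  rw [Iso.symm_hom, Iso.symm_hom, Iso.eq_inv_comp, ← reassoc_of% h, Iso.hom_inv_id, Category.comp_id]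

theorem map_sq {C D : Type*} [Category C] [Category D] (F : C ⥤ D) {X₁ X₂ Y₁ Y₂ : C} (a : X₁ ≅ X₂)
    (a' : Y₁ ≅ Y₂) {f₁ : X₁ ⟶ Y₁} {f₂ : X₂ ⟶ Y₂} (h : f₁ ≫ a'.hom = a.hom ≫ f₂) :
    F.map f₁ ≫ (F.mapIso a').hom = (F.mapIso a).hom ≫ F.map f₂ := by
  simp only [Functor.mapIso_hom, ← F.map_comp, h]

theorem app_sq {C : Type*} [Category C] {X₁ X₂ X₃ Y₁ Y₂ Y₃ : C} (a : X₁ ≅ X₂) (b : X₂ ≅ X₃)
    (a' : Y₁ ≅ Y₂) (b' : Y₂ ≅ Y₃) {f₁ : X₁ ⟶ Y₁} {h : X₂ ⟶ Y₂} {f₂ : X₃ ⟶ Y₃}
    (h1 : f₁ = a.hom ≫ h ≫ a'.inv) (h2 : h ≫ b'.hom = b.hom ≫ f₂) :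
    f₁ ≫ (a' ≪≫ b').hom = (a ≪≫ b).hom ≫ f₂ := by
  simp only [Iso.trans_hom, h1, Category.assoc, Iso.inv_hom_id_assoc, h2]

theorem hom_sq {C : Type*} [Category C] {K₁ K₂ L₁ L₂ : C} {D : Type*} [Category D] (F : C ⥤ D)
    {a : K₁ ⟶ K₂} {a' : L₁ ⟶ L₂} {f₁ : K₁ ⟶ L₁} {f₂ : K₂ ⟶ L₂} (h : f₁ ≫ a' = a ≫ f₂) :
    F.map f₁ ≫ F.map a' = F.map a ≫ F.map f₂ := by
  rw [← F.map_comp, ← F.map_comp, h]

section Chain

variable {N : (ModuleCat.{u} A)} (R : ProjectiveResolution N)

/-- `H_n(M ⊗ R) ≅ H^{-n}(R ⊗ M)`. -/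
noncomputable def chainIso (M : (ModuleCat.{u} A)) (n : ℕ) :
    ((((tensoringLeft (ModuleCat.{u} A)).obj M).mapHomologicalComplex (ComplexShape.down ℕ)).obj R.complex).homology n ≅
      ((tensorCxF R.cochainComplex).obj M).homology (-(n : ℤ)) :=
  (HomologicalComplex.homologyFunctor (ModuleCat.{u} A) _ n).mapIso
      ((NatIso.mapHomologicalComplex (commIso M) (ComplexShape.down ℕ)).app R.complex) ≪≫
    (HomologicalComplex.extendHomologyIso _ ComplexShape.embeddingDownNat rfl).symm ≪≫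
      (HomologicalComplex.homologyFunctor (ModuleCat.{u} A) _ (-(n : ℤ))).mapIso
        (Extend.mapExtendIso ((tensoringRight (ModuleCat.{u} A)).obj M) R.complex ComplexShape.embeddingDownNat).symm

/-- `Tor_n(M, N)` through a resolution of `N`. -/
noncomputable def torIso (M : (ModuleCat.{u} A)) (n : ℕ) :
    ((CategoryTheory.Tor (ModuleCat.{u} A) n).obj M).obj N ≅ ((tensorCxF R.cochainComplex).obj M).homology (-(n : ℤ)) :=
  R.isoLeftDerivedObj ((tensoringLeft (ModuleCat.{u} A)).obj M) n ≪≫ chainIso R M n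

theorem chainIso_natural {M M' : (ModuleCat.{u} A)} (g : M ⟶ M') (n : ℕ) :
    HomologicalComplex.homologyMap
        ((NatTrans.mapHomologicalComplex ((tensoringLeft (ModuleCat.{u} A)).map g) (ComplexShape.down ℕ)).app R.complex) n ≫
      (chainIso R M' n).hom = (chainIso R M n).hom ≫ (tensorH R.cochainComplex (-(n : ℤ))).map g := by
  have hsq : ((NatTrans.mapHomologicalComplex ((tensoringLeft (ModuleCat.{u} A)).map g) (ComplexShape.down ℕ)).app R.complex) ≫
      ((NatIso.mapHomologicalComplex (commIso M') (ComplexShape.down ℕ)).app R.complex).hom =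
    ((NatIso.mapHomologicalComplex (commIso M) (ComplexShape.down ℕ)).app R.complex).hom ≫
      (NatTrans.mapHomologicalComplex ((tensoringRight (ModuleCat.{u} A)).map g) (ComplexShape.down ℕ)).app R.complex := by
    refine HomologicalComplex.hom_ext _ _ fun i => ?_
    exact BraidedCategory.braiding_naturality_left g (R.complex.X i)
  have hext := Extend.mapExtendIso_natural ((tensoringRight (ModuleCat.{u} A)).obj M) R.complex
    ((tensoringRight (ModuleCat.{u} A)).map g) (ComplexShape.embeddingDownNat)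
  exact three_sq _ _ _ _ _ _ (map_sq (HomologicalComplex.homologyFunctor _ _ n) _ _ hsq)
    (inv_sq _ _ (Extend.extendHomologyIso_natural _ ComplexShape.embeddingDownNat rfl))
    (map_sq (HomologicalComplex.homologyFunctor _ _ (-(n : ℤ))) _ _ (inv_sq _ _ hext))

/-- `Tor_n(-, N) ≅ H^{-n}(R ⊗ -)`. -/
noncomputable def flipIso (n : ℕ) :
    (CategoryTheory.Tor (ModuleCat.{u} A) n).flip.obj N ≅ tensorH R.cochainComplex (-(n : ℤ)) :=
  NatIso.ofComponents (fun M => torIso R M n) fun {M M'} g => by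
    show (NatTrans.leftDerived ((tensoringLeft (ModuleCat.{u} A)).map g) n).app N ≫ _ = _
    exact app_sq _ _ _ _ (R.leftDerived_app_eq ((tensoringLeft (ModuleCat.{u} A)).map g) n)
      (chainIso_natural R g n)

theorem chainIso_natural' {N' : (ModuleCat.{u} A)} (R' : ProjectiveResolution N') (M : (ModuleCat.{u} A))
    (φ : R.complex ⟶ R'.complex) (n : ℕ) :
    HomologicalComplex.homologyMap ((((tensoringLeft (ModuleCat.{u} A)).obj M).mapHomologicalComplex _).map φ) n ≫
      (chainIso R' M n).hom = (chainIso R M n).hom ≫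
        HomologicalComplex.homologyMap
          ((((tensoringRight (ModuleCat.{u} A)).obj M).mapHomologicalComplex (ComplexShape.up ℤ)).map
            (HomologicalComplex.extendMap φ ComplexShape.embeddingDownNat)) (-(n : ℤ)) := by
  have hsq : ((((tensoringLeft (ModuleCat.{u} A)).obj M).mapHomologicalComplex (ComplexShape.down ℕ)).map φ) ≫
      ((NatIso.mapHomologicalComplex (commIso M) (ComplexShape.down ℕ)).app R'.complex).hom =
    ((NatIso.mapHomologicalComplex (commIso M) (ComplexShape.down ℕ)).app R.complex).hom ≫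
      ((((tensoringRight (ModuleCat.{u} A)).obj M).mapHomologicalComplex (ComplexShape.down ℕ)).map φ) := by
    refine HomologicalComplex.hom_ext _ _ fun i => ?_
    exact BraidedCategory.braiding_naturality_right M (φ.f i)
  have hext := Extend.mapExtendIso_natural' ((tensoringRight (ModuleCat.{u} A)).obj M) R.complex φ ComplexShape.embeddingDownNat
  exact three_sq _ _ _ _ _ _ (map_sq (HomologicalComplex.homologyFunctor _ _ n) _ _ hsq)
    (inv_sq _ _ (Extend.extendHomologyIso_natural _ ComplexShape.embeddingDownNat rfl))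
    (map_sq (HomologicalComplex.homologyFunctor _ _ (-(n : ℤ))) _ _ (inv_sq _ _ hext))

end Chain

section Balance

/-- The cochain complex of a resolution is K-flat. -/
theorem isKFlat_coch {N : (ModuleCat.{u} A)} (R : ProjectiveResolution N) : IsKFlat R.cochainComplex :=
  isKFlat_of_boundedAbove_flat _ 0 (fun i hi => CochainComplex.isZero_of_isStrictlyLE _ 0 i hi)
    fun i =>
      have : Module.Projective A (R.cochainComplex.X i) :=
        (IsProjective.iff_projective _).2 (inferInstanceAs (Projective (R.cochainComplex.X i)))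
      inferInstance

/-- `N ↦ H^i(P ⊗ N[0])`. -/
noncomputable def singleH (P : _root_.DRing.Cx A) (i : ℤ) : (ModuleCat.{u} A) ⥤ (ModuleCat.{u} A) :=
  CochainComplex.singleFunctor (ModuleCat.{u} A) 0 ⋙ TL P ⋙ HomologicalComplex.homologyFunctor (ModuleCat.{u} A) _ i

variable {M : (ModuleCat.{u} A)} (P : ProjectiveResolution M)

/-- `P.π'` with the target written through `S0`. -/
noncomputable abbrev aug : P.cochainComplex ⟶ S0 M := P.π'

instance quasiIso_aug : QuasiIso (aug P) := inferInstanceAs (QuasiIso P.π')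

instance quasiIso_whiskerRight_aug {N : (ModuleCat.{u} A)} (R : ProjectiveResolution N) :
    QuasiIso (aug P ▷ R.cochainComplex) :=
  quasiIso_whiskerRight (isKFlat_coch R) _

instance quasiIso_whiskerLeft_aug {N : (ModuleCat.{u} A)} (R : ProjectiveResolution N) :
    QuasiIso (P.cochainComplex ◁ aug R) :=
  quasiIso_whiskerLeft (isKFlat_coch P) _

/-- Balancing. -/
noncomputable def balIso {N : (ModuleCat.{u} A)} (R : ProjectiveResolution N) (i : ℤ) :
    ((tensorCxF R.cochainComplex).obj M).homology i ≅ (singleH P.cochainComplex i).obj N :=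
  (HomologicalComplex.homologyFunctor (ModuleCat.{u} A) _ i).mapIso (DRing.SingleTensor.iso M R.cochainComplex) ≪≫
    (asIso (HomologicalComplex.homologyMap (aug P ▷ R.cochainComplex) i)).symm ≪≫
      (show (P.cochainComplex ⊗ R.cochainComplex).homology i ≅ (P.cochainComplex ⊗ S0 N).homology i from
        asIso (HomologicalComplex.homologyMap (P.cochainComplex ◁ aug R) i))

theorem balIso_natural {N N' : (ModuleCat.{u} A)} (R : ProjectiveResolution N) (R' : ProjectiveResolution N')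
    {f : N ⟶ N'} (φ : R.cochainComplex ⟶ R'.cochainComplex)
    (hφ : φ ≫ R'.π' = R.π' ≫ (CochainComplex.singleFunctor (ModuleCat.{u} A) 0).map f) (i : ℤ) :
    HomologicalComplex.homologyMap
        ((((tensoringRight (ModuleCat.{u} A)).obj M).mapHomologicalComplex (ComplexShape.up ℤ)).map φ) i ≫ (balIso P R' i).hom =
      (balIso P R i).hom ≫ (singleH P.cochainComplex i).map f := by
  have h1 := DRing.SingleTensor.iso_natural M φ
  have h2 : aug P ▷ R.cochainComplex ≫ S0 M ◁ φ = P.cochainComplex ◁ φ ≫ aug P ▷ R'.cochainComplex :=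
    (whisker_exchange (aug P) φ).symm
  have h3 : P.cochainComplex ◁ φ ≫ P.cochainComplex ◁ aug R' =
      P.cochainComplex ◁ aug R ≫ (TL P.cochainComplex).map ((CochainComplex.singleFunctor (ModuleCat.{u} A) 0).map f) :=
    ((MonoidalCategory.whiskerLeft_comp _ _ _).symm.trans (congrArg (P.cochainComplex ◁ ·) hφ)).trans
      (MonoidalCategory.whiskerLeft_comp _ _ _)
  let H := HomologicalComplex.homologyFunctor (ModuleCat.{u} A) (ComplexShape.up ℤ) i
  exact three_sq _ _ _ _ _ _ (map_sq H _ _ h1)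
    (inv_sq (asIso (HomologicalComplex.homologyMap (aug P ▷ R.cochainComplex) i))
      (asIso (HomologicalComplex.homologyMap (aug P ▷ R'.cochainComplex) i)) (hom_sq H h2.symm))
    (hom_sq H h3)

/-- `Tor_n(M, -) ≅ H^{-n}(P ⊗ (-)[0])` for a resolution `P` of `M`. -/
noncomputable def objIso (n : ℕ) :
    (CategoryTheory.Tor (ModuleCat.{u} A) n).obj M ≅ singleH P.cochainComplex (-(n : ℤ)) :=
  NatIso.ofComponents (fun N => (projectiveResolution N).isoLeftDerivedObj ((tensoringLeft (ModuleCat.{u} A)).obj M) n ≪≫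
    chainIso (projectiveResolution N) M n ≪≫ balIso P (projectiveResolution N) (-(n : ℤ))) fun {N N'} f => by
    let R := projectiveResolution N
    let R' := projectiveResolution N'
    let φ := ProjectiveResolution.lift f R R'
    have hφπ : φ ≫ R'.π = R.π ≫ (ChainComplex.single₀ (ModuleCat.{u} A)).map f := ProjectiveResolution.lift_commutes f R R'
    have hφ : φ.f 0 ≫ R'.π.f 0 = R.π.f 0 ≫ f := by
      have h := congrArg (fun ψ => ψ.f 0) hφπ
      simpa using h
    let Φ : ProjectiveResolution.Hom R R' f := ⟨φ, hφ⟩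
    have h1 := R.isoLeftDerivedObj_hom_naturality f R' φ hφ ((tensoringLeft (ModuleCat.{u} A)).obj M) n
    exact three_sq (R.isoLeftDerivedObj ((tensoringLeft (ModuleCat.{u} A)).obj M) n) (chainIso R M n)
      (balIso P R (-(n : ℤ))) _ (chainIso R' M n) (balIso P R' (-(n : ℤ))) h1
      (chainIso_natural' R R' M φ n) (balIso_natural P R R' Φ.hom' Φ.hom'_comp_π' _)

end Balance

end Groth.Agent.HTor95.Tor
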